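import Cfsg.Agent.H228.E3L2a

/-!
# The elimination of `PSL₂(q)`, `q` odd (helper228)

* `kill_l2_four` : a coclique of four primes at least five in `G`: `S` is not `PSL₂(q)`;
* `kill_l2_three` : a coclique of three primes, one of them missing.
-/

set_option autoImplicit false
set_option linter.unusedSectionVars false

namespace Cfsg.Agent.H228.E3

open Subgroup Cfsg
open Cfsg.Agent.H72.WGr (OCoc)
open Cfsg.Agent.H425.KStep Cfsg.Agent.H425

universe u v

theorem dvd_half {n m : ℕ} (hn : 2 ∣ n) (hm : m ∣ n) (hco : Nat.Coprime m 2) : m ∣ n / 2 := by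
  obtain ⟨k, hk⟩ := hn
  rw [hk, Nat.mul_div_cancel_left _ two_pos]
  rw [hk] at hm
  exact hco.dvd_of_dvd_mul_left hm

theorem cop2 {r : ℕ} (hr : r.Prime) (h5 : 5 ≤ r) : Nat.Coprime r 2 :=
  (Nat.coprime_primes hr Nat.prime_two).2 (by omega)

/-- the spectrum of `PSL₂(q)`, `q` odd -/
theorem mem_l2 {F : Type v} [Field F] [Fintype F] {p f : ℕ} (hp : p.Prime) (hp2 : p ≠ 2)
    (hF : Fintype.card F = p ^ f) [CharP F p] (h4 : 4 ≤ Fintype.card F) (m : ℕ) :
    (∃ x : Matrix.ProjectiveSpecialLinearGroup (Fin 2) F, orderOf x = m) ↔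
      (m ∣ p ∨ m ∣ (p ^ f - 1) / 2 ∨ m ∣ (p ^ f + 1) / 2) := by
  have := Fact.mk hp
  have h1 := Set.ext_iff.1 (S2475.result (F := F) p h4) m
  rw [hF] at h1
  have h2 : Nat.gcd 2 (p ^ f - 1) = 2 := by
    have h3 : p ^ f % 2 = 1 := Nat.odd_iff.1 ((hp.odd_of_ne_two hp2).pow)
    exact Nat.gcd_eq_left (by omega)
  rw [h2] at h1
  exact h1

theorem l2_count {F : Type v} [Field F] [Fintype F] {p f : ℕ} (hp : p.Prime) (hp2 : p ≠ 2)
    (hF : Fintype.card F = p ^ f) [CharP F p] (h4 : 4 ≤ Fintype.card F) {S : Type u} [Group S] [Finite S]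
    (e : S ≃* Matrix.ProjectiveSpecialLinearGroup (Fin 2) F) {D : Finset ℕ} (hD : Coq5 S D) :
    (∀ r ∈ D, r = p ∨ r ∣ p ^ f + 1 ∨ r ∣ p ^ f - 1) ∧
      D.card ≤ (if p ∈ D then 1 else 0) + 1 + (if ∃ d ∈ D, d ∣ p ^ f - 1 then 1 else 0) := by
  have mem := fun m => (ord_congr e (n := m)).trans (mem_l2 hp hp2 hF h4 m)
  have hodd : p ^ f % 2 = 1 := Nat.odd_iff.1 ((hp.odd_of_ne_two hp2).pow)
  have e1 : 2 ∣ p ^ f - 1 := by omega
  have e2 : 2 ∣ p ^ f + 1 := by omega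
  have hcls : ∀ r ∈ D, r = p ∨ r ∣ p ^ f + 1 ∨ r ∣ p ^ f - 1 := by
    intro r hr
    have hrp := hD.1.prime r hr
    have := Fact.mk hrp
    obtain ⟨x, hx⟩ := exists_prime_orderOf_dvd_card' r (hD.1.dvd r hr)
    rcases (mem r).1 ⟨x, hx⟩ with h | h | h
    · exact Or.inl ((Nat.prime_dvd_prime_iff_eq hrp hp).1 h)
    · exact Or.inr (Or.inr (h.trans (Nat.div_dvd_of_dvd e1)))
    · exact Or.inr (Or.inl (h.trans (Nat.div_dvd_of_dvd e2)))
  refine ⟨hcls, ?_⟩
  convert count hD hcls ?_ ?_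
  · intro r hr s hs hrs h1 h2
    have hrp := hD.1.prime r hr
    have hsp := hD.1.prime s hs
    exact (mem _).2 (Or.inr (Or.inr (dvd_half e2 (Nat.Coprime.mul_dvd_of_dvd_of_dvd ((Nat.coprime_primes hrp hsp).2 hrs) h1 h2)
      (Nat.Coprime.mul_left (cop2 hrp (hD.2 r hr)) (cop2 hsp (hD.2 s hs))))))
  · intro r hr s hs hrs h1 h2
    have hrp := hD.1.prime r hr
    have hsp := hD.1.prime s hs
    exact (mem _).2 (Or.inr (Or.inl (dvd_half e1 (Nat.Coprime.mul_dvd_of_dvd_of_dvd ((Nat.coprime_primes hrp hsp).2 hrs) h1 h2)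
      (Nat.Coprime.mul_left (cop2 hrp (hD.2 r hr)) (cop2 hsp (hD.2 s hs))))))

/-- a prime of `q - 1` divides the order -/
theorem l2_dvd {F : Type v} [Field F] [Fintype F] {p f : ℕ} (hp : p.Prime) (hp2 : p ≠ 2)
    (hF : Fintype.card F = p ^ f) [CharP F p] (h4 : 4 ≤ Fintype.card F) {S : Type u} [Group S] [Finite S]
    (e : S ≃* Matrix.ProjectiveSpecialLinearGroup (Fin 2) F) {r : ℕ} (hr : r.Prime) (h5 : 5 ≤ r)
    (h : r ∣ p ^ f - 1) : r ∣ Nat.card S := by
  have mem := fun m => (ord_congr e (n := m)).trans (mem_l2 hp hp2 hF h4 m)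
  have hodd : p ^ f % 2 = 1 := Nat.odd_iff.1 ((hp.odd_of_ne_two hp2).pow)
  obtain ⟨x, hx⟩ := (mem r).2 (Or.inr (Or.inl (dvd_half (by omega) h (cop2 hr h5))))
  rw [← hx]
  exact orderOf_dvd_natCard x

variable {G : Type u} [Group G] [Finite G] {K : Subgroup G} [K.Normal] {S : Subgroup (G ⧸ K)} [S.Normal]

section

variable {F : Type v} [Field F] [Fintype F] {p f : ℕ} [CharP F p] {C : Finset ℕ} {r : ℕ}

/-- the missing prime and the kernel -/
theorem l2_K (R : RedL G K S) (hp : p.Prime) (hp2 : p ≠ 2) (hf : 1 ≤ f) (hF : Fintype.card F = p ^ f)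
    (h4 : 4 ≤ Fintype.card F) (e : S ≃* Matrix.ProjectiveSpecialLinearGroup (Fin 2) F) (hC : Coq5 G C)
    (h3 : 3 ≤ C.card) (hr : r ∈ C) (hrS : ¬ r ∣ Nat.card S) (hrK : r ∣ Nat.card K) :
    (∀ w ∈ C.erase r, ¬ w ∣ p ^ f - 1) ∧ p ∈ C ∧ f = 1 ∧ ∃ w ∈ C, w ∣ p + 1 := by
  obtain ⟨h1, h2, -⟩ := R.miss hC h3 hr hrS
  have hrp := hC.1.prime r hr
  have hpS : p ∣ Nat.card S := by
    obtain ⟨x, hx⟩ := ((ord_congr e (n := p)).trans (mem_l2 hp hp2 hF h4 p)).2 (Or.inl dvd_rfl)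
    rw [← hx]
    exact orderOf_dvd_natCard x
  have hpr : p ≠ r := by
    rintro rfl
    exact hrS hpS
  have hw : ∀ w ∈ C.erase r, ¬ w ∣ p ^ f - 1 := by
    intro w hw hd
    have hwC := Finset.mem_of_mem_erase hw
    have hwr := Finset.ne_of_mem_erase hw
    have hwp := hC.1.prime w hwC
    have := R.simple
    refine mov_false K hp hwp hrp hp2 (hC.1.ne2 w hwC) hpr ?_ hwr hrK ?_ S
      ((Mov.congr e).2 (mov_l2 hp hp2 hwp (hC.1.ne2 w hwC) (by rw [hF]; exact hd))) (hC.1.nadj w hwC r hr hwr)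
    · rintro rfl
      have h3 : p ∣ p ^ f := dvd_pow_self p (by omega)
      have h4 : 1 ≤ p ^ f := Nat.one_le_pow _ _ hp.pos
      have h5 := Nat.dvd_sub h3 hd
      rw [Nat.sub_sub_self h4] at h5
      exact hp.one_lt.ne' (Nat.dvd_one.1 h5)
    · exact fun h => h2 w hw (h.mul_right _)
  obtain ⟨hcls, hcard⟩ := l2_count hp hp2 hF h4 e h1
  have hne : ¬ ∃ d ∈ C.erase r, d ∣ p ^ f - 1 := fun ⟨d, hd, h⟩ => hw d hd h
  rw [if_neg hne, Finset.card_erase_of_mem hr] at hcard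
  have hpC : p ∈ C.erase r := by
    by_contra hpC
    rw [if_neg hpC] at hcard
    omega
  have hpC' := Finset.mem_of_mem_erase hpC
  have hf1 : f = 1 := by
    by_contra hf1
    obtain ⟨V, hV, hc⟩ := ncyc_l2 hp hp2 (show 2 ≤ f by omega) hF
    refine hC.1.nadj p hpC' r hr hpr (RedL.ncyc (G := G) (K := K) (S := S) hp hp2 ?_ hrp hpr hrK)
    refine ⟨V.map e.symm.toMonoidHom, hV.map _, fun h1 => hc ?_⟩
    exact isCyclic_of_injective (V.equivMapOfInjective e.symm.toMonoidHom e.symm.injective).toMonoidHom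
      (V.equivMapOfInjective e.symm.toMonoidHom e.symm.injective).injective
  refine ⟨hw, hpC', hf1, ?_⟩
  obtain ⟨w, hwD, hwp⟩ : ∃ w ∈ C.erase r, w ≠ p := by
    by_contra hcon
    push Not at hcon
    have h6 : (C.erase r).card ≤ 1 := by
      rw [Finset.card_le_one]
      intro a ha b hb
      rw [hcon a ha, hcon b hb]
    rw [Finset.card_erase_of_mem hr] at h6
    omega
  refine ⟨w, Finset.mem_of_mem_erase hwD, ?_⟩
  rcases hcls w hwD with h | h | h
  · exact absurd h hwp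
  · rwa [hf1, pow_one] at h
  · exact absurd h (hw w hwD)

/-- the missing prime and the outer automorphisms -/
theorem l2_fpf (hp : p.Prime) (hp2 : p ≠ 2) (hF : Fintype.card F = p ^ f)
    (h4 : 4 ≤ Fintype.card F) (e : S ≃* Matrix.ProjectiveSpecialLinearGroup (Fin 2) F) (hC : Coq5 G C)
    (hr : r ∈ C) (hrS : ¬ r ∣ Nat.card S) (hrK : ¬ r ∣ Nat.card K) (hpC : p ∈ C) : False := by
  have hrp := hC.1.prime r hr
  have hfp := Fact.mk hp
  have hpS : p ∣ Nat.card S := by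
    obtain ⟨x, hx⟩ := ((ord_congr e (n := p)).trans (mem_l2 hp hp2 hF h4 p)).2 (Or.inl dvd_rfl)
    rw [← hx]
    exact orderOf_dvd_natCard x
  have hpr : p ≠ r := by
    rintro rfl
    exact hrS hpS
  have hrQ : r ∣ Nat.card (G ⧸ K) := by
    have h1 := hC.1.dvd r hr
    rw [Subgroup.card_eq_card_quotient_mul_card_subgroup K] at h1
    exact (hrp.dvd_mul.1 h1).resolve_right hrK
  have hna : ¬ ∃ g : G ⧸ K, orderOf g = p * r := by
    rintro ⟨g, hg⟩
    apply hC.1.nadj p hpC r hr hpr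
    obtain ⟨y, rfl⟩ := QuotientGroup.mk'_surjective K g
    have h2 : p * r ∣ orderOf y := by rw [← hg]; exact orderOf_map_dvd _ y
    obtain ⟨k, hk⟩ := h2
    have hk0 : k ≠ 0 := by
      rintro rfl
      rw [mul_zero] at hk
      exact (orderOf_pos y).ne' hk
    refine ⟨y ^ k, ?_⟩
    rw [orderOf_pow_of_dvd hk0 ⟨p * r, by rw [hk, mul_comm]⟩, hk, Nat.mul_div_cancel _ (Nat.pos_of_ne_zero hk0)]
  obtain ⟨U, hUS, hU, hUi, hUr⟩ := fpf hp hrp hrS hrQ hna
  -- the order of `U`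
  have hq1 : 1 ≤ p ^ f := Nat.one_le_pow _ _ hp.pos
  have hodd : p ^ f % 2 = 1 := Nat.odd_iff.1 ((hp.odd_of_ne_two hp2).pow)
  have hcard := Cfsg.Agent.H163.PG.card_psl (F := F) (n := 2) le_rfl
  rw [← Nat.card_congr e.toEquiv, hF] at hcard
  have hg2 : Nat.gcd 2 (p ^ f - 1) = 2 := Nat.gcd_eq_left (by omega)
  rw [hg2] at hcard
  simp only [Nat.add_one_sub_one, mul_one, Nat.reduceDiv, pow_one, Finset.range_one, Finset.prod_singleton, zero_add] at hcard
  have hf0 : f ≠ 0 := by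
    rintro rfl
    rw [hF, pow_zero] at h4
    omega
  have hco : Nat.Coprime p ((p ^ f) ^ 2 - 1) := by
    rw [hp.coprime_iff_not_dvd]
    intro h
    have h3 : p ∣ (p ^ f) ^ 2 := (dvd_pow_self p hf0).trans (dvd_pow_self _ two_ne_zero)
    have h5 := Nat.dvd_sub h3 h
    rw [Nat.sub_sub_self (Nat.one_le_pow _ _ hq1)] at h5
    exact hp.one_lt.ne' (Nat.dvd_one.1 h5)
  obtain ⟨k, hk⟩ := (IsPGroup.iff_card (p := p)).1 hU
  have hmul : U.relIndex S * Nat.card U = Nat.card S := by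
    rw [Subgroup.relIndex, mul_comm, Nat.card_congr (subgroupOfEquivOfLe hUS).toEquiv.symm]
    exact Subgroup.card_mul_index _
  have hUq : Nat.card U = p ^ f := by
    apply Nat.dvd_antisymm
    · have h5 : Nat.card U ∣ p ^ f * ((p ^ f) ^ 2 - 1) := by
        rw [← hcard, ← hmul]
        exact (dvd_mul_left _ _).mul_left 2
      refine Nat.Coprime.dvd_of_dvd_mul_right ?_ h5
      rw [hk]
      exact Nat.Coprime.pow_left k hco
    · have h5 : p ^ f ∣ (2 * U.relIndex S) * Nat.card U := by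
        rw [mul_assoc, hmul, hcard]
        exact dvd_mul_right _ _
      refine Nat.Coprime.dvd_of_dvd_mul_left ?_ h5
      refine Nat.Coprime.pow_left f (Nat.Coprime.mul_right ((Nat.coprime_primes hp Nat.prime_two).2 hp2)
        ((hp.coprime_iff_not_dvd).2 hUi))
  rw [hUq] at hUr
  have h6 : r ∣ p ^ f - 1 := (Nat.modEq_iff_dvd' hq1).1 hUr.symm
  exact hrS (l2_dvd hp hp2 hF h4 e hrp (hC.2 r hr) h6)

/-- **four primes** -/
theorem kill_l2_four (R : RedL G K S) (hp : p.Prime) (hp2 : p ≠ 2) (hf : 1 ≤ f) (hF : Fintype.card F = p ^ f)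
    (h4 : 4 ≤ Fintype.card F) (e : S ≃* Matrix.ProjectiveSpecialLinearGroup (Fin 2) F) (hC : Coq5 G C)
    (hC4 : 4 ≤ C.card) : False := by
  obtain ⟨r, hr, hrS⟩ : ∃ r ∈ C, ¬ r ∣ Nat.card S := by
    by_contra hcon
    push Not at hcon
    have h1 := (l2_count hp hp2 hF h4 e (RedL.coqS (K := K) hC hcon)).2
    split_ifs at h1 <;> omega
  obtain ⟨h1, -, -⟩ := R.miss hC (by omega) hr hrS
  have h2 := (l2_count hp hp2 hF h4 e h1).2
  rw [Finset.card_erase_of_mem hr] at h2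
  have hpC : p ∈ C.erase r := by
    by_contra hpC
    rw [if_neg hpC] at h2
    split_ifs at h2 <;> omega
  have hex : ∃ d ∈ C.erase r, d ∣ p ^ f - 1 := by
    by_contra hex
    rw [if_neg hex] at h2
    split_ifs at h2 <;> omega
  by_cases hrK : r ∣ Nat.card K
  · obtain ⟨d, hd, hd1⟩ := hex
    exact (l2_K R hp hp2 hf hF h4 e hC (by omega) hr hrS hrK).1 d hd hd1
  · exact l2_fpf hp hp2 hF h4 e hC hr hrS hrK (Finset.mem_of_mem_erase hpC)

/-- **three primes, one of them missing** -/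
theorem kill_l2_three (R : RedL G K S) (hp : p.Prime) (hp2 : p ≠ 2) (hf : 1 ≤ f) (hF : Fintype.card F = p ^ f)
    (h4 : 4 ≤ Fintype.card F) (e : S ≃* Matrix.ProjectiveSpecialLinearGroup (Fin 2) F) (hC : Coq5 G C)
    (h3 : 3 ≤ C.card) (hr : r ∈ C) (hrS : ¬ r ∣ Nat.card S) {M : ℕ} (hM : ∀ x : G, orderOf x ≤ M)
    (hMr : 2 * M + 1 < 3 ^ r) : p ∈ C ∧ ∃ w ∈ C, w ∣ p + 1 := by
  by_cases hrK : r ∣ Nat.card K
  · obtain ⟨-, h1, -, h2⟩ := l2_K R hp hp2 hf hF h4 e hC h3 hr hrS hrK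
    exact ⟨h1, h2⟩
  · exfalso
    obtain ⟨-, -, h1⟩ := R.miss hC h3 hr hrS
    have h2 := h1.resolve_left hrK
    have hrp := hC.1.prime r hr
    have hZ : Subgroup.center (Matrix.ProjectiveSpecialLinearGroup (Fin 2) F) = ⊥ := by
      have hsimp := R.simple
      have h3 := center_bot R.nonab
      rw [eq_bot_iff]
      intro z hz
      have h5 : e.symm z ∈ Subgroup.center S := by
        rw [mem_center_iff]
        intro g
        have h6 := (mem_center_iff.1 hz) (e g)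
        apply e.injective
        rw [map_mul, map_mul, MulEquiv.apply_symm_apply, h6]
      rw [h3, Subgroup.mem_bot] at h5
      rw [Subgroup.mem_bot, ← e.apply_symm_apply z, h5, map_one]
    rw [Cfsg.Agent.H934.OutB.card_out_congr e, Cfsg.Agent.H163.PG.card_out_psl_two hp hf hF h4 hZ] at h2
    have hrf : r ∣ f := by
      rcases hrp.dvd_mul.1 h2 with h | h
      · exact h
      · have := Nat.le_of_dvd (by norm_num) (h.trans (Nat.gcd_dvd_left _ _))
        have := hC.2 r hr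
        omega
    obtain ⟨x, hx⟩ := ord_of_section (((ord_congr e (n := (p ^ f + 1) / 2)).trans (mem_l2 hp hp2 hF h4 _)).2
      (Or.inr (Or.inr dvd_rfl)))
    have h5 := hM x
    have h6 : 3 ^ r ≤ p ^ f := by
      have h7 := Nat.le_of_dvd hf hrf
      have h8 : 3 ≤ p := by have := hp.two_le; omega
      exact (Nat.pow_le_pow_right (by norm_num) h7).trans (Nat.pow_le_pow_left h8 f)
    rw [hx] at h5
    omega

end

end Cfsg.Agent.H228.E3
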