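import Cfsg.Agent.H228.E3ClassO
import Cfsg.Agent.H228.E3L2
import Cfsg.Agent.H426.LieFam

/-!
# The elimination of the classical groups of odd characteristic (helper228)

* `Cla t` : `t` is a classical family;
* `sdat_fam` : a simple group of a classical family of odd characteristic `p` satisfies `SDat S p`, or it is `PSL₂(p^f)`;
* `kill_fam` : `RedL G K S`, `ω(G) = ω(L)`, `LDat L` : `S` is not classical of odd characteristic.
-/

set_option autoImplicit false

namespace Cfsg.Agent.H228.E3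

open Subgroup Cfsg
open Cfsg.Agent.H72.WGr (OCoc)
open Cfsg.Agent.H426.LieFam Cfsg.Agent.KFacts.RgdLieCharP

universe u v

/-- the classical families -/
def Cla : Fam → Prop
  | .psl _ => True
  | .psp _ => True
  | .psu _ => True
  | .oodd _ => True
  | .oplus _ => True
  | .ominus _ => True
  | _ => False

theorem simple_congr {S : Type u} {T : Type v} [Group S] [Group T] (e : S ≃* T) [IsSimpleGroup S] :
    IsSimpleGroup T := MulEquiv.isSimpleGroup e.symm

theorem na_congr {S : Type u} {T : Type v} [Group S] [Group T] (e : S ≃* T) (hna : ¬ IsMulCommutative S) :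
    ∃ a b : T, a * b ≠ b * a := by
  by_contra hcon
  push Not at hcon
  refine hna ⟨⟨fun a b => e.injective ?_⟩⟩
  rw [map_mul, map_mul, hcon]

theorem sdat_fam {p f : ℕ} (hp : p.Prime) (hp2 : p ≠ 2) {S : Type u} [Group S] [IsSimpleGroup S]
    (hna : ¬ IsMulCommutative S) {t : Fam} (ht : Cla t) (h : Fam.Is p f S t) :
    SDat S p ∨ ∃ (F : Type) (_ : Field F) (_ : Fintype F) (_ : CharP F p), 1 ≤ f ∧ Fintype.card F = p ^ f ∧
      4 ≤ Fintype.card F ∧ Nonempty (S ≃* Matrix.ProjectiveSpecialLinearGroup (Fin 2) F) := by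
  have hf : ∀ (F : Type) [Field F] [Fintype F] (k : ℕ), k ≠ 0 → Fintype.card F = (p ^ f) ^ k → 1 ≤ f := by
    intro F _ _ k hk hF
    rw [Nat.one_le_iff_ne_zero]
    rintro rfl
    rw [pow_zero, one_pow] at hF
    have := Fintype.one_lt_card (α := F)
    omega
  cases t with
  | psl n =>
    obtain ⟨hn, hn4, F, _, _, _, hF, ⟨e⟩⟩ := h
    have hf := hf F 1 one_ne_zero (by rw [hF, pow_one])
    have := simple_congr e
    have hL : IsLieFilt p (Matrix.ProjectiveSpecialLinearGroup (Fin n) F) :=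
      Or.inl ⟨F, _, _, inferInstance, n, hn, fun h => by rw [hF]; exact hn4 h, ⟨MulEquiv.refl _⟩⟩
    obtain h2 | h2 | h2 : n = 2 ∨ n = 3 ∨ 4 ≤ n := by omega
    · subst h2
      exact Or.inr ⟨F, _, _, inferInstance, hf, hF, by rw [hF]; exact hn4 rfl, ⟨e⟩⟩
    · subst h2
      exact Or.inl ((sdat_psl_three hp hp2 hf hF (na_congr e hna) hL).congr e)
    · exact Or.inl ((sdat_psl h2 hp hp2 hf hF (na_congr e hna) hL).congr e)
  | psp m =>
    obtain ⟨hn, hn4, F, _, _, _, hF, ⟨e⟩⟩ := h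
    have hf := hf F 1 one_ne_zero (by rw [hF, pow_one])
    have := simple_congr e
    have hL : IsLieFilt p (PSp m F) :=
      Or.inr (Or.inl ⟨F, _, _, inferInstance, m, hn, fun h => by rw [hF]; exact hn4 h, ⟨MulEquiv.refl _⟩⟩)
    exact Or.inl ((sdat_psp hn hp hp2 hf hF (na_congr e hna) hL).congr e)
  | psu n =>
    obtain ⟨hn, hn4, F, _, _, _, hF, ⟨e⟩⟩ := h
    have hf := hf F 2 two_ne_zero hF
    have := simple_congr e
    have hL : IsLieFilt p (PSU n F (p ^ f)) :=
      Or.inr (Or.inr (Or.inl ⟨F, _, _, inferInstance, n, p ^ f, hF, hn, hn4, ⟨MulEquiv.refl _⟩⟩))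
    obtain h2 | h2 : n = 3 ∨ 4 ≤ n := by omega
    · subst h2
      exact Or.inl ((sdat_psu_three hp hp2 hf rfl hF (na_congr e hna) hL).congr e)
    · exact Or.inl ((sdat_psu h2 hp hp2 hf rfl hF (na_congr e hna) hL).congr e)
  | oodd m =>
    obtain ⟨hn, hodd, F, _, _, _, hF, ⟨e⟩⟩ := h
    have hf := hf F 1 one_ne_zero (by rw [hF, pow_one])
    have := simple_congr e
    have hL : IsLieFilt p (POmega F (quadFormOdd m F)) :=
      Or.inr (Or.inr (Or.inr (Or.inl ⟨F, _, ‹Fintype F›, inferInstance, m, hn, by rwa [hF], ⟨MulEquiv.refl _⟩⟩)))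
    exact Or.inl ((sdat_odd hn hp hp2 hf hF (na_congr e hna) hL).congr e)
  | oplus m =>
    obtain ⟨hn, F, _, _, _, hF, ⟨e⟩⟩ := h
    have hf := hf F 1 one_ne_zero (by rw [hF, pow_one])
    have := simple_congr e
    have hL : IsLieFilt p (POmega F (quadFormPlus m F)) :=
      Or.inr (Or.inr (Or.inr (Or.inr (Or.inl ⟨F, _, ‹Fintype F›, inferInstance, m, hn, ⟨MulEquiv.refl _⟩⟩))))
    exact Or.inl ((sdat_plus hn hp hp2 hf hF (na_congr e hna) hL).congr e)
  | ominus m =>
    obtain ⟨hn, F, _, _, _, a, b, hF, hab, ⟨e⟩⟩ := h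
    have hf := hf F 1 one_ne_zero (by rw [hF, pow_one])
    have := simple_congr e
    have hL : IsLieFilt p (POmega F (quadFormMinus (m - 1) F a b)) :=
      Or.inr (Or.inr (Or.inr (Or.inr (Or.inr (Or.inl ⟨F, _, ‹Fintype F›, inferInstance, m, a, b, hn, hab,
        ⟨MulEquiv.refl _⟩⟩)))))
    exact Or.inl ((sdat_minus hn hp hp2 hf hF hab (na_congr e hna) hL).congr e)
  | g2 => exact ht.elim
  | f4 => exact ht.elim
  | e6 => exact ht.elim
  | e7 => exact ht.elim
  | e8 => exact ht.elim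
  | te6 => exact ht.elim
  | td4 => exact ht.elim
  | sz => exact ht.elim
  | tf4 => exact ht.elim
  | ree => exact ht.elim

variable {G : Type u} [Group G] [Finite G] {K : Subgroup G} [K.Normal] {S : Subgroup (G ⧸ K)} [S.Normal]

/-- `S` is not classical of odd characteristic -/
theorem kill_fam (R : RedL G K S) {L : Type v} [Group L] [Finite L] (hω : SameOrd G L) (hL : LDat L) {p f : ℕ}
    (hp : p.Prime) (hp2 : p ≠ 2) {t : Fam} (ht : Cla t) (h : Fam.Is p f S t) : False := by
  have := R.simple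
  rcases sdat_fam hp hp2 R.nonab ht h with h | ⟨F, _, _, _, hf, hF, h4, ⟨e⟩⟩
  · exact kill R hω hL h
  · obtain ⟨A, hA, -, h1 | ⟨h3, hB, -⟩⟩ := hL
    · exact kill_l2_four R hp hp2 hf hF h4 e (hA.of_same hω) h1
    · obtain ⟨r, hr⟩ := Finset.card_pos.1 (by omega : 0 < A.card)
      obtain ⟨B, hB, -, h1⟩ := hB r hr
      exact kill_l2_four R hp hp2 hf hF h4 e (hB.of_same hω) h1

end Cfsg.Agent.H228.E3
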