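import Cfsg.Agent.H228.E3Num
import Cfsg.Agent.H228.E3Final
import Cfsg.Agent.H380.AltSpec
import Cfsg.Agent.H436.Names

/-!
# The elimination of the classical groups of odd characteristic: the exceptions over the field with two elements
(helper228)

* `sh_fam` : the shape of the order;
* `big8` : an element of order at least eight;
* `l2_T` : `S ≃* PSL₂(F)`: the primes `≥ 7` of the coclique divide `|S|`;
* `kill_q2` : `RedL G K S`, `ω(G) = ω(L)`, `LQ2 L A P T` : `S` is not classical of odd characteristic.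
-/

set_option autoImplicit false

namespace Cfsg.Agent.H228.E3

open Subgroup Cfsg
open Cfsg.Agent.H72.WGr (OCoc)
open Cfsg.Agent.H426.LieFam Cfsg.Agent.H414.LieShape Cfsg.Agent.KFacts.RgdLieCharP
open Cfsg.Agent.H72

universe u v

theorem noTri {t : Fam} (ht : Cla t) : NoTri t.facs := by
  cases t with
  | psl n => simp [NoTri, Fam.facs]
  | psp n => simp [NoTri, Fam.facs]
  | psu n =>
    intro x hx
    simp only [Fam.facs, List.mem_map] at hx
    obtain ⟨i, -, rfl⟩ := hx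
    split_ifs <;> simp
  | oodd n => simp [NoTri, Fam.facs]
  | oplus n => simp [NoTri, Fam.facs]
  | ominus n => simp [NoTri, Fam.facs]
  | g2 => exact ht.elim
  | f4 => exact ht.elim
  | e6 => exact ht.elim
  | e7 => exact ht.elim
  | e8 => exact ht.elim
  | te6 => exact ht.elim
  | td4 => exact ht.elim
  | sz => exact ht.elim
  | tf4 => exact ht.elim
  | ree => exact ht.elim

/-- `f` is positive -/
theorem f_pos {p f : ℕ} (F : Type) [Field F] [Fintype F] (k : ℕ) (hF : Fintype.card F = (p ^ f) ^ k) : 1 ≤ f := by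
  rw [Nat.one_le_iff_ne_zero]
  rintro rfl
  rw [pow_zero, one_pow] at hF
  have := Fintype.one_lt_card (α := F)
  omega

theorem sh_fam {p f : ℕ} (hp : p.Prime) {S : Type u} [Group S] {t : Fam} (ht : Cla t) (h : Fam.Is p f S t) :
    ∃ d N, Sh p (Nat.card S) f d N t.facs := by
  cases t with
  | psl n =>
    obtain ⟨hn, -, F, _, _, _, hF, ⟨e⟩⟩ := h
    rw [Nat.card_congr e.toEquiv]
    exact sh_psl (f_pos F 1 (by rw [hF, pow_one])) hF hn hp
  | psp m =>
    obtain ⟨hn, -, F, _, _, _, hF, ⟨e⟩⟩ := h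
    rw [Nat.card_congr e.toEquiv]
    exact sh_psp (f_pos F 1 (by rw [hF, pow_one])) hF hn hp
  | psu n =>
    obtain ⟨hn, -, F, _, _, _, hF, ⟨e⟩⟩ := h
    rw [Nat.card_congr e.toEquiv]
    exact sh_psu (f_pos F 2 hF) hF hn hp
  | oodd m =>
    obtain ⟨hn, hodd, F, _, _, _, hF, ⟨e⟩⟩ := h
    rw [Nat.card_congr e.toEquiv]
    exact sh_oodd (f_pos F 1 (by rw [hF, pow_one])) hF hn (by rwa [hF]) hp
  | oplus m =>
    obtain ⟨hn, F, _, _, _, hF, ⟨e⟩⟩ := h
    rw [Nat.card_congr e.toEquiv]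
    exact sh_oplus (f_pos F 1 (by rw [hF, pow_one])) hF hn hp
  | ominus m =>
    obtain ⟨hn, F, _, _, _, a, b, hF, hab, ⟨e⟩⟩ := h
    rw [Nat.card_congr e.toEquiv]
    exact sh_ominus (f_pos F 1 (by rw [hF, pow_one])) hF hn hab hp
  | g2 => exact ht.elim
  | f4 => exact ht.elim
  | e6 => exact ht.elim
  | e7 => exact ht.elim
  | e8 => exact ht.elim
  | te6 => exact ht.elim
  | td4 => exact ht.elim
  | sz => exact ht.elim
  | tf4 => exact ht.elim
  | ree => exact ht.elim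

theorem big8_psl {F : Type v} [Field F] [Fintype F] {n p f : ℕ} (hn : 3 ≤ n) (hp : p.Prime) (hp2 : p ≠ 2)
    (hf : 1 ≤ f) (hF : Fintype.card F = p ^ f) [CharP F p] :
    ∃ x : Matrix.ProjectiveSpecialLinearGroup (Fin n) F, 8 ≤ orderOf x := by
  have h2 : (2 : F) ≠ 0 := two_ne hp hp2
  have hfp := Fact.mk hp
  have hp3 : 3 ≤ p := by have := hp.two_le; omega
  obtain ⟨hc1, hc2⟩ := char_facts hp hf hF
  obtain rfl | hn : n = 3 ∨ 4 ≤ n := by omega
  · have hspec := S2476.result (F := F) p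
    set q := Fintype.card F with hq
    have hq1 : q % 2 = 1 := by
      rw [hF]
      exact Nat.odd_iff.1 ((hp.odd_of_ne_two hp2).pow)
    have hq3 : 3 ≤ q := by
      rw [hF]
      exact hp3.trans (Nat.le_self_pow (by omega) p)
    have hd2 : Nat.gcd 3 (q - 1) ∣ q ^ 2 - 1 := by
      obtain ⟨k, hk⟩ : ∃ k, q = k + 1 := ⟨q - 1, by omega⟩
      rw [hk, Nat.add_sub_cancel, show (k + 1) ^ 2 = k * (k + 1 + 1) + 1 by ring, Nat.add_sub_cancel]
      exact (Nat.gcd_dvd_right _ _).mul_right _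
    obtain ⟨x, hx⟩ : ∃ x : Matrix.ProjectiveSpecialLinearGroup (Fin 3) F, orderOf x = 8 := by
      have := Set.ext_iff.1 hspec 8
      exact this.2 (Or.inr (Or.inl (dvd_div (Nat.gcd_dvd_left _ _) hd2 (eight_dvd hq1) (by norm_num))))
    exact ⟨x, hx.ge⟩
  · have hwp : AdjPSL.wL (Fintype.card F) p = 2 := if_pos (Or.inl hc2)
    obtain ⟨x, hx⟩ := FourS.four_psl (F := F) (n := n) h2 hp hp2 (by rw [hwp]; exact hn)
    exact ⟨x, by omega⟩

theorem big8_psu {F : Type v} [Field F] [Fintype F] {n p f q : ℕ} (hn : 3 ≤ n) (hp : p.Prime) (hp2 : p ≠ 2)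
    (hf : 1 ≤ f) (hqf : q = p ^ f) (hF : Fintype.card F = q ^ 2) [CharP F p] : ∃ x : Cfsg.PSU n F q, 8 ≤ orderOf x := by
  have h2 : (2 : F) ≠ 0 := two_ne hp hp2
  have hfp := Fact.mk hp
  have hp3 : 3 ≤ p := by have := hp.two_le; omega
  obtain ⟨hc1, hc2⟩ := char_facts hp hf hqf
  obtain rfl | hn : n = 3 ∨ 4 ≤ n := by omega
  · have hspec := S2366.result (F := F) p hp2 q hF
    have hq1 : q % 2 = 1 := by
      rw [hqf]
      exact Nat.odd_iff.1 ((hp.odd_of_ne_two hp2).pow)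
    have hq3 : 3 ≤ q := by
      rw [hqf]
      exact hp3.trans (Nat.le_self_pow (by omega) p)
    have hd2 : Nat.gcd 3 (q + 1) ∣ q ^ 2 - 1 := by
      have hq21 : q ^ 2 - 1 = (q + 1) * (q - 1) := by
        obtain ⟨k, hk⟩ : ∃ k, q = k + 1 := ⟨q - 1, by omega⟩
        rw [hk, Nat.add_sub_cancel, show (k + 1) ^ 2 = (k + 1 + 1) * k + 1 by ring, Nat.add_sub_cancel]
      rw [hq21]
      exact (Nat.gcd_dvd_right _ _).mul_right _
    obtain ⟨x, hx⟩ : ∃ x : Cfsg.PSU 3 F q, orderOf x = 8 := by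
      have := Set.ext_iff.1 hspec 8
      exact this.2 (Or.inl (Or.inr (dvd_div (Nat.gcd_dvd_left _ _) hd2 (eight_dvd hq1) (by norm_num))))
    exact ⟨x, hx.ge⟩
  · have hwp : AdjPSU.wU q p = 2 := if_pos (Or.inl hc2)
    obtain ⟨x, hx⟩ := FourS.four_psu (F := F) (n := n) hF (by omega) h2 hp hp2 (by rw [hwp]; exact hn)
    exact ⟨x, by omega⟩

/-- an element of order at least eight -/
theorem big8 {p f : ℕ} (hp : p.Prime) (hp2 : p ≠ 2) {S : Type u} [Group S] {t : Fam} (ht : Cla t)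
    (h : Fam.Is p f S t) : (∃ x : S, 8 ≤ orderOf x) ∨ ∃ (F : Type) (_ : Field F) (_ : Fintype F),
      Odd (Fintype.card F) ∧ Nonempty (S ≃* Matrix.ProjectiveSpecialLinearGroup (Fin 2) F) := by
  have hp3 : 3 ≤ p := by have := hp.two_le; omega
  have hfp := Fact.mk hp
  have key : ∀ {T : Type} [Group T], (S ≃* T) → (∃ x : T, 8 ≤ orderOf x) → ∃ x : S, 8 ≤ orderOf x := by
    rintro T _ e ⟨x, hx⟩
    exact ⟨e.symm x, by rwa [MulEquiv.orderOf_eq]⟩
  have key4 : ∀ {T : Type} [Group T], (S ≃* T) → (∃ x : T, orderOf x = 4 * p) → ∃ x : S, 8 ≤ orderOf x := by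
    rintro T _ e ⟨x, hx⟩
    exact key e ⟨x, by omega⟩
  cases t with
  | psl n =>
    obtain ⟨hn, -, F, _, _, _, hF, ⟨e⟩⟩ := h
    have hf := f_pos F 1 (by rw [hF, pow_one])
    obtain rfl | h3 : n = 2 ∨ 3 ≤ n := by omega
    · exact Or.inr ⟨F, _, _, by rw [hF]; exact (hp.odd_of_ne_two hp2).pow, ⟨e⟩⟩
    · exact Or.inl (key e (big8_psl h3 hp hp2 hf hF))
  | psp m =>
    obtain ⟨hn, -, F, _, _, _, hF, ⟨e⟩⟩ := h
    have hf := f_pos F 1 (by rw [hF, pow_one])
    exact Or.inl (key4 e (FourS.four_psp' hn (two_ne hp hp2) hp hp2 (Or.inl (char_facts hp hf hF).2)))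
  | psu n =>
    obtain ⟨hn, -, F, _, _, _, hF, ⟨e⟩⟩ := h
    have hf := f_pos F 2 hF
    exact Or.inl (key e (big8_psu hn hp hp2 hf rfl hF))
  | oodd m =>
    classical
    obtain ⟨hm, hodd, F, _, _, _, hF, ⟨e⟩⟩ := h
    have hf := f_pos F 1 (by rw [hF, pow_one])
    have h2 : (2 : F) ≠ 0 := two_ne hp hp2
    have hQ := Cfsg.Agent.LieClassical.OrthForms.nondeg_oddForm m F h2
    have hn : Fintype.card (Unit ⊕ (Fin m ⊕ Fin m)) = 2 * m + 1 := by simp; omega
    have h4p := FourO.four_odd h2 hQ hm hn hp hp2 (Or.inl (char_facts hp hf hF).2)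
    rw [Cfsg.Agent.LieClassical.OrthForms.coe_oddForm] at h4p
    exact Or.inl (key4 e h4p)
  | oplus m =>
    classical
    obtain ⟨hm, F, _, _, _, hF, ⟨e⟩⟩ := h
    have hf := f_pos F 1 (by rw [hF, pow_one])
    have h2 : (2 : F) ≠ 0 := two_ne hp hp2
    have hQ := Cfsg.Agent.LieClassical.OrthForms.nondeg_plusForm m F
    have hn : Fintype.card (Fin m ⊕ Fin m) = 2 * m := by simp; omega
    have h4p := FourO.four_even h2 hQ hm hn hp hp2 (Or.inl (char_facts hp hf hF).2)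
    rw [Cfsg.Agent.LieClassical.OrthForms.coe_plusForm] at h4p
    exact Or.inl (key4 e h4p)
  | ominus m =>
    classical
    obtain ⟨hm, F, _, _, _, a, b, hF, hab, ⟨e⟩⟩ := h
    have hf := f_pos F 1 (by rw [hF, pow_one])
    have h2 : (2 : F) ≠ 0 := two_ne hp hp2
    have hQ := Cfsg.Agent.LieClassical.OrthForms.nondeg_minusForm (m - 1) F a b hab
    have hn : Fintype.card ((Fin (m - 1) ⊕ Fin (m - 1)) ⊕ Fin 2) = 2 * m := by simp; omega
    have h4p := FourO.four_even h2 hQ hm hn hp hp2 (Or.inl (char_facts hp hf hF).2)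
    rw [Cfsg.Agent.LieClassical.OrthForms.coe_minusForm] at h4p
    exact Or.inl (key4 e h4p)
  | g2 => exact ht.elim
  | f4 => exact ht.elim
  | e6 => exact ht.elim
  | e7 => exact ht.elim
  | e8 => exact ht.elim
  | te6 => exact ht.elim
  | td4 => exact ht.elim
  | sz => exact ht.elim
  | tf4 => exact ht.elim
  | ree => exact ht.elim

theorem card_l2_three {F : Type} [Field F] [Fintype F] (h : Fintype.card F = 3) :
    Nat.card (Matrix.ProjectiveSpecialLinearGroup (Fin 2) F) = 12 := by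
  have h1 := Cfsg.Agent.H436.psl_eq (F := F) (n := 2) le_rfl
  rw [h] at h1
  have h2 : Cfsg.Agent.OrdDiv.fPSL.den 2 3 = 4 := by decide
  have h3 : Cfsg.Agent.OrdDiv.fPSL.num 2 3 = 48 := by decide
  rw [h2, h3] at h1
  omega

variable {G : Type u} [Group G] [Finite G] {K : Subgroup G} [K.Normal] {S : Subgroup (G ⧸ K)} [S.Normal]

/-- the orders in `A₇` -/
theorem alt_seven (x : alternatingGroup (Fin 7)) : orderOf x ≤ 7 := by
  have h := H380.AltSpec.orderOf_mem_T x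
  have h1 : ∀ y ∈ H380.AltSpec.T 7 7, y.2 = true → y.1 ≤ 7 := by decide
  exact h1 _ h rfl

theorem A_large {A P T : Finset ℕ} (hQ : Q2 A P T) {r : ℕ} (hr : r ∈ T) : r ∈ A ∧ 7 ≤ r := by
  rcases hQ with ⟨rfl, rfl, rfl⟩ | ⟨rfl, rfl, rfl⟩ | ⟨rfl, rfl, rfl⟩ <;>
    simp only [Finset.mem_insert, Finset.mem_singleton] at hr ⊢ <;> omega

theorem A_card {A P T : Finset ℕ} (hQ : Q2 A P T) : A.card = 3 := by
  rcases hQ with ⟨rfl, rfl, rfl⟩ | ⟨rfl, rfl, rfl⟩ | ⟨rfl, rfl, rfl⟩ <;> decide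

theorem A_no {A P T : Finset ℕ} (hQ : Q2 A P T) {p : ℕ} (hp : p ∈ A) : ¬ ∃ w ∈ A, w ∣ p + 1 := by
  rcases hQ with ⟨rfl, rfl, rfl⟩ | ⟨rfl, rfl, rfl⟩ | ⟨rfl, rfl, rfl⟩ <;>
    · simp only [Finset.mem_insert, Finset.mem_singleton] at hp
      rcases hp with rfl | rfl | rfl <;> decide

/-- `S ≃* PSL₂(F)` : the primes of `T` divide `|S|` -/
theorem l2_T (R : RedL G K S) {L : Type v} [Group L] [Finite L] (hω : SameOrd G L) {A P T : Finset ℕ} (hQ : Q2 A P T)
    (hL : LQ2 L A P T) {F : Type} [Field F] [Fintype F] (hodd : Odd (Fintype.card F))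
    (e : S ≃* Matrix.ProjectiveSpecialLinearGroup (Fin 2) F) : ∀ t ∈ T, t ∣ Nat.card S := by
  intro t ht
  by_contra hcon
  obtain ⟨htA, ht7⟩ := A_large hQ ht
  have hA := hL.1.of_same hω
  have hA3 := A_card hQ
  obtain ⟨p, hchar⟩ := CharP.exists F
  obtain ⟨n, hp, hF⟩ := FiniteField.card F p
  have hp2 : p ≠ 2 := by
    rintro rfl
    rw [hF] at hodd
    exact Nat.not_even_iff_odd.2 hodd ((Nat.even_pow.2 ⟨even_two, n.ne_zero⟩))
  have h4 : 4 ≤ Fintype.card F := by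
    by_contra hlt
    have h1 : 1 < Fintype.card F := Fintype.one_lt_card
    obtain ⟨k, hk⟩ := hodd
    have h3 : Fintype.card F = 3 := by omega
    have h12 : Nat.card S = 12 := by
      rw [Nat.card_congr e.toEquiv]
      exact card_l2_three h3
    obtain ⟨h5, h6⟩ := R.filter hA (by omega)
    have h7 : (A.filter fun r => r ∣ Nat.card S) = ∅ := by
      rw [Finset.filter_eq_empty_iff]
      intro r hr hd
      have h8 := hA.1.prime r hr
      have h9 := hA.2 r hr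
      rw [h12, show 12 = 2 ^ 2 * 3 by norm_num] at hd
      rcases h8.dvd_mul.1 hd with hd | hd
      · have := Nat.le_of_dvd (by norm_num) (h8.dvd_of_dvd_pow hd)
        omega
      · have := Nat.le_of_dvd (by norm_num) hd
        omega
    rw [h7, Finset.card_empty] at h6
    omega
  obtain ⟨h5, h6⟩ := kill_l2_three R hp hp2 n.pos hF h4 e hA (by omega) htA hcon (M := 1024) (fun x => by
      obtain ⟨y, hy⟩ := (hω _).1 ⟨x, rfl⟩
      rw [← hy]
      exact hL.2.2.2 y) (by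
      calc 2 * 1024 + 1 < 3 ^ 7 := by norm_num
        _ ≤ 3 ^ t := Nat.pow_le_pow_right (by norm_num) ht7)
  exact A_no hQ h5 h6

/-- **`S` is not classical of odd characteristic, `L` one of the exceptions over the field with two elements.** -/
theorem kill_q2 (R : RedL G K S) {L : Type v} [Group L] [Finite L] (hω : SameOrd G L) {A P T : Finset ℕ}
    (hQ : Q2 A P T) (hL : LQ2 L A P T)
    (h2 : (Nonempty (↥S ≃* alternatingGroup (Fin 7)) ∨
      ∃ (F : Type) (_ : Field F) (_ : Fintype F), Odd (Fintype.card F) ∧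
        Nonempty (↥S ≃* Matrix.ProjectiveSpecialLinearGroup (Fin 2) F)) ∨
      ∀ a : ℕ, a.Prime → a ≠ 2 → a ∣ Nat.card G → (¬ ∃ x : G, orderOf x = 2 * a) →
        ¬ a ∣ Nat.card ↥K ∧ ¬ a ∣ S.index)
    {p f : ℕ} (hp : p.Prime) (hp2 : p ≠ 2) {t : Fam} (ht : Cla t) (h : Fam.Is p f S t) : False := by
  obtain ⟨d, N, hsh⟩ := sh_fam hp ht h
  have hA := hL.1.of_same hω
  have hmiss : ∀ r ∈ A, ∀ s ∈ A, ¬ r ∣ Nat.card S → ¬ s ∣ Nat.card S → r = s := by
    intro r hr s hs h1 h3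
    exact R.coc' A hA.1 (A_card hQ).ge r hr s hs (dvd_rest (hA.1.prime r hr) (hA.1.dvd r hr) h1)
      (dvd_rest (hA.1.prime s hs) (hA.1.dvd s hs) h3)
  have hπ : ∀ r : ℕ, r.Prime → r ∣ Nat.card S → r ∈ P := by
    intro r hr hd
    have := Fact.mk hr
    obtain ⟨x, hx⟩ := exists_prime_orderOf_dvd_card' (G := S) r hd
    obtain ⟨y, hy⟩ := (hω _).1 (ord_of_section ⟨x, hx⟩)
    refine hL.2.1 r hr ?_
    rw [← hy]
    exact orderOf_dvd_natCard y
  suffices hT : ∀ t ∈ T, t ∣ Nat.card S from q2 hQ hsh (noTri ht) hp hp2 hπ hT hmiss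
  rcases h2 with (⟨⟨e⟩⟩ | ⟨F, _, _, hodd, ⟨e⟩⟩) | h2
  · rcases big8 hp hp2 ht h with ⟨x, hx⟩ | ⟨F, _, _, hodd, ⟨e⟩⟩
    · exfalso
      have h1 := alt_seven (e x)
      rw [MulEquiv.orderOf_eq] at h1
      omega
    · exact l2_T R hω hQ hL hodd e
  · exact l2_T R hω hQ hL hodd e
  · intro a ha
    obtain ⟨haL, han⟩ := hL.2.2.1 a ha
    have haA := (A_large hQ ha).1
    have hap := hA.1.prime a haA
    obtain ⟨h3, h4⟩ := h2 a hap (hA.1.ne2 a haA) (hA.1.dvd a haA) (fun hx => han ((hω _).1 hx))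
    by_contra hcon
    rcases hap.dvd_mul.1 (dvd_rest hap (hA.1.dvd a haA) hcon) with h5 | h5
    · exact h3 h5
    · exact h4 h5

end Cfsg.Agent.H228.E3
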