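import Mathlib
import Cfsg.Agent.H115.ChevPar
import Cfsg.Agent.ChevalleyStructure.BNChev
import Cfsg.Agent.S1033
import Cfsg.Agent.S1034

/-!
# Regular unipotent elements (helper228)

* `mem_B_of_conj` : in a root group datum an element `u ∈ U` outside all `V_i = ⟨X x : x > 0, x ≠ α_i⟩` lies in a unique
  Borel subgroup: `g⁻¹ u g ∈ B → g ∈ B`;
* `IsReg` : regular unipotent elements of the tabulated Chevalley groups over finite fields;
* `isReg_wordG` : a product of root elements `x_r(t)`, `r > 0`, is regular if for every simple root the sum of the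
  parameters is not zero;
* `mem_U_of_commute` : the centralizer in `D.group K` of a regular unipotent element is contained in `U`.
-/

set_option autoImplicit false
set_option linter.unusedSectionVars false

namespace Cfsg.Agent.H228.RegUnip

open CoxeterSystem Cfsg.Agent.ChevalleyStructure.CoxeterGeom Cfsg.Agent.Tits.Roots Cfsg.Agent.Tits.Core
  Cfsg.Agent.Tits.Exchange Cfsg.Agent.Nodes.Reps Cfsg.Agent.Nodes.BNOf Cfsg.Agent.Nodes.StabComb
  Cfsg.Agent.Nodes.Bruhat Cfsg.Agent.Nodes.OppDec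

section General

variable {I W Y : Type*} [Fintype I] [DecidableEq I] [Group W] [Group Y] {M : CoxeterMatrix I}
  {cs : CoxeterSystem M W} {A : I → I → ℤ} {h : IsCartan M A} {p : ℕ} {T : Subgroup Y} {n : I → Y}
  {X : (I → ℤ) → Subgroup Y}

variable (R : RGD cs h p T n X)

include R

/-- `T` normalises `V_i` -/
theorem T_le_norm_V (i : I) : T ≤ Subgroup.normalizer (RGD.Sup X (RGD.PosNe cs h i) : Set Y) :=
  R.T_le_normalizer fun _ hx => hx.1

/-- `B` normalises `V_i` -/
theorem B_le_norm_V (i : I) : RGD.B cs h T X ≤ Subgroup.normalizer (RGD.Sup X (RGD.PosNe cs h i) : Set Y) := by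
  refine sup_le (T_le_norm_V R i) ?_
  rw [R.Upos_eq i]
  exact sup_le (R.X_le_normalizer_V i) Subgroup.le_normalizer

/-- a regular unipotent element lies in a unique Borel subgroup -/
theorem mem_B_of_conj [Finite W] {u g : Y} (hu : u ∈ RGD.Sup X (RGD.Pos cs h))
    (hreg : ∀ i, u ∉ RGD.Sup X (RGD.PosNe cs h i)) (hg : g ∈ GG cs h T X)
    (hB : g⁻¹ * u * g ∈ RGD.B cs h T X) : g ∈ RGD.B cs h T X := by
  obtain ⟨w, b₁, hb₁, k, hk, b₂, hb₂, rfl⟩ := (mem_GG R).1 hg
  have h1 : k⁻¹ * (b₁⁻¹ * u * b₁) * k ∈ RGD.B cs h T X := by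
    have e : k⁻¹ * (b₁⁻¹ * u * b₁) * k = b₂ * ((b₁ * k * b₂)⁻¹ * u * (b₁ * k * b₂)) * b₂⁻¹ := by group
    rw [e]
    exact mul_mem (mul_mem hb₂ hB) (inv_mem hb₂)
  have h2 : b₁⁻¹ * u * b₁ ∈ RGD.Sup X (RGD.Pos cs h) := by
    have := (Subgroup.mem_normalizer_iff.1 (R.B_le_normalizer_U (inv_mem hb₁)) u).1 hu
    rwa [inv_inv] at this
  have h3 := mem_PW_of_conj R hk h2 h1
  by_cases hw : w = 1
  · subst hw
    exact mul_mem (mul_mem hb₁ (RGD.T_le_B hk.mem_of_one)) hb₂
  exfalso
  obtain ⟨i, hi⟩ := cs.exists_leftDescent_of_ne_one hw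
  have hneg : rep cs h w⁻¹ (sr i) ≤ 0 := by
    refine nonpos_of_lt cs h w⁻¹ i ?_
    rw [cs.length_inv, ← cs.length_inv (w⁻¹ * cs.simple i), mul_inv_rev, inv_inv, cs.inv_simple]
    exact hi
  have h4 : b₁⁻¹ * u * b₁ ∈ RGD.Sup X (RGD.PosNe cs h i) := by
    refine RGD.Sup_mono ?_ h3
    rintro x ⟨hx, h0, hx2⟩
    refine ⟨hx, h0, ?_⟩
    rintro rfl
    exact (hx.act w⁻¹).not_pos_neg hx2 hneg
  apply hreg i
  have h5 := (Subgroup.mem_normalizer_iff.1 (B_le_norm_V R i hb₁) _).1 h4
  have e : b₁ * (b₁⁻¹ * u * b₁) * b₁⁻¹ = u := by group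
  rwa [e] at h5

end General

section Chev

open Cfsg.Lie Cfsg.Agent.ChevalleyStructure Cfsg.Agent.ChevalleyStructure.Elts
  Cfsg.Agent.ChevalleyStructure.RootVec Cfsg.Agent.Nodes.RGDChev Cfsg.Agent.H115

universe u

variable {D : ChevalleyDatum} {l : ℕ} {M : CoxeterMatrix (Fin l)} (hp : IsType D l M)
  {K : Type u} [Field K]

variable {W : Type*} [Group W] (cs : CoxeterSystem M W)

/-- `V_i` -/
def VV (hp : IsType D l M) (K : Type u) [Field K] (cs : CoxeterSystem M W) (i : Fin l) : Subgroup (GL D.Idx K) :=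
  RGD.Sup (XV D l K) (RGD.PosNe cs hp.isCartan i)

/-- `y` is `x_{α_i}(s)` modulo `V_i` -/
def Cmp (hp : IsType D l M) (cs : CoxeterSystem M W) (i : Fin l) (y : GL D.Idx K) (s : K) : Prop :=
  ∃ v ∈ VV hp K cs i, y = v * xG hp.inList (D.simple i) s

variable {hp cs} {i : Fin l}

theorem X_le_norm [Finite K] (p : ℕ) [Fact p.Prime] [CharP K p] (s : K) :
    xG hp.inList (D.simple i) s ∈ Subgroup.normalizer (VV hp K cs i : Set (GL D.Idx K)) := by
  refine (rgd_GL (K := K) hp cs p).X_le_normalizer_V i ?_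
  rw [XV_sr hp]
  exact xG_mem_rootSubgroup hp.inList _ s

theorem Cmp.mul [Finite K] (p : ℕ) [Fact p.Prime] [CharP K p] {y y' : GL D.Idx K} {s s' : K}
    (h : Cmp hp cs i y s) (h' : Cmp hp cs i y' s') : Cmp hp cs i (y * y') (s + s') := by
  obtain ⟨v, hv, rfl⟩ := h
  obtain ⟨v', hv', rfl⟩ := h'
  refine ⟨v * (xG hp.inList (D.simple i) s * v' * (xG hp.inList (D.simple i) s)⁻¹),
    mul_mem hv ((Subgroup.mem_normalizer_iff.1 (X_le_norm p s) v').1 hv'), ?_⟩
  rw [← xG_add]
  group

theorem Cmp.inv [Finite K] (p : ℕ) [Fact p.Prime] [CharP K p] {y : GL D.Idx K} {s : K}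
    (h : Cmp hp cs i y s) : Cmp hp cs i y⁻¹ (-s) := by
  obtain ⟨v, hv, rfl⟩ := h
  refine ⟨xG hp.inList (D.simple i) (-s) * v⁻¹ * (xG hp.inList (D.simple i) (-s))⁻¹,
    (Subgroup.mem_normalizer_iff.1 (X_le_norm p _) _).1 (inv_mem hv), ?_⟩
  rw [← xG_inv]
  group

theorem cmp_of_mem {y : GL D.Idx K} (h : y ∈ VV hp K cs i) : Cmp hp cs i y 0 :=
  ⟨y, h, by rw [xG_zero, mul_one]⟩

theorem cmp_xG (s : K) : Cmp hp cs i (xG hp.inList (D.simple i) s) s := ⟨1, one_mem _, by rw [one_mul]⟩

theorem cmp_one : Cmp hp cs i (1 : GL D.Idx K) 0 := cmp_of_mem (one_mem _)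

theorem Cmp.unique [Finite K] (p : ℕ) [Fact p.Prime] [CharP K p] {y : GL D.Idx K} {s s' : K}
    (h : Cmp hp cs i y s) (h' : Cmp hp cs i y s') : s = s' := by
  have : Finite W := finite_W hp cs
  obtain ⟨v, hv, rfl⟩ := h
  obtain ⟨v', hv', e⟩ := h'
  have h1 : xG hp.inList (D.simple i) (s + -s') = v⁻¹ * v' := by
    rw [← xG_add, ← xG_inv]
    have : xG hp.inList (D.simple i) s = v⁻¹ * (v' * xG hp.inList (D.simple i) s') := by rw [← e]; group
    rw [this]; group
  have h2 : xG hp.inList (D.simple i) (s + -s') = 1 := by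
    refine eq_one_of_mem_PosNe (rgd_GL (K := K) hp cs p) (i := i) ?_ ?_
    · rw [XV_sr hp]
      exact xG_mem_rootSubgroup hp.inList _ _
    · rw [h1]
      exact mul_mem (inv_mem hv) hv'
  have h3 := (xG_eq_one_iff hp.inList (Cfsg.Agent.ChevalleyStructure.NPerm.simple_lt hp.inList (lt_rank hp i)) _).1 h2
  exact sub_eq_zero.1 (by rw [sub_eq_add_neg]; exact h3)

/-- a positive root group other than `X_i` lies in `V_i` -/
theorem xG_mem_VV {r : ℕ} (hr : D.IsPosRoot r) (hri : r ≠ D.simple i) (t : K) :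
    xG hp.inList r t ∈ VV hp K cs i := by
  have hz : vec D l r ∈ RGD.PosNe cs hp.isCartan i :=
    ⟨isRoot_vec hp cs hr.1, (pos_iff_vec hp hr.1).1 hr, fun e => hri (by
      rw [← vec_simple hp i] at e
      exact vec_inj hp hr.1 (Cfsg.Agent.ChevalleyStructure.NPerm.simple_lt hp.inList (lt_rank hp i)) e)⟩
  refine RGD.le_Sup (X := XV D l K) hz ?_
  rw [XV_vec hp K hr.1]
  exact xG_mem_rootSubgroup hp.inList r t

theorem exists_cmp [Finite K] (p : ℕ) [Fact p.Prime] [CharP K p] (i : Fin l) {y : GL D.Idx K}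
    (hy : y ∈ D.posUnipotent K) : ∃ s, Cmp hp cs i y s := by
  let S : Subgroup (GL D.Idx K) :=
    { carrier := {y | ∃ s, Cmp hp cs i y s}
      mul_mem' := by
        rintro a b ⟨s, hs⟩ ⟨s', hs'⟩
        exact ⟨_, hs.mul p hs'⟩
      one_mem' := ⟨0, cmp_one⟩
      inv_mem' := by
        rintro a ⟨s, hs⟩
        exact ⟨_, hs.inv p⟩ }
  have h1 : D.posUnipotent K ≤ S := by
    refine (posUnipotent_le_iff hp.inList _).2 fun r hr t => ?_
    by_cases hri : r = D.simple i
    · subst hri; exact ⟨t, cmp_xG t⟩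
    · exact ⟨0, cmp_of_mem (xG_mem_VV hr hri t)⟩
  exact h1 hy

/-- the component of a word -/
def cw (D : ChevalleyDatum) (i : ℕ) (w : List (ℕ × K)) : K :=
  (w.map fun p => if p.1 = D.simple i then p.2 else 0).sum

theorem cmp_wordG [Finite K] (p : ℕ) [Fact p.Prime] [CharP K p] (i : Fin l) (w : List (ℕ × K))
    (hw : ∀ c ∈ w, D.IsPosRoot c.1) : Cmp hp cs i (wordG hp.inList w) (cw D i w) := by
  induction w with
  | nil => exact cmp_one
  | cons c w ih =>
    rw [wordG_cons]
    have h1 : cw D i (c :: w) = (if c.1 = D.simple i then c.2 else 0) + cw D i w := by simp [cw]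
    rw [h1]
    refine Cmp.mul p ?_ (ih fun d hd => hw d (List.mem_cons_of_mem _ hd))
    split_ifs with h2
    · rw [h2]; exact cmp_xG _
    · exact cmp_of_mem (xG_mem_VV (hw c List.mem_cons_self) h2 _)

theorem wordG_mem_pos (w : List (ℕ × K)) (hw : ∀ c ∈ w, D.IsPosRoot c.1) : wordG hp.inList w ∈ D.posUnipotent K :=
  Cfsg.Agent.Nodes.RGDChev.wordG_mem hp _ w fun c hc => xG_mem_posUnipotent hp.inList (hw c hc) _

/-! ### the torus -/

theorem prod_range_eq (n : ℕ) (c : ℕ → K) (f : ℕ → ℤ) :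
    ((List.range n).map fun i => c i ^ f i).prod = ∏ i ∈ Finset.range n, c i ^ f i := by
  induction n with
  | zero => simp
  | succ n ih => rw [List.range_succ, List.map_append, List.prod_append, ih, Finset.prod_range_succ]; simp

theorem zpow_sum' {ι : Type*} (s : Finset ι) (f : ι → ℤ) {a : K} (ha : a ≠ 0) :
    a ^ (∑ i ∈ s, f i) = ∏ i ∈ s, a ^ f i := by
  classical
  induction s using Finset.induction_on with
  | empty => simp
  | insert i s hi ih => rw [Finset.sum_insert hi, Finset.prod_insert hi, zpow_add₀ ha, ih]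

/-- an element of the torus acts on every root group by a character and is a diagonal matrix -/
theorem torus_data {t : GL D.Idx K} (ht : t ∈ D.diagonalSubgroup K) (hp : IsType D l M) :
    ∃ χ : ℕ → K, (∀ s < D.nroots, ∀ a, t * xG hp.inList s a * t⁻¹ = xG hp.inList s (χ s * a)) ∧
      ((t : Matrix D.Idx D.Idx K) = Matrix.diagonal (Sum.elim (fun _ => (1 : K)) fun s : Fin D.nroots => χ s)) ∧
      ((∀ j < D.rank, χ (D.simple j) = 1) → ∀ s < D.nroots, χ s = 1) := by
  obtain ⟨c, hc, hw⟩ := S1034.result D hp.inList t ht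
  have key : ∀ L : List ℕ, (∀ i ∈ L, i < D.rank) → ∀ s < D.nroots, ∀ a : K,
      D.wordMat K (L.flatMap fun i => D.hWord (D.simple i) (c i)) * D.x K s a =
        D.x K s ((L.map fun i => c i ^ D.cartan i s).prod * a) *
          D.wordMat K (L.flatMap fun i => D.hWord (D.simple i) (c i)) := by
    intro L
    induction L with
    | nil =>
      intro _ s _ a
      rw [List.flatMap_nil, wordMat_nil, List.map_nil, List.prod_nil, one_mul, one_mul, mul_one]
    | cons i L ih =>
      intro hl s hs a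
      have hi := hl i List.mem_cons_self
      have h1 := S1032.result D hp.inList i s hi hs (c i) (hc i hi)
        ((L.map fun i => c i ^ D.cartan i s).prod * a)
      rw [List.flatMap_cons, wordMat_append, mul_assoc, ih (fun j hj => hl j (List.mem_cons_of_mem _ hj)) s hs a,
        ← mul_assoc]
      have h2 : D.wordMat K (D.hWord (D.simple i) (c i)) = D.hMat K (D.simple i) (c i) := rfl
      rw [h2, h1, List.map_cons, List.prod_cons, mul_assoc (c i ^ _), mul_assoc]
  have key2 : ∀ L : List ℕ, (∀ i ∈ L, i < D.rank) →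
      D.wordMat K (L.flatMap fun i => D.hWord (D.simple i) (c i)) =
        Matrix.diagonal (Sum.elim (fun _ => (1 : K)) fun s : Fin D.nroots =>
          (L.map fun i => c i ^ D.cartan i s).prod) := by
    intro L
    induction L with
    | nil =>
      intro _
      rw [List.flatMap_nil, wordMat_nil, ← Matrix.diagonal_one]
      congr 1
      funext x
      rcases x with x | x <;> simp
    | cons i L ih =>
      intro hl
      have hi := hl i List.mem_cons_self
      rw [List.flatMap_cons, wordMat_append, ih (fun j hj => hl j (List.mem_cons_of_mem _ hj))]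
      have h2 : D.wordMat K (D.hWord (D.simple i) (c i)) = D.hMat K (D.simple i) (c i) := rfl
      rw [h2, S1033.result D hp.inList i hi (c i) (hc i hi), Matrix.diagonal_mul_diagonal]
      congr 1
      funext x
      rcases x with x | x
      · simp
      · simp [List.map_cons, List.prod_cons]
  refine ⟨fun s => ∏ i ∈ Finset.range D.rank, c i ^ D.cartan i s, ?_, ?_, ?_⟩
  · intro s hs a
    rw [mul_inv_eq_iff_eq_mul]
    refine Units.ext ?_
    rw [Units.val_mul, Units.val_mul, coe_xG, coe_xG, hw, key _ (fun i hi => List.mem_range.1 hi) s hs a,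
      prod_range_eq]
  · rw [hw, key2 _ (fun i hi => List.mem_range.1 hi)]
    simp only [prod_range_eq]
  · intro h1 s hs
    have h2 : ∀ i ∈ Finset.range D.rank, c i ^ D.cartan i s =
        ∏ j ∈ Finset.range D.rank, (c i ^ D.cartan i (D.simple j)) ^ rt D s j := by
      intro i hi
      have hi' := Finset.mem_range.1 hi
      rw [cartan_eq_sum hp.checked hi' hs, zpow_sum' _ _ (hc i hi')]
      refine Finset.prod_congr rfl fun j _ => ?_
      rw [mul_comm, zpow_mul]
    show ∏ i ∈ Finset.range D.rank, c i ^ D.cartan i s = 1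
    rw [Finset.prod_congr rfl h2, Finset.prod_comm]
    refine Finset.prod_eq_one fun j hj => ?_
    have h3 : ∏ i ∈ Finset.range D.rank, c i ^ D.cartan i (D.simple j) = 1 := h1 j (Finset.mem_range.1 hj)
    rw [Finset.prod_zpow, h3, one_zpow]

/-! ### regular unipotent elements -/

variable (hp cs) in
/-- regular unipotent elements (in `U`) -/
def IsReg (u : GL D.Idx K) : Prop := u ∈ D.posUnipotent K ∧ ∀ i : Fin l, u ∉ VV hp K cs i

theorem isReg_wordG [Finite K] (p : ℕ) [Fact p.Prime] [CharP K p] (w : List (ℕ × K))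
    (hw : ∀ c ∈ w, D.IsPosRoot c.1) (h : ∀ i : Fin l, cw D i w ≠ 0) : IsReg hp cs (wordG hp.inList w) := by
  refine ⟨wordG_mem_pos (hp := hp) w hw, fun i hi => h i ?_⟩
  exact (cmp_wordG (hp := hp) (cs := cs) p i w hw).unique p (cmp_of_mem hi)

/-- **the centralizer of a regular unipotent element lies in `U`** -/
theorem mem_U_of_commute [Finite K] (p : ℕ) [Fact p.Prime] [CharP K p] {u g : GL D.Idx K}
    (hu : IsReg hp cs u) (hg : g ∈ D.group K) (hc : g * u = u * g) : g ∈ D.posUnipotent K := by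
  have hW : Finite W := finite_W hp cs
  have R := rgd_GL (K := K) hp cs p
  have hgG : g ∈ GG cs hp.isCartan (D.diagonalSubgroup K) (XV D l K) := by
    refine (group_le_iff hp.inList _).2 (fun r hr t => ?_) hg
    refine X_le_GG (isRoot_vec hp cs hr) ?_
    rw [XV_vec hp K hr]
    exact xG_mem_rootSubgroup hp.inList r t
  have h1 : g ∈ RGD.B cs hp.isCartan (D.diagonalSubgroup K) (XV D l K) := by
    refine mem_B_of_conj R (u := u) ?_ hu.2 hgG ?_
    · rw [sup_pos_GL hp cs]; exact hu.1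
    · have e : g⁻¹ * u * g = u := by rw [mul_assoc, ← hc]; group
      rw [e]
      apply RGD.U_le_B
      rw [sup_pos_GL hp cs]; exact hu.1
  obtain ⟨t, ht, v, hv, rfl⟩ := R.mem_B.1 h1
  rw [sup_pos_GL hp cs] at hv
  obtain ⟨χ, hχ, hdiag, hχ1⟩ := torus_data ht hp
  have h2 : ∀ i : Fin l, χ (D.simple i) = 1 := by
    intro i
    obtain ⟨s, hs⟩ := exists_cmp (hp := hp) (cs := cs) p i hu.1
    obtain ⟨a, ha⟩ := exists_cmp (hp := hp) (cs := cs) p i hv
    have hs0 : s ≠ 0 := by
      rintro rfl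
      obtain ⟨v', hv', e⟩ := hs
      apply hu.2 i
      rw [e, xG_zero, mul_one]
      exact hv'
    have h3 : Cmp hp cs i (v * u * v⁻¹) s := by
      have := (ha.mul p hs).mul p (ha.inv p)
      have e : a + s + -a = s := by ring
      rwa [e] at this
    have h4 : Cmp hp cs i (t * (v * u * v⁻¹) * t⁻¹) (χ (D.simple i) * s) := by
      obtain ⟨v', hv', e⟩ := h3
      refine ⟨t * v' * t⁻¹, (Subgroup.mem_normalizer_iff.1 (T_le_norm_V R i ht) v').1 hv', ?_⟩
      rw [← hχ _ (Cfsg.Agent.ChevalleyStructure.NPerm.simple_lt hp.inList (lt_rank hp i)), e]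
      group
    have h5 : t * (v * u * v⁻¹) * t⁻¹ = u := by
      have : t * (v * u * v⁻¹) * t⁻¹ = (t * v) * u * (t * v)⁻¹ := by group
      rw [this, hc]; group
    rw [h5] at h4
    have h6 := h4.unique p hs
    have h7 : (χ (D.simple i) - 1) * s = 0 := by rw [sub_mul, h6, one_mul, sub_self]
    rcases mul_eq_zero.1 h7 with h8 | h8
    · exact sub_eq_zero.1 h8
    · exact absurd h8 hs0
  have h3 : t = 1 := by
    apply Units.ext
    rw [hdiag, Units.val_one, ← Matrix.diagonal_one]
    congr 1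
    funext x
    rcases x with x | x
    · rfl
    · refine hχ1 (fun j hj => ?_) x x.2
      exact h2 ⟨j, by rw [← hp.rank_eq]; exact hj⟩
  rw [h3, one_mul]
  exact hv

end Chev

end Cfsg.Agent.H228.RegUnip
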