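import Mathlib
import Cfsg.Agent.H228.RegUnip
import Cfsg.Prelude.Def_LieTwisted
import Cfsg.Agent.S1027
import Cfsg.Agent.S1086
import Cfsg.Agent.S1088
import Cfsg.Agent.S1090
import Cfsg.Agent.S1101

/-!
# Elements whose centralizer has order at most `|U|` in the exceptional groups (helper228)

`exists_cent_chev`, `exists_cent_E6`, `exists_cent_D4`, `exists_cent_F4`, `exists_cent_G2` : a regular unipotent element
`x` of `D.group K`, `²E₆`, `³D₄`, `²F₄`, `²G₂` : `|C(x)| ≤ |U|`.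
-/

set_option autoImplicit false
set_option linter.unusedSectionVars false

namespace Cfsg.Agent.H228.RegUnip

open Cfsg.Lie Cfsg.Agent.ChevalleyStructure Cfsg.Agent.ChevalleyStructure.Elts
  Cfsg.Agent.ChevalleyStructure.RootVec Cfsg.Agent.Nodes.RGDChev Cfsg.Agent.H115

universe u

variable {D : ChevalleyDatum} {l : ℕ} {M : CoxeterMatrix (Fin l)} {hp : IsType D l M}
  {K : Type u} [Field K]

/-- the centralizer of a regular unipotent element in a subgroup of `D.group K` -/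
theorem card_centralizer_le [Finite K] (p : ℕ) [Fact p.Prime] [CharP K p] {H : Subgroup (GL D.Idx K)}
    (hH : H ≤ D.group K) {u : GL D.Idx K} (huH : u ∈ H) (hu : IsReg hp M.toCoxeterSystem u) :
    Nat.card (Subgroup.centralizer ({(⟨u, huH⟩ : ↥H)} : Set ↥H)) ≤ Nat.card ↥(D.posUnipotent K ⊓ H) := by
  have : Finite (GL D.Idx K) := inferInstance
  have h1 : ∀ g : ↥(Subgroup.centralizer ({(⟨u, huH⟩ : ↥H)} : Set ↥H)), ((g : ↥H) : GL D.Idx K) ∈ D.posUnipotent K ⊓ H := by
    rintro ⟨⟨g, hg⟩, hc⟩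
    rw [Subgroup.mem_centralizer_singleton_iff] at hc
    exact ⟨mem_U_of_commute p hu (hH hg) (congrArg Subtype.val hc), hg⟩
  refine Nat.card_le_card_of_injective (fun g => (⟨_, h1 g⟩ : ↥(D.posUnipotent K ⊓ H))) ?_
  intro a b hab
  have h2 := congrArg (fun g : ↥(D.posUnipotent K ⊓ H) => (g : GL D.Idx K)) hab
  exact Subtype.ext (Subtype.ext h2)

/-- the criterion with a word -/
theorem exists_cent [Finite K] (hp : IsType D l M) (p : ℕ) [Fact p.Prime] [CharP K p] {H : Subgroup (GL D.Idx K)}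
    (hH : H ≤ D.group K) (w : List (ℕ × K)) (hwH : wordG hp.inList w ∈ H) (hw : ∀ c ∈ w, D.IsPosRoot c.1)
    (h : ∀ i : Fin l, cw D i w ≠ 0) :
    ∃ x : ↥H, Nat.card (Subgroup.centralizer ({x} : Set ↥H)) ≤ Nat.card ↥(D.posUnipotent K ⊓ H) :=
  ⟨⟨_, hwH⟩, card_centralizer_le p hH hwH (isReg_wordG (hp := hp) p w hw h)⟩

theorem genSubgroup_le (hD : InList D) (ws : Set (List (ℕ × K))) : D.genSubgroup K ws ≤ D.group K := by
  refine (Subgroup.closure_le _).2 ?_
  rintro g ⟨w, hw, e⟩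
  have : g = wordG hD w := Units.ext (by rw [e, coe_wordG])
  rw [this]
  exact wordG_mem_group hD w

theorem isPosRoot_simple (hp : IsType D l M) (i : Fin l) : D.IsPosRoot (D.simple i) := by
  rw [pos_iff_vec hp (Cfsg.Agent.ChevalleyStructure.NPerm.simple_lt hp.inList (lt_rank hp i)), vec_simple hp]
  exact Cfsg.Agent.Tits.Roots.sr_nonneg i

theorem simple_inj (hp : IsType D l M) {i j : Fin l} (h : D.simple i = D.simple j) : i = j := by
  have h1 := vec_simple hp i
  rw [h, vec_simple hp] at h1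
  by_contra hij
  have h2 := congrFun h1 j
  rw [Cfsg.Agent.Tits.Roots.sr_self, Cfsg.Agent.Tits.Roots.sr_ne (Ne.symm hij)] at h2
  exact one_ne_zero h2

/-- Chevalley groups -/
theorem exists_cent_chev [Finite K] (hp : IsType D l M) (p : ℕ) [Fact p.Prime] [CharP K p] :
    ∃ x : ↥(D.group K), Nat.card (Subgroup.centralizer ({x} : Set ↥(D.group K))) ≤ Nat.card K ^ (D.nroots / 2) := by
  have : Fintype K := Fintype.ofFinite K
  obtain ⟨x, hx⟩ := exists_cent (K := K) hp p le_rfl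
    ((List.finRange l).map fun i : Fin l => (D.simple i, (1 : K))) (wordG_mem_group hp.inList _) (by
      intro c hc
      obtain ⟨i, hi, rfl⟩ := List.mem_map.1 hc
      exact isPosRoot_simple hp i) (by
      intro i
      have h1 : cw D i ((List.finRange l).map fun i : Fin l => (D.simple i, (1 : K))) =
          ∑ j : Fin l, if j = i then (1 : K) else 0 := by
        unfold cw
        rw [List.map_map, ← List.ofFn_eq_map, List.sum_ofFn]
        refine Finset.sum_congr rfl fun j _ => ?_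
        by_cases hj : j = i
        · subst hj; simp
        · rw [if_neg hj]
          show (if D.simple j = D.simple i then (1 : K) else 0) = 0
          rw [if_neg fun h => hj (simple_inj hp h)]
      rw [h1]
      simp)
  refine ⟨x, hx.trans (le_of_eq ?_)⟩
  rw [inf_eq_left.2 (pos_le_group hp), S1027.result D hp.inList, Nat.card_eq_fintype_card]

theorem wordG_mem_gen (hD : InList D) {ws : Set (List (ℕ × K))} {w : List (ℕ × K)} (hw : w ∈ ws) :
    wordG hD w ∈ D.genSubgroup K ws := Subgroup.subset_closure ⟨w, hw, coe_wordG hD w⟩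

/-- `²E₆` -/
theorem exists_cent_E6 [Fintype K] {q : ℕ} (hq : IsPrimePow q) (hK : Fintype.card K = q ^ 2) :
    ∃ x : ↥(twistedE6 K q), Nat.card (Subgroup.centralizer ({x} : Set ↥(twistedE6 K q))) ≤ q ^ 36 := by
  have hp : IsType chevE6 6 CoxeterMatrix.E₆ := by simp [IsType, typeList]
  obtain ⟨p, hch⟩ := CharP.exists K
  have : Fact p.Prime := ⟨CharP.char_is_prime K p⟩
  rw [← S1086.result hq hK]
  have h1 : ∀ t : K, ∀ rs ∈ [(e6p1, e6p6), (e6m1, e6m6), (e6p3, e6p5), (e6m3, e6m5)],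
      wordG hp.inList [(rs.1, t), (rs.2, t ^ q)] ∈ twistedE6 K q := fun t rs hrs =>
    wordG_mem_gen hp.inList (Or.inr ⟨t, rs, hrs, rfl⟩)
  have h2 : ∀ r ∈ [e6p2, e6m2, e6p4, e6m4], wordG hp.inList [(r, (1 : K))] ∈ twistedE6 K q := fun r hr =>
    wordG_mem_gen hp.inList (Or.inl ⟨1, one_pow q, r, hr, rfl⟩)
  refine exists_cent (K := K) hp p (genSubgroup_le hp.inList _)
    ([(e6p1, (1 : K)), (e6p6, (1 : K) ^ q)] ++ [(e6p3, (1 : K)), (e6p5, (1 : K) ^ q)] ++ [(e6p2, (1 : K))] ++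
      [(e6p4, (1 : K))]) ?_ ?_ ?_
  · rw [wordG_append, wordG_append, wordG_append]
    exact mul_mem (mul_mem (mul_mem (h1 1 (e6p1, e6p6) List.mem_cons_self)
      (h1 1 (e6p3, e6p5) (List.mem_cons_of_mem _ (List.mem_cons_of_mem _ List.mem_cons_self))))
      (h2 e6p2 List.mem_cons_self)) (h2 e6p4 (List.mem_cons_of_mem _ (List.mem_cons_of_mem _ List.mem_cons_self)))
  · have key : ∀ r ∈ [56, 36, 42, 37, 46, 39], chevE6.IsPosRoot r := by decide +kernel
    intro c hc
    apply key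
    simp only [List.cons_append, List.nil_append, List.mem_cons, List.not_mem_nil, or_false] at hc
    rcases hc with rfl | rfl | rfl | rfl | rfl | rfl <;> simp [e6p1, e6p2, e6p3, e6p4, e6p5, e6p6]
  · have hs : chevE6.simple 0 = 56 ∧ chevE6.simple 1 = 46 ∧ chevE6.simple 2 = 42 ∧ chevE6.simple 3 = 39 ∧
        chevE6.simple 4 = 37 ∧ chevE6.simple 5 = 36 := by decide +kernel
    obtain ⟨h0, h1, h2, h3, h4, h5⟩ := hs
    intro i
    fin_cases i <;> simp [cw, e6p1, e6p2, e6p3, e6p4, e6p5, e6p6, h0, h1, h2, h3, h4, h5]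

/-- `³D₄` -/
theorem exists_cent_D4 [Fintype K] {q : ℕ} (hq : IsPrimePow q) (hK : Fintype.card K = q ^ 3) :
    ∃ x : ↥(twistedD4 K q), Nat.card (Subgroup.centralizer ({x} : Set ↥(twistedD4 K q))) ≤ q ^ 12 := by
  have hp : IsType chevD4 4 coxeterD4 := by simp [IsType, typeList]
  obtain ⟨p, hch⟩ := CharP.exists K
  have : Fact p.Prime := ⟨CharP.char_is_prime K p⟩
  rw [← S1088.result hq hK]
  have h1 : wordG hp.inList [(d4p1, (1 : K)), (d4p3, (1 : K) ^ q), (d4p4, (1 : K) ^ (q ^ 2))] ∈ twistedD4 K q :=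
    wordG_mem_gen hp.inList (Or.inr ⟨1, (d4p1, d4p3, d4p4), by simp, rfl⟩)
  have h2 : wordG hp.inList [(d4p2, (1 : K))] ∈ twistedD4 K q :=
    wordG_mem_gen hp.inList (Or.inl ⟨1, one_pow q, d4p2, by simp, rfl⟩)
  refine exists_cent (K := K) hp p (genSubgroup_le hp.inList _)
    ([(d4p1, (1 : K)), (d4p3, (1 : K) ^ q), (d4p4, (1 : K) ^ (q ^ 2))] ++ [(d4p2, (1 : K))]) ?_ ?_ ?_
  · rw [wordG_append]
    exact mul_mem h1 h2
  · have key : ∀ r ∈ [18, 14, 13, 12], chevD4.IsPosRoot r := by decide +kernel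
    intro c hc
    apply key
    simp only [List.cons_append, List.nil_append, List.mem_cons, List.not_mem_nil, or_false] at hc
    rcases hc with rfl | rfl | rfl | rfl <;> simp [d4p1, d4p2, d4p3, d4p4]
  · have hs : chevD4.simple 0 = 18 ∧ chevD4.simple 1 = 14 ∧ chevD4.simple 2 = 13 ∧ chevD4.simple 3 = 12 := by
      decide +kernel
    obtain ⟨h0, h1, h2, h3⟩ := hs
    intro i
    fin_cases i <;> simp [cw, d4p1, d4p2, d4p3, d4p4, h0, h1, h2, h3]

/-- `²F₄` -/
theorem exists_cent_F4 [Fintype K] {m : ℕ} (hK : Fintype.card K = 2 ^ (2 * m + 1)) :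
    ∃ x : ↥(twistedF4 K (2 ^ m)), Nat.card (Subgroup.centralizer ({x} : Set ↥(twistedF4 K (2 ^ m)))) ≤
      (2 ^ (2 * m + 1)) ^ 12 := by
  have hp : IsType chevF4 4 CoxeterMatrix.F₄ := by simp [IsType, typeList]
  obtain ⟨p, hch⟩ := CharP.exists K
  have : Fact p.Prime := ⟨CharP.char_is_prime K p⟩
  rw [← S1090.result hK]
  have h1 : wordG hp.inList (f4PairWord (2 ^ m) f4p1 f4p4 (1 : K)) ∈ twistedF4 K (2 ^ m) :=
    wordG_mem_gen hp.inList (Or.inl ⟨1, Or.inl rfl⟩)
  have h2 : wordG hp.inList (b2ClassWord (2 ^ m) f4a f4b f4ab f4aab (1 : K) 0) ∈ twistedF4 K (2 ^ m) :=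
    wordG_mem_gen hp.inList (Or.inr ⟨1, 0, Or.inl rfl⟩)
  refine exists_cent (K := K) hp p (genSubgroup_le hp.inList _)
    (f4PairWord (2 ^ m) f4p1 f4p4 (1 : K) ++ b2ClassWord (2 ^ m) f4a f4b f4ab f4aab (1 : K) 0) ?_ ?_ ?_
  · rw [wordG_append]
    exact mul_mem h1 h2
  · have key : ∀ r ∈ [33, 24, 27, 25, 28, 30], chevF4.IsPosRoot r := by decide +kernel
    intro c hc
    apply key
    simp only [f4PairWord, b2ClassWord, List.cons_append, List.nil_append, List.mem_cons, List.not_mem_nil,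
      or_false] at hc
    rcases hc with rfl | rfl | rfl | rfl | rfl | rfl <;> simp [f4p1, f4p4, f4a, f4b, f4ab, f4aab]
  · have hs : chevF4.simple 0 = 33 ∧ chevF4.simple 1 = 27 ∧ chevF4.simple 2 = 25 ∧ chevF4.simple 3 = 24 := by
      decide +kernel
    obtain ⟨h0, h1, h2, h3⟩ := hs
    intro i
    fin_cases i <;> simp [cw, f4PairWord, b2ClassWord, f4p1, f4p4, f4a, f4b, f4ab, f4aab, h0, h1, h2, h3]

/-- `²G₂` -/
theorem exists_cent_G2 [Fintype K] {m : ℕ} (hK : Fintype.card K = 3 ^ (2 * m + 1)) :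
    ∃ x : ↥(twistedG2 K (3 ^ m)), Nat.card (Subgroup.centralizer ({x} : Set ↥(twistedG2 K (3 ^ m)))) ≤
      (3 ^ (2 * m + 1)) ^ 3 := by
  have hp : IsType chevG2 2 CoxeterMatrix.G₂ := by simp [IsType, typeList]
  obtain ⟨p, hch⟩ := CharP.exists K
  have : Fact p.Prime := ⟨CharP.char_is_prime K p⟩
  rw [← (S1101.result hK).2]
  refine exists_cent (K := K) hp p (genSubgroup_le hp.inList _) (reeWordU (3 ^ m) (1 : K) 0 0) ?_ ?_ ?_
  · exact wordG_mem_gen hp.inList ⟨1, 0, 0, Or.inl rfl⟩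
  · have key : ∀ r ∈ [7, 6, 8, 9, 10, 11], chevG2.IsPosRoot r := by decide +kernel
    intro c hc
    apply key
    simp only [reeWordU, List.mem_cons, List.not_mem_nil, or_false] at hc
    rcases hc with rfl | rfl | rfl | rfl | rfl | rfl <;> simp [g2a, g2b, g2ab, g2aab, g2aaab, g2aaabb]
  · have hs : chevG2.simple 0 = 7 ∧ chevG2.simple 1 = 6 := by decide +kernel
    obtain ⟨h0, h1⟩ := hs
    intro i
    fin_cases i <;> simp [cw, reeWordU, g2a, g2b, g2ab, g2aab, g2aaab, g2aaabb, h0, h1]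

end Cfsg.Agent.H228.RegUnip
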