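import Mathlib
import Cfsg.Agent.H548.Crit
import Cfsg.Agent.H228.CritArith
import Cfsg.Agent.H228.RegCent
import Cfsg.Agent.S1059
import Cfsg.Agent.S1062
import Cfsg.Agent.S1063
import Cfsg.Agent.S1064
import Cfsg.Agent.S1065
import Cfsg.Agent.S1066
import Cfsg.Agent.S1067
import Cfsg.Agent.S1068
import Cfsg.Agent.S1069
import Cfsg.Agent.S2121
import Cfsg.Agent.S2122
import Cfsg.Agent.S2123
import Cfsg.Agent.S2124
import Cfsg.Agent.S2125
import Cfsg.Agent.S2127
import Cfsg.Agent.S2128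
import Cfsg.Agent.S2129
import Cfsg.Agent.S2130

/-!
# `Crit S` for the exceptional groups of Lie type (helper228)
-/

set_option autoImplicit false

namespace Cfsg.Agent.H228.CritExc

open Cfsg.Lie Cfsg.Agent.H548.Crit Cfsg.Agent.H228.CritArith Cfsg.Agent.H228.RegUnip Cfsg.Agent.Nodes.RGDChev

universe u

/-- the criterion -/
theorem crit_q {S : Type u} [Group S] [Finite S] {r f q N M a b o : ℕ} (hr : r.Prime) (hq : q = r ^ f) (hf : f ≠ 0)
    (hx : ∃ x : S, Nat.card (Subgroup.centralizer ({x} : Set S)) ≤ q ^ N)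
    (hS : Nat.card S = q ^ N * M) (hqM : Nat.Coprime q M) (ho : Nat.card (Cfsg.Out S) ≤ o)
    (hab : Nat.Coprime a b) (hM : a * b ∣ M) (ha : 2 * o ≤ a) (hb : 2 * o ≤ b)
    (h : 2 * o * q ^ N ≤ M) : Crit S := by
  obtain ⟨x, hx⟩ := hx
  refine crit_of_lie x (r := r) (N := f * N) (M := M) hr (by rw [hS, hq, ← pow_mul])
    (not_dvd_of_coprime hr (hq ▸ dvd_pow_self r hf) hqM) (by rw [pow_mul, ← hq]; exact hx) ho hab hM ha hb ?_
  exact (Nat.mul_le_mul_left _ hx).trans h

theorem crit_F4 {F : Type u} [Field F] [Fintype F] : Crit ↥(chevF4.group F) := by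
  obtain ⟨p, hch⟩ := CharP.exists F
  obtain ⟨f, hp, hF⟩ := FiniteField.card F p
  have : Fact p.Prime := ⟨hp⟩
  have hp2 := hp.two_le
  have hO := S2122.result (F := F) p f hF
  obtain ⟨q, hq⟩ : ∃ q, q = p ^ (f : ℕ) := ⟨_, rfl⟩
  rw [← hq] at hF
  try rw [← hq] at hO
  have hfq := f_lt hp2 hq
  have hf : (f : ℕ) ≠ 0 := f.ne_zero
  generalize (f : ℕ) = f at *
  have hq2 : 2 ≤ q := by omega
  have hx := exists_cent_chev (K := F) (hp := by simp [IsType, typeList]) (D := chevF4) (l := 4)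
    (M := CoxeterMatrix.F₄) p
  rw [show chevF4.nroots / 2 = 24 by decide +kernel, Nat.card_eq_fintype_card, hF] at hx
  have ho : Nat.card (Cfsg.Out ↥(chevF4.group F)) ≤ 2 * (1 * f) := by
    rw [hO, one_mul]; exact Nat.mul_le_mul_right _ (Nat.gcd_le_left _ (by norm_num))
  have hb := b_le (d := 1) hq2 (by omega) hfq
  have ha := a_le (d := 1) hq2 (by omega) hfq
  refine crit_q hp hq hf hx (M := (q ^ 2 - 1) * (q ^ 6 - 1) * (q ^ 8 - 1) * (q ^ 12 - 1)) ?_ ?_ ho
    (cop_812 (q := q) (by omega)) ?_ ?_ ?_ ?_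
  · rw [S1062.result hF]; ring
  · exact (((cop_sub (by omega) (by norm_num)).mul_right (cop_sub (by omega) (by norm_num))).mul_right
      (cop_sub (by omega) (by norm_num))).mul_right (cop_sub (by omega) (by norm_num))
  · refine (dvd_812 (q := q) (by omega)).trans ⟨(q ^ 2 - 1) * (q ^ 6 - 1), by ring⟩
  · omega
  · omega
  · have h1 := prod_bound (u := 1) (v := 2) hq2 [2, 6, 8, 12] (by norm_num)
    simp only [List.sum_cons, List.sum_nil, List.map_cons, List.map_nil, List.prod_cons, List.prod_nil,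
      mul_one] at h1
    have h2 := df_le (d := 1) hq2 (by omega) hfq
    have h3 := fin_le (N := 24) (k := 4) (E := 1) (o := 2 * (2 * (1 * f))) (by norm_num) rfl h1 (by
      have : 8 * (1 * f) ≤ 8 * q := by omega
      have h8 : 8 ≤ q ^ 3 := by calc 8 = 2 ^ 3 := by norm_num
                                 _ ≤ q ^ 3 := Nat.pow_le_pow_left hq2 3
      calc 2 * (2 * (2 * (1 * f))) = 8 * f := by ring
        _ ≤ 8 * q := by omega
        _ ≤ q ^ 3 * q := Nat.mul_le_mul_right _ h8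
        _ = 1 * (1 * q ^ 4) := by ring)
    refine h3.trans (le_of_eq ?_)
    ring

theorem crit_E6 {F : Type u} [Field F] [Fintype F] : Crit ↥(chevE6.group F) := by
  obtain ⟨p, hch⟩ := CharP.exists F
  obtain ⟨f, hp, hF⟩ := FiniteField.card F p
  have : Fact p.Prime := ⟨hp⟩
  have hp2 := hp.two_le
  have hO := S2123.result (F := F) p f hF
  obtain ⟨q, hq⟩ : ∃ q, q = p ^ (f : ℕ) := ⟨_, rfl⟩
  rw [← hq] at hF
  try rw [← hq] at hO
  have hfq := f_lt hp2 hq
  have hf : (f : ℕ) ≠ 0 := f.ne_zero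
  generalize (f : ℕ) = f at *
  have hq2 : 2 ≤ q := by omega
  have hx := exists_cent_chev (K := F) (hp := by simp [IsType, typeList]) (D := chevE6) (l := 6)
    (M := CoxeterMatrix.E₆) p
  rw [show chevE6.nroots / 2 = 36 by decide +kernel, Nat.card_eq_fintype_card, hF] at hx
  obtain ⟨d, hd⟩ : ∃ d, d = Nat.gcd 3 (q - 1) := ⟨_, rfl⟩
  rw [← hd] at hO
  have hd1 : d ∣ q - 1 := hd ▸ Nat.gcd_dvd_right _ _
  have hd0 : 0 < d := Nat.pos_of_dvd_of_pos hd1 (by omega)
  have hdq : d ≤ q - 1 := Nat.le_of_dvd (by omega) hd1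
  obtain ⟨e, he⟩ := hd1
  have hcard := S1063.result hF
  rw [← hd] at hcard
  have hq1 : q ^ 2 - 1 = d * (e * (q + 1)) := by
    rw [← sub_mul_add (x := q) (by omega), he]; ring
  have hS : Nat.card ↥(chevE6.group F) = q ^ 36 * ((e * (q + 1)) * ((q ^ 5 - 1) * (q ^ 6 - 1) * (q ^ 8 - 1) * (q ^ 9 - 1) * (q ^ 12 - 1))) := by
    refine Nat.eq_of_mul_eq_mul_left hd0 ?_
    rw [hcard, hq1]; ring
  have he0 : 1 ≤ e := by
    rcases Nat.eq_zero_or_pos e with h | h
    · subst h; omega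
    · exact h
  have hb := b_le hq2 hdq hfq
  have ha := a_le hq2 hdq hfq
  refine crit_q (o := 2 * (d * f)) hp hq hf hx hS ?_ (le_of_eq (hO.trans (by ring)))
    (cop_812 (q := q) (by omega)) ?_ ?_ ?_ ?_
  · refine Nat.Coprime.mul_right ?_ (((((cop_sub (by omega) (by norm_num)).mul_right
      (cop_sub (by omega) (by norm_num))).mul_right
      (cop_sub (by omega) (by norm_num))).mul_right
      (cop_sub (by omega) (by norm_num))).mul_right
      (cop_sub (by omega) (by norm_num)))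
    exact Nat.Coprime.coprime_dvd_right ⟨d, by rw [hq1]; ring⟩ (cop_sub (q := q) (i := 2) (by omega) (by norm_num))
  · refine (dvd_812 (q := q) (by omega)).trans ⟨(e * (q + 1)) * ((q ^ 5 - 1) * (q ^ 6 - 1) * (q ^ 9 - 1)), by ring⟩
  · omega
  · omega
  · have h1 := prod_bound (u := 1) (v := 2) hq2 [5, 6, 8, 9, 12] (by norm_num)
    simp only [List.sum_cons, List.sum_nil, List.map_cons, List.map_nil, List.prod_cons, List.prod_nil,
      mul_one] at h1
    have h2 := df_le hq2 hdq hfq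
    have h3 := fin_le (N := 36) (k := 4) (E := e * (q + 1)) (o := 2 * (2 * (d * f))) (by norm_num) rfl h1 (by
      have h8 : 1 * ((q + 1) * q ^ 4) ≤ e * ((q + 1) * q ^ 4) := Nat.mul_le_mul_right _ he0
      calc 2 * (2 * (2 * (d * f))) = 8 * (d * f) := by ring
        _ ≤ 1 * ((q + 1) * q ^ 4) := by omega
        _ ≤ e * ((q + 1) * q ^ 4) := h8
        _ = e * (q + 1) * (1 * q ^ 4) := by ring)
    refine h3.trans (le_of_eq ?_)
    ring

theorem crit_E7 {F : Type u} [Field F] [Fintype F] : Crit ↥(chevE7.group F) := by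
  obtain ⟨p, hch⟩ := CharP.exists F
  obtain ⟨f, hp, hF⟩ := FiniteField.card F p
  have : Fact p.Prime := ⟨hp⟩
  have hp2 := hp.two_le
  have hO := S2124.result (F := F) p f hF
  obtain ⟨q, hq⟩ : ∃ q, q = p ^ (f : ℕ) := ⟨_, rfl⟩
  rw [← hq] at hF
  try rw [← hq] at hO
  have hfq := f_lt hp2 hq
  have hf : (f : ℕ) ≠ 0 := f.ne_zero
  generalize (f : ℕ) = f at *
  have hq2 : 2 ≤ q := by omega
  have hx := exists_cent_chev (K := F) (hp := by simp [IsType, typeList]) (D := chevE7) (l := 7)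
    (M := CoxeterMatrix.E₇) p
  rw [show chevE7.nroots / 2 = 63 by decide +kernel, Nat.card_eq_fintype_card, hF] at hx
  obtain ⟨d, hd⟩ : ∃ d, d = Nat.gcd 2 (q - 1) := ⟨_, rfl⟩
  rw [← hd] at hO
  have hd1 : d ∣ q - 1 := hd ▸ Nat.gcd_dvd_right _ _
  have hd0 : 0 < d := Nat.pos_of_dvd_of_pos hd1 (by omega)
  have hdq : d ≤ q - 1 := Nat.le_of_dvd (by omega) hd1
  obtain ⟨e, he⟩ := hd1
  have hcard := S1064.result hF
  rw [← hd] at hcard
  have hq1 : q ^ 2 - 1 = d * (e * (q + 1)) := by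
    rw [← sub_mul_add (x := q) (by omega), he]; ring
  have hS : Nat.card ↥(chevE7.group F) = q ^ 63 * ((e * (q + 1)) * ((q ^ 6 - 1) * (q ^ 8 - 1) * (q ^ 10 - 1) * (q ^ 12 - 1) * (q ^ 14 - 1) * (q ^ 18 - 1))) := by
    refine Nat.eq_of_mul_eq_mul_left hd0 ?_
    rw [hcard, hq1]; ring
  have he0 : 1 ≤ e := by
    rcases Nat.eq_zero_or_pos e with h | h
    · subst h; omega
    · exact h
  have hb := b_le hq2 hdq hfq
  have ha := a_le hq2 hdq hfq
  refine crit_q (o := d * f) hp hq hf hx hS ?_ (le_of_eq (hO.trans (by ring)))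
    (cop_812 (q := q) (by omega)) ?_ ?_ ?_ ?_
  · refine Nat.Coprime.mul_right ?_ ((((((cop_sub (by omega) (by norm_num)).mul_right
      (cop_sub (by omega) (by norm_num))).mul_right
      (cop_sub (by omega) (by norm_num))).mul_right
      (cop_sub (by omega) (by norm_num))).mul_right
      (cop_sub (by omega) (by norm_num))).mul_right
      (cop_sub (by omega) (by norm_num)))
    exact Nat.Coprime.coprime_dvd_right ⟨d, by rw [hq1]; ring⟩ (cop_sub (q := q) (i := 2) (by omega) (by norm_num))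
  · refine (dvd_812 (q := q) (by omega)).trans ⟨(e * (q + 1)) * ((q ^ 6 - 1) * (q ^ 10 - 1) * (q ^ 14 - 1) * (q ^ 18 - 1)), by ring⟩
  · omega
  · omega
  · have h1 := prod_bound (u := 1) (v := 2) hq2 [6, 8, 10, 12, 14, 18] (by norm_num)
    simp only [List.sum_cons, List.sum_nil, List.map_cons, List.map_nil, List.prod_cons, List.prod_nil,
      mul_one] at h1
    have h2 := df_le hq2 hdq hfq
    have h3 := fin_le (N := 63) (k := 5) (E := e * (q + 1)) (o := 2 * (d * f)) (by norm_num) rfl h1 (by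
      have h8 : 1 * ((q + 1) * q ^ 4) ≤ e * ((q + 1) * q ^ 4) := Nat.mul_le_mul_right _ he0
      have h9 : q ^ 4 ≤ q ^ 5 := Nat.pow_le_pow_right (by omega) (by norm_num)
      calc 2 * (2 * (d * f)) ≤ 8 * (d * f) := by omega
        _ ≤ 1 * ((q + 1) * q ^ 4) := by omega
        _ ≤ e * ((q + 1) * q ^ 4) := h8
        _ ≤ e * ((q + 1) * q ^ 5) := Nat.mul_le_mul_left _ (Nat.mul_le_mul_left _ h9)
        _ = e * (q + 1) * (1 * q ^ 5) := by ring)
    refine h3.trans (le_of_eq ?_)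
    ring

theorem crit_E8 {F : Type u} [Field F] [Fintype F] : Crit ↥(chevE8.group F) := by
  obtain ⟨p, hch⟩ := CharP.exists F
  obtain ⟨f, hp, hF⟩ := FiniteField.card F p
  have : Fact p.Prime := ⟨hp⟩
  have hp2 := hp.two_le
  have hO := S2125.result (F := F) p f hF
  obtain ⟨q, hq⟩ : ∃ q, q = p ^ (f : ℕ) := ⟨_, rfl⟩
  rw [← hq] at hF
  have hfq := f_lt hp2 hq
  have hf : (f : ℕ) ≠ 0 := f.ne_zero
  generalize (f : ℕ) = f at *
  have hq2 : 2 ≤ q := by omega
  have hx := exists_cent_chev (K := F) (hp := by simp [IsType, typeList]) (D := chevE8) (l := 8)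
    (M := CoxeterMatrix.E₈) p
  rw [show chevE8.nroots / 2 = 120 by decide +kernel, Nat.card_eq_fintype_card, hF] at hx
  have hb := b_le (d := 1) hq2 (by omega) hfq
  have ha := a_le (d := 1) hq2 (by omega) hfq
  refine crit_q hp hq hf hx (M := (q ^ 2 - 1) * (q ^ 8 - 1) * (q ^ 12 - 1) * (q ^ 14 - 1) * (q ^ 18 - 1) *
    (q ^ 20 - 1) * (q ^ 24 - 1) * (q ^ 30 - 1)) ?_ ?_ (le_of_eq hO) (cop_812 (q := q) (by omega)) ?_ ?_ ?_ ?_
  · rw [S1065.result hF]; ring
  · exact (((((((cop_sub (by omega) (by norm_num)).mul_right (cop_sub (by omega) (by norm_num))).mul_right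
      (cop_sub (by omega) (by norm_num))).mul_right (cop_sub (by omega) (by norm_num))).mul_right
      (cop_sub (by omega) (by norm_num))).mul_right (cop_sub (by omega) (by norm_num))).mul_right
      (cop_sub (by omega) (by norm_num))).mul_right (cop_sub (by omega) (by norm_num))
  · refine (dvd_812 (q := q) (by omega)).trans ⟨(q ^ 2 - 1) * (q ^ 14 - 1) * (q ^ 18 - 1) *
      (q ^ 20 - 1) * (q ^ 24 - 1) * (q ^ 30 - 1), by ring⟩
  · omega
  · omega
  · have h1 := prod_bound (u := 1) (v := 2) hq2 [2, 8, 12, 14, 18, 20, 24, 30] (by norm_num)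
    simp only [List.sum_cons, List.sum_nil, List.map_cons, List.map_nil, List.prod_cons, List.prod_nil,
      mul_one] at h1
    have h3 := fin_le (N := 120) (k := 8) (E := 1) (o := 2 * f) (by norm_num) rfl h1 (by
      have h8 : 4 ≤ q ^ 7 := by calc 4 ≤ 2 ^ 7 := by norm_num
                                 _ ≤ q ^ 7 := Nat.pow_le_pow_left hq2 7
      calc 2 * (2 * f) ≤ 4 * q := by omega
        _ ≤ q ^ 7 * q := Nat.mul_le_mul_right _ h8
        _ = 1 * (1 * q ^ 8) := by ring)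
    refine h3.trans (le_of_eq ?_)
    ring

theorem crit_G2 {F : Type u} [Field F] [Fintype F] (h3 : 3 ≤ Fintype.card F) : Crit ↥(chevG2.group F) := by
  obtain ⟨p, hch⟩ := CharP.exists F
  obtain ⟨f, hp, hF⟩ := FiniteField.card F p
  have : Fact p.Prime := ⟨hp⟩
  have hp2 := hp.two_le
  have hO := S2121.result (F := F) p f hF (by rw [← hF]; exact h3)
  obtain ⟨q, hq⟩ : ∃ q, q = p ^ (f : ℕ) := ⟨_, rfl⟩
  rw [← hq] at hF
  have hfq := f_lt hp2 hq
  have hf : (f : ℕ) ≠ 0 := f.ne_zero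
  generalize (f : ℕ) = f at *
  rw [hF] at h3
  have hq2 : 2 ≤ q := by omega
  have hx := exists_cent_chev (K := F) (hp := by simp [IsType, typeList]) (D := chevG2) (l := 2)
    (M := CoxeterMatrix.G₂) p
  rw [show chevG2.nroots / 2 = 6 by decide +kernel, Nat.card_eq_fintype_card, hF] at hx
  -- `2 o ≤ q - 1` or `q = 4` or ...
  obtain ⟨o, ho⟩ : ∃ o, o = (if p = 3 then 2 * f else f) := ⟨_, rfl⟩
  rw [← ho] at hO
  have h4o : 4 * o ≤ q ^ 2 ∧ 2 * o ≤ q ^ 2 - q + 1 := by
    by_cases hp3 : p = 3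
    · rw [if_pos hp3] at ho
      subst hp3
      have h5 : 2 * f + 1 ≤ q := by
        rw [hq]
        clear * -
        induction f with
        | zero => norm_num
        | succ n ih => rw [pow_succ]; omega
      have h6 : q ≤ q ^ 2 := Nat.le_self_pow (by norm_num) q
      constructor
      · subst ho
        nlinarith
      · subst ho
        zify [h6]
        nlinarith
    · rw [if_neg hp3] at ho
      subst ho
      have h6 : q ≤ q ^ 2 := Nat.le_self_pow (by norm_num) q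
      constructor
      · by_cases hf1 : o = 1
        · subst hf1; nlinarith
        · have h7 : 2 * o ≤ 2 ^ o := by
            obtain ⟨j, rfl⟩ : ∃ j, o = j + 2 := ⟨o - 2, by omega⟩
            clear * -
            induction j with
            | zero => norm_num
            | succ n ih => rw [show n + 1 + 2 = (n + 2) + 1 by ring, pow_succ]; omega
          have h8 : 2 ^ o ≤ q := by rw [hq]; exact Nat.pow_le_pow_left hp2 o
          nlinarith
      · zify [h6]
        nlinarith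
  obtain ⟨h4, h5⟩ := h4o
  refine crit_q hp hq hf hx (M := (q ^ 2 - 1) * (q ^ 6 - 1)) ?_ ?_ (le_of_eq hO) (cop_36 (q := q) (by omega)) ?_ ?_ h5 ?_
  · rw [S1059.result hF]; ring
  · exact (cop_sub (by omega) (by norm_num)).mul_right (cop_sub (by omega) (by norm_num))
  · exact (dvd_36 (q := q) (by omega)).trans ⟨q ^ 2 - 1, by ring⟩
  · omega
  · have h1 := prod_bound (u := 1) (v := 2) hq2 [2, 6] (by norm_num)
    simp only [List.sum_cons, List.sum_nil, List.map_cons, List.map_nil, List.prod_cons, List.prod_nil,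
      mul_one] at h1
    have h3 := fin_le (N := 6) (k := 2) (E := 1) (o := 2 * o) (by norm_num) rfl h1 (by
      calc 2 * (2 * o) = 4 * o := by ring
        _ ≤ q ^ 2 := h4
        _ = 1 * (1 * q ^ 2) := by ring)
    refine h3.trans (le_of_eq ?_)
    ring

/-- the exceptional Chevalley groups -/
theorem crit_of_chev {p : ℕ} {G : Type u} [Group G] (hG : IsExceptionalChevChar p G) : Crit G := by
  obtain ⟨F, _, _, _, ⟨h3, ⟨e⟩⟩ | ⟨⟨e⟩⟩ | ⟨⟨e⟩⟩ | ⟨⟨e⟩⟩ | ⟨⟨e⟩⟩⟩ := hG
  · exact (crit_G2 h3).congr e.symm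
  · exact crit_F4.congr e.symm
  · exact crit_E6.congr e.symm
  · exact crit_E7.congr e.symm
  · exact crit_E8.congr e.symm

end Cfsg.Agent.H228.CritExc
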