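import Cfsg.Agent.H228.FourO

/-!
# Elements of odd order in orthogonal groups of odd characteristic (helper228)

* `exists_POmega_odd` : elements of `PΩ(V)` of odd order from realisable tuples;
* `adj_even` : elements of order `r p`, `p` the characteristic, `2 η(r) + 3 ≤ dim V`;
* `big_orth` : elements of order `(q² + 1) / 2`.
-/

set_option autoImplicit false
set_option linter.unusedSectionVars false

namespace Cfsg.Agent.H228.FourO

open QuadraticMap Module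
open Cfsg.Agent.LieClassical.OrthCore Cfsg.Agent.LieClassical.OrthFinite Cfsg.Agent.LieClassical.OrthForms
  Cfsg.Agent.H160 Cfsg.Agent.H160.QSpin Cfsg.Agent.H160.QDisc Cfsg.Agent.H160.QSplit
  Cfsg.Agent.H160.QReal Cfsg.Agent.H160.QMain Cfsg.Agent.H160.QSemi Cfsg.Agent.H160.QModel Cfsg.Agent.H160.QFinal
open Cfsg.Agent.H72.AdjOrth Cfsg.Agent.H72.AdjCoc

variable {F : Type*} [Field F] [Fintype F] [DecidableEq F]

/-- **Elements of `PΩ(V)` of odd order** -/
theorem exists_POmega_odd (h2 : (2 : F) ≠ 0) {ι : Type} [Fintype ι] [DecidableEq ι] {Q : QuadraticForm F (ι → F)}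
    (hQ : Nondeg Q) {n : ℕ} (hn : Fintype.card ι = n) (hd : 5 ≤ n) {N : ℕ} (hN : Odd N)
    (h : Rz F n (dc Q) 1 N) : ∃ z : Cfsg.POmega F ⇑Q, orderOf z = N := by
  obtain ⟨g, hg, hord⟩ := transport_rz h2 hQ hn h
  obtain ⟨x, rfl⟩ := exists_lin h2 hQ (by omega) hg
  have hG := good_of_finite hQ (by rw [finrank_fintype_fun_eq_card]; omega)
  refine ⟨QuotientGroup.mk x, ?_⟩
  rw [orderOf_lin] at hord
  apply Nat.dvd_antisymm
  · rw [← hord]
    exact orderOf_map_dvd (QuotientGroup.mk' _) x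
  · set M := orderOf (QuotientGroup.mk x : Cfsg.POmega F ⇑Q) with hM
    have h3 : x ^ M ∈ Subgroup.center (Cfsg.Omega F ⇑Q) := by
      rw [← QuotientGroup.eq_one_iff, QuotientGroup.mk_pow, hM, pow_orderOf_eq_one]
    obtain ⟨w, hw0, hw⟩ := hG.sing
    rcases (LieClassical.OrthCenter.mem_center_omega_iff (nondeg_bilin hQ) (by omega) ⟨w, hw0, hw⟩ _).1 h3 with h4 | h4
    · rw [← hord]
      apply orderOf_dvd_of_pow_eq_one
      apply Subtype.ext
      apply Subtype.ext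
      apply Units.ext
      exact h4
    · have h5 : ∀ u : ι → F, (lin Q (x ^ M)) u = -u := by
        intro u
        have h6 : (lin Q (x ^ M)) u =
          ((((x ^ M : Cfsg.Omega F ⇑Q) : Cfsg.isometryGroup F ⇑Q) : Matrix.GeneralLinearGroup ι F) :
            Matrix ι ι F).mulVec u := rfl
        rw [h6, h4, Matrix.neg_mulVec, Matrix.one_mulVec]
      have h6 : x ^ (2 * M) = 1 := by
        apply lin_injective Q
        apply LinearEquiv.ext
        intro u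
        rw [two_mul, pow_add, map_mul, map_one, LinearEquiv.mul_apply, h5, h5, neg_neg]
        rfl
      have h7 := orderOf_dvd_of_pow_eq_one h6
      rw [hord] at h7
      exact (Nat.coprime_two_right.2 hN).dvd_of_dvd_mul_left h7

/-- the block of an odd prime, of odd order -/
theorem block_odd (h2 : (2 : F) ≠ 0) {r : ℕ} (hr : r.Prime) (hr2 : r ≠ 2) (hrq : ¬ r ∣ Fintype.card F) :
    ∃ c : ℤ, (c = 1 ∨ c = -1) ∧ Rz F (2 * eta (ee (Fintype.card F) r)) c 1 r := by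
  rcases block h2 hr hr2 hrq with ⟨-, c, s, hc, h1⟩ | ⟨h1, -⟩
  · refine ⟨c, hc, ?_⟩
    have h3 := h1.pow (M := r) (by have := hr.pos; omega) ⟨4, by ring⟩
    rw [Nat.mul_div_cancel _ hr.pos] at h3
    have h4 : s ^ 4 = 1 := by
      rw [show 4 = 2 * 2 from rfl, pow_mul, pow_two, Int.units_mul_self]
    rwa [h4] at h3
  · exact ⟨-1, Or.inr rfl, h1⟩

/-- **Elements of order `r p`** -/
theorem adj_even (h2 : (2 : F) ≠ 0) {ι : Type} [Fintype ι] [DecidableEq ι] {Q : QuadraticForm F (ι → F)}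
    (hQ : Nondeg Q) {m : ℕ} (hm : 3 ≤ m) (hn : Fintype.card ι = 2 * m) {p : ℕ} [hp : Fact p.Prime] [CharP F p]
    (hp2 : p ≠ 2) {r : ℕ} (hr : r.Prime) (hr2 : r ≠ 2) (hrq : ¬ r ∣ Fintype.card F) (hrp : r ≠ p)
    (h : eta (ee (Fintype.card F) r) + 2 ≤ m) : ∃ z : Cfsg.POmega F ⇑Q, orderOf z = r * p := by
  obtain ⟨c, hc, h1⟩ := block_odd h2 hr hr2 hrq
  have hJ : ∀ {d : ℤ}, (d = 1 ∨ d = -1) → Rz F 3 d 1 p := by
    intro d hd
    have := rz_jordan (F := F) (p := p) h2 (n := 3) (a := 0) (by decide) (by norm_num) hd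
    simpa using this
  have hcop : Nat.lcm r p = r * p := ((Nat.coprime_primes hr hp.out).2 hrp).lcm_eq_mul
  obtain ⟨k, hk⟩ : ∃ k, 2 * m = 2 * eta (ee (Fintype.card F) r) + (3 + (k + 1)) :=
    ⟨2 * m - 2 * eta (ee (Fintype.card F) r) - 4, by omega⟩
  have hD : dc Q = 1 ∨ dc Q = -1 := dc_cases hQ
  have h5 := Rz.add h2 h1 (Rz.add h2 (hJ (Or.inl rfl)) (rz_one h2 (Nat.succ_ne_zero k) (mul_cases hD hc)))
  rw [one_mul, one_mul, one_mul, Nat.lcm_one_right, hcop] at h5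
  have e1 : c * (dc Q * c) = dc Q := by
    calc c * (dc Q * c) = dc Q * (c * c) := by ring
      _ = dc Q := by rw [sq_cases hc, mul_one]
  rw [e1, ← hk] at h5
  exact exists_POmega_odd h2 hQ hn (by omega) ((hr.odd_of_ne_two hr2).mul (hp.out.odd_of_ne_two hp2)) h5

/-- **Elements of order `(q² + 1) / 2`** -/
theorem big_orth (h2 : (2 : F) ≠ 0) {ι : Type} [Fintype ι] [DecidableEq ι] {Q : QuadraticForm F (ι → F)}
    (hQ : Nondeg Q) (hn : 5 ≤ Fintype.card ι) :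
    ∃ z : Cfsg.POmega F ⇑Q, 2 * orderOf z = Fintype.card F ^ 2 + 1 := by
  have hq := odd_card (F := F) h2
  obtain ⟨c, s, hc, -, h1⟩ := nonsplit (F := F) h2 two_ne_zero
  obtain ⟨N, hN, hNo⟩ : ∃ N, Fintype.card F ^ 2 + 1 = 2 * N ∧ Odd N := by
    obtain ⟨k, hk⟩ : ∃ k, Fintype.card F = 2 * k + 1 := ⟨Fintype.card F / 2, by omega⟩
    refine ⟨2 * k ^ 2 + 2 * k + 1, by rw [hk]; ring, ⟨k ^ 2 + k, by ring⟩⟩
  rw [hN] at h1
  have h3 := h1.pow (M := N) (by obtain ⟨k, hk⟩ := hNo; omega) ⟨2, by ring⟩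
  rw [Nat.mul_div_cancel _ hNo.pos, pow_two, Int.units_mul_self] at h3
  obtain ⟨k, hk⟩ : ∃ k, Fintype.card ι = 2 * 2 + (k + 1) := ⟨Fintype.card ι - 5, by omega⟩
  have hD : dc Q = 1 ∨ dc Q = -1 := dc_cases hQ
  have h5 := Rz.add h2 h3 (rz_one h2 (Nat.succ_ne_zero k) (mul_cases hD hc))
  rw [one_mul, Nat.lcm_one_right] at h5
  have e1 : c * (dc Q * c) = dc Q := by
    calc c * (dc Q * c) = dc Q * (c * c) := by ring
      _ = dc Q := by rw [sq_cases hc, mul_one]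
  rw [e1, ← hk] at h5
  obtain ⟨z, hz⟩ := exists_POmega_odd h2 hQ rfl (by omega) hNo h5
  exact ⟨z, by rw [hz, hN]⟩

end Cfsg.Agent.H228.FourO
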