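import Cfsg.Agent.H228.E3Three
import Cfsg.Agent.H228.E3Orth
import Cfsg.Agent.S2472
import Cfsg.Agent.S2474
import Cfsg.Agent.S0817
import Cfsg.Agent.S0818

/-!
# The data of the classical groups of odd characteristic (helper228)

`sdat_psl`, `sdat_psu` (dimension at least four), `sdat_psp`.
-/

set_option autoImplicit false
set_option linter.unusedSectionVars false

namespace Cfsg.Agent.H228.E3

open Subgroup Cfsg
open Cfsg.Agent.H72 Cfsg.Agent.H72.WGr Cfsg.Agent.H72.AdjOrth Cfsg.Agent.H72.AdjCoc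
open Cfsg.Agent.H425.KStep Cfsg.Agent.KFacts.RgdLieCharP

universe u v

section abs

variable {S : Type u} [Group S] [Finite S] [IsSimpleGroup S] {p m c : ℕ} {K : Finset ℕ} {wt w κ : ℕ → ℕ} {t j : ℕ}

/-- the primes which do not move a `p`-subgroup -/
theorem mov_of_WG [Fact p.Prime] (W : WG S p m c K wt w κ t) (ht : t ≤ j) (hL : IsLieFilt p S)
    (hna : ∃ a b : S, a * b ≠ b * a)
    (hadj : ∀ r : ℕ, r.Prime → r ≠ 2 → r ∣ Nat.card S → r ≠ p → w r ≤ j → ∃ x : S, orderOf x = r * p)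
    (hc : (K.filter fun k => j < wt k).card ≤ 2) {D : Finset ℕ} (hD : Coq5 S D) (h3 : 3 ≤ D.card) (hpD : p ∉ D) :
    ∃ w ∈ D, Mov S p w := by
  by_contra hcon
  push Not at hcon
  have h1 := W.inj hD.1 ht (fun r hr => by
    by_contra hlt
    push Not at hlt
    have hrp : r ≠ p := fun h => hpD (h ▸ hr)
    exact hcon r hr (MovAdj.mov_of_adj hL hna (hD.1.prime r hr) hrp
      (hadj r (hD.1.prime r hr) (hD.1.ne2 r hr) (hD.1.dvd r hr) hrp hlt))) (Or.inl hpD)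
  omega

theorem two_of_four {S : Type u} [Group S] [Finite S] {n : ℕ} (h : ∃ x : S, orderOf x = 4 * n) :
    ∃ x : S, orderOf x = 2 * n := by
  obtain ⟨x, hx⟩ := h
  refine ⟨x ^ 2, ?_⟩
  rw [orderOf_pow_of_dvd two_ne_zero ⟨2 * n, by rw [hx]; ring⟩, hx, show 4 * n = 2 * (2 * n) by ring,
    Nat.mul_div_cancel_left _ two_pos]

theorem ncyc_of_four [Fact p.Prime] (hp2 : p ≠ 2) (hL : IsLieFilt p S) (hna : ∃ a b : S, a * b ≠ b * a)
    (h : ∃ x : S, orderOf x = 4 * p) : ∃ V : Subgroup S, IsPGroup p V ∧ ¬ IsCyclic V :=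
  MovAdj.ncyc_of_adj hL hna Nat.prime_two (Ne.symm hp2) (two_of_four h)

end abs

theorem two_ne {F : Type v} [Field F] {p : ℕ} [CharP F p] (hp : p.Prime) (hp2 : p ≠ 2) : (2 : F) ≠ 0 := by
  intro h
  have h1 : ((2 : ℕ) : F) = 0 := by exact_mod_cast h
  rw [CharP.cast_eq_zero_iff F p] at h1
  exact hp2 ((Nat.prime_dvd_prime_iff_eq hp Nat.prime_two).1 h1)

theorem char_facts {q p f : ℕ} (hp : p.Prime) (hf : 1 ≤ f) (hF : q = p ^ f) :
    (∀ s : ℕ, s.Prime → s ∣ q → s = p) ∧ p ∣ q := by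
  constructor
  · intro s hs h
    rw [hF] at h
    exact (Nat.prime_dvd_prime_iff_eq hs hp).1 (hs.dvd_of_dvd_pow h)
  · rw [hF]
    exact dvd_pow_self p (by omega)

theorem cop_plus {q : ℕ} (hq : 1 ≤ q) :
    Nat.gcd 3 (q - 1) ∣ q ^ 2 + q + 1 ∧ Nat.Coprime ((q ^ 2 + q + 1) / Nat.gcd 3 (q - 1)) (q - 1) := by
  obtain ⟨k, rfl⟩ : ∃ k, q = k + 1 := ⟨q - 1, by omega⟩
  rw [Nat.add_sub_cancel]
  have e1 : (k + 1) ^ 2 + (k + 1) + 1 = k * (k + 3) + 3 := by ring
  rw [e1]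
  rcases (Nat.dvd_prime Nat.prime_three).1 (Nat.gcd_dvd_left 3 k) with h | h
  · rw [h]
    refine ⟨one_dvd _, ?_⟩
    rw [Nat.div_one]
    have h1 : Nat.Coprime 3 k := h
    exact (Nat.coprime_mul_left_add_left 3 k (k + 3)).2 h1
  · rw [h]
    obtain ⟨j, rfl⟩ : 3 ∣ k := h ▸ Nat.gcd_dvd_right 3 k
    have e2 : 3 * j * (3 * j + 3) + 3 = 3 * (3 * j * (j + 1) + 1) := by ring
    rw [e2]
    refine ⟨dvd_mul_right _ _, ?_⟩
    rw [Nat.mul_div_cancel_left _ (by norm_num)]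
    have h1 : Nat.Coprime (3 * j * (j + 1) + 1) (3 * j) := by
      rw [Nat.coprime_mul_left_add_left]
      exact Nat.coprime_one_left _
    exact h1

theorem cop_minus {q : ℕ} (hq : 1 ≤ q) :
    Nat.gcd 3 (q + 1) ∣ q ^ 2 - q + 1 ∧ Nat.Coprime ((q ^ 2 - q + 1) / Nat.gcd 3 (q + 1)) (q + 1) := by
  rcases Nat.lt_or_ge q 2 with h2 | h2
  · obtain rfl : q = 1 := by omega
    exact ⟨by norm_num, by norm_num⟩
  obtain ⟨k, rfl⟩ : ∃ k, q = k + 2 := ⟨q - 2, by omega⟩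
  have e1 : (k + 2) ^ 2 - (k + 2) + 1 = (k + 2 + 1) * k + 3 := by
    rw [show (k + 2) ^ 2 = (k + 2) + ((k + 2 + 1) * k + 2) by ring, Nat.add_sub_cancel_left]
  rw [e1]
  rcases (Nat.dvd_prime Nat.prime_three).1 (Nat.gcd_dvd_left 3 (k + 2 + 1)) with h | h
  · rw [h]
    refine ⟨one_dvd _, ?_⟩
    rw [Nat.div_one]
    have h1 : Nat.Coprime 3 (k + 2 + 1) := h
    exact (Nat.coprime_mul_left_add_left 3 (k + 2 + 1) k).2 h1
  · rw [h]
    obtain ⟨j, hj⟩ : 3 ∣ k + 2 + 1 := h ▸ Nat.gcd_dvd_right 3 (k + 2 + 1)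
    rw [hj]
    have e2 : 3 * j * k + 3 = 3 * (j * k + 1) := by ring
    rw [e2]
    refine ⟨dvd_mul_right _ _, ?_⟩
    rw [Nat.mul_div_cancel_left _ (by norm_num)]
    refine Nat.Coprime.mul_right ?_ ?_
    · -- `j * k + 1` is prime to three
      have h3 : k = 3 * (j - 1) := by omega
      rw [h3, show j * (3 * (j - 1)) + 1 = 3 * (j * (j - 1)) + 1 by ring]
      exact (Nat.coprime_mul_left_add_left 1 3 _).2 (Nat.coprime_one_left _)
    · exact (Nat.coprime_mul_left_add_left 1 j k).2 (Nat.coprime_one_left _)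

/-- a prime `r ≥ 5` dividing `2 ^ k * f` or so divides `f` -/
theorem dvd_f {r a f : ℕ} (hr : r.Prime) (h5 : 5 ≤ r) (ha : a ∣ 24) (h : r ∣ a * f) : r ∣ f := by
  rcases hr.dvd_mul.1 h with h1 | h1
  · exfalso
    have h2 : r ∣ 2 ^ 3 * 3 := h1.trans ha
    rcases hr.dvd_mul.1 h2 with h3 | h3
    · have := Nat.le_of_dvd (by norm_num) (hr.dvd_of_dvd_pow h3)
      omega
    · have := Nat.le_of_dvd (by norm_num) h3
      omega
  · exact h1

/-- **`PSL_n(q)`, `n ≥ 4`** -/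
theorem sdat_psl {F : Type v} [Field F] [Fintype F] {n p f : ℕ} (hn : 4 ≤ n) (hp : p.Prime) (hp2 : p ≠ 2)
    (hf : 1 ≤ f) (hF : Fintype.card F = p ^ f) [CharP F p]
    [IsSimpleGroup (Matrix.ProjectiveSpecialLinearGroup (Fin n) F)]
    (hna : ∃ a b : Matrix.ProjectiveSpecialLinearGroup (Fin n) F, a * b ≠ b * a)
    (hL : IsLieFilt p (Matrix.ProjectiveSpecialLinearGroup (Fin n) F)) :
    SDat (Matrix.ProjectiveSpecialLinearGroup (Fin n) F) p := by
  have hfp := Fact.mk hp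
  have hfin : Finite (Matrix.ProjectiveSpecialLinearGroup (Fin n) F) := Cfsg.Agent.H163.PG.finite_psl (F := F) n
  have h2 : (2 : F) ≠ 0 := two_ne hp hp2
  obtain ⟨hc1, hc2⟩ := char_facts hp hf hF
  have W := WGr.psl (F := F) (n := n) (by omega) hc1 hc2
  have hwp : AdjPSL.wL (Fintype.card F) p = 2 := if_pos (Or.inl hc2)
  refine ⟨hp, hp2, ?_, ?_, ?_, ?_⟩
  · intro D hD h4
    exact FourS.far_psl hn h2 hD.1 h4
  · exact ncyc_of_four hp2 hL hna (FourS.four_psl h2 hp hp2 (by rw [hwp]; exact hn))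
  · intro D hD h3 hpD
    refine mov_of_WG W (j := n - 2) (by omega) hL hna (fun r hr _ _ hrp hw => ?_) ?_ hD h3 hpD
    · exact AdjPSL.adj_of_wL hr hp hrp (by rw [hwp]; omega)
    · have := card_Icc_filter n (n - 2)
      omega
  · intro r hr h5 hrS hro
    rw [Cfsg.Agent.H163.PG.card_out_psl hp hf hF (by omega) (center_bot (fun h => by
      obtain ⟨a, b, hab⟩ := hna
      exact hab (h.1.1 a b)))] at hro
    have hrf : r ∣ f := by
      rcases hr.dvd_mul.1 hro with h | h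
      · exact dvd_f hr h5 (by norm_num) h
      · exfalso
        obtain ⟨z, hz⟩ := AdjPSL.exists_order_of_block_lt (n := n) (AdjPSL.hasBlock_two
          (h.trans (Nat.gcd_dvd_right _ _))) (by omega) r dvd_rfl
        apply hrS
        rw [← hz]
        exact orderOf_dvd_natCard z
    obtain ⟨h6, h7⟩ := cop_plus (q := Fintype.card F) Fintype.card_pos
    obtain ⟨z, hz⟩ := AdjPSL.exists_order_of_block_lt (n := n) (AdjPSL.hasBlock_singer (F := F) (a := 3) (by norm_num)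
      (d := (Fintype.card F ^ 2 + Fintype.card F + 1) / Nat.gcd 3 (Fintype.card F - 1)) (by
        refine (Nat.div_dvd_of_dvd h6).trans ?_
        obtain ⟨k, hk⟩ : ∃ k, Fintype.card F = k + 1 := ⟨Fintype.card F - 1, by
          have := Fintype.card_pos (α := F)
          omega⟩
        rw [hk]
        exact ⟨k, by rw [show (k + 1) ^ 3 = ((k + 1) ^ 2 + (k + 1) + 1) * k + 1 by ring, Nat.add_sub_cancel]⟩) h7)
      (by omega) _ dvd_rfl
    refine ⟨z, ?_⟩
    have h1 : 9 ^ r ≤ Fintype.card F ^ 2 := by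
      rw [hF]
      exact nine_le (by have := hp.two_le; omega) hf hrf
    have h8 := Nat.div_mul_cancel h6
    have h9 : Nat.gcd 3 (Fintype.card F - 1) ≤ 3 := Nat.le_of_dvd (by norm_num) (Nat.gcd_dvd_left _ _)
    have h10 := Nat.mul_le_mul_left ((Fintype.card F ^ 2 + Fintype.card F + 1) / Nat.gcd 3 (Fintype.card F - 1)) h9
    rw [hz]
    omega

/-- **`PSU_n(q)`, `n ≥ 4`** -/
theorem sdat_psu {F : Type v} [Field F] [Fintype F] {n p f q : ℕ} (hn : 4 ≤ n) (hp : p.Prime) (hp2 : p ≠ 2)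
    (hf : 1 ≤ f) (hq : q = p ^ f) (hF : Fintype.card F = q ^ 2) [CharP F p] [IsSimpleGroup (Cfsg.PSU n F q)]
    (hna : ∃ a b : Cfsg.PSU n F q, a * b ≠ b * a) (hL : IsLieFilt p (Cfsg.PSU n F q)) :
    SDat (Cfsg.PSU n F q) p := by
  have hfp := Fact.mk hp
  have hfin : Finite (Cfsg.PSU n F q) := inferInstance
  have h2 : (2 : F) ≠ 0 := two_ne hp hp2
  obtain ⟨hc1, hc2⟩ := char_facts hp hf hq
  have W := WGr.psu (F := F) (n := n) hF (by omega) hc1 hc2
  have hwp : AdjPSU.wU q p = 2 := if_pos (Or.inl hc2)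
  have hq1 : 1 ≤ q := by rw [hq]; exact Nat.one_le_pow _ _ hp.pos
  refine ⟨hp, hp2, ?_, ?_, ?_, ?_⟩
  · intro D hD h4
    exact FourS.far_psu hn hF h2 hD.1 h4
  · exact ncyc_of_four hp2 hL hna (FourS.four_psu hF (by omega) h2 hp hp2 (by rw [hwp]; exact hn))
  · intro D hD h3 hpD
    refine mov_of_WG W (j := n - 2) (by omega) hL hna (fun r hr _ _ hrp hw => ?_) ?_ hD h3 hpD
    · exact AdjPSU.adj_of_wU hF (by omega) hr hp hrp (by rw [hwp]; omega)
    · have := card_Icc_filter n (n - 2)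
      omega
  · intro r hr h5 hrS hro
    rw [Cfsg.Agent.H163.PG.card_out_psu hp hf hq hF (by omega) (by omega) (center_bot (fun h => by
      obtain ⟨a, b, hab⟩ := hna
      exact hab (h.1.1 a b)))] at hro
    have hrf : r ∣ f := by
      rcases hr.dvd_mul.1 hro with h | h
      · exfalso
        obtain ⟨z, hz⟩ := AdjPSU.exists_order_of_block_lt (n := n) hF (by omega) (AdjPSU.hasBlock_two hF
          (h.trans (Nat.gcd_dvd_right _ _))) (by omega) r dvd_rfl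
        apply hrS
        rw [← hz]
        exact orderOf_dvd_natCard z
      · exact dvd_f hr h5 (by norm_num) h
    obtain ⟨h6, h7⟩ := cop_minus (q := q) hq1
    obtain ⟨z, hz⟩ := AdjPSU.exists_order_of_block_lt (n := n) hF (by omega) (AdjPSU.hasBlock_odd hF (a := 3)
      (d := (q ^ 2 - q + 1) / Nat.gcd 3 (q + 1)) (by decide) (by
        refine (Nat.div_dvd_of_dvd h6).trans ?_
        refine ⟨q + 1, ?_⟩
        obtain ⟨k, hk⟩ : ∃ k, q = k + 1 := ⟨q - 1, by omega⟩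
        rw [hk, show (k + 1) ^ 2 = (k + 1) + (k + 1) * k by ring, Nat.add_sub_cancel_left]
        ring) h7)
      (by omega) _ dvd_rfl
    refine ⟨z, ?_⟩
    have h1 : 9 ^ r ≤ q ^ 2 := by
      rw [hq]
      exact nine_le (by have := hp.two_le; omega) hf hrf
    have h8 := Nat.div_mul_cancel h6
    have h9 : Nat.gcd 3 (q + 1) ≤ 3 := Nat.le_of_dvd (by norm_num) (Nat.gcd_dvd_left _ _)
    have h10 := Nat.mul_le_mul_left ((q ^ 2 - q + 1) / Nat.gcd 3 (q + 1)) h9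
    have h11 : 4 * q ≤ q ^ 2 + 4 := by nlinarith [sq_nonneg ((q : ℤ) - 2), sq_nonneg (q - 2)]
    have h12 : q ≤ q ^ 2 := Nat.le_self_pow two_ne_zero q
    rw [hz]
    omega

end Cfsg.Agent.H228.E3
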