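import Cfsg.Agent.H228.E3Three
import Cfsg.Agent.S2475
import Cfsg.Agent.Classification.QDW.FuCop
import Cfsg.Agent.H425.Siegel

/-!
# Automorphisms of prime order without fixed points on a Sylow subgroup; `PSL₂(q)` (helper228)

* `fpf` : `x` of prime order `r ∤ |S|` normalizing `S`, no elements of order `p r`: `r ∣ |S|_p - 1`;
* `mov_l2`, `ncyc_l2` : the Borel subgroup of `PSL₂(q)`.
-/

set_option autoImplicit false
set_option linter.unusedSectionVars false

namespace Cfsg.Agent.H228.E3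

open Subgroup Cfsg
open Cfsg.Agent.H72.WGr (OCoc)
open Cfsg.Agent.H425.KStep Cfsg.Agent.H425

universe u v

/-- a prime of `G ⧸ S` without adjacency -/
theorem fpf {Q : Type u} [Group Q] [Finite Q] {S : Subgroup Q} [S.Normal] {p r : ℕ} (hp : p.Prime) (hr : r.Prime)
    (hrS : ¬ r ∣ Nat.card S) (hrQ : r ∣ Nat.card Q) (hna : ¬ ∃ g : Q, orderOf g = p * r) :
    ∃ U : Subgroup Q, U ≤ S ∧ IsPGroup p U ∧ ¬ p ∣ U.relIndex S ∧ Nat.card U ≡ 1 [MOD r] := by
  have := Fact.mk hp
  have := Fact.mk hr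
  obtain ⟨x, hx⟩ := exists_prime_orderOf_dvd_card' r hrQ
  have hxr : IsPGroup r (zpowers x) := by
    refine IsPGroup.of_card (n := 1) ?_
    rw [Nat.card_zpowers, hx, pow_one]
  obtain ⟨U, hUS, hU, hUi, hUx⟩ := Cfsg.Agent.Classification.QDW.FuCop.exists_inv hxr hrS
    (fun b _ u hu => (inferInstance : S.Normal).conj_mem u hu b) p
  refine ⟨U, hUS, hU, hUi, ?_⟩
  classical
  have := Fintype.ofFinite U
  let f : Function.End U := fun u => ⟨x * u * x⁻¹, hUx x (mem_zpowers x) u u.2⟩
  have hfn : ∀ (n : ℕ) (u : U), ((f ^ n) u : Q) = x ^ n * u * (x ^ n)⁻¹ := by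
    intro n
    induction n with
    | zero =>
      intro u
      rw [pow_zero, pow_zero, one_mul, inv_one, mul_one]
      rfl
    | succ n ih =>
      intro u
      have h1 : (f ^ (n + 1)) u = (f ^ n) (f u) := by rw [pow_succ]; rfl
      rw [h1, ih]
      change x ^ n * (x * u * x⁻¹) * (x ^ n)⁻¹ = _
      rw [pow_succ]
      group
  have hf : f ^ r ^ 1 = 1 := by
    funext u
    apply Subtype.ext
    rw [pow_one, hfn, ← hx, pow_orderOf_eq_one]
    simp
    rfl
  have h1 := Equiv.Perm.card_fixedPoints_modEq (p := r) (n := 1) hf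
  have h2 : Fintype.card f.fixedPoints = 1 := by
    rw [Fintype.card_eq_one_iff]
    refine ⟨⟨1, ?_⟩, ?_⟩
    · apply Subtype.ext
      change x * 1 * x⁻¹ = 1
      group
    · rintro ⟨u, hu⟩
      apply Subtype.ext
      change u = 1
      by_contra hu1
      apply hna
      have hxu : Commute x (u : Q) := by
        have h3 : x * u * x⁻¹ = u := congrArg Subtype.val hu
        exact mul_inv_eq_iff_eq_mul.1 h3
      have hx1 : x ≠ 1 := by
        rintro rfl
        rw [orderOf_one] at hx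
        exact hr.one_lt.ne hx
      have hpr : p ≠ r := by
        rintro rfl
        apply hrS
        obtain ⟨k, hk⟩ := (IsPGroup.iff_card (p := p)).1 hU
        have hk0 : k ≠ 0 := by
          rintro rfl
          rw [pow_zero, Subgroup.card_eq_one] at hk
          subst hk
          exact hu1 (Subtype.ext ((Subgroup.mem_bot.1 u.2)))
        exact ((dvd_pow_self p hk0).trans (hk ▸ dvd_rfl)).trans (Subgroup.card_dvd_of_le hUS)
      exact adj_of_commute hp hr hpr hU hxr u.2 (mem_zpowers x) (fun h => hu1 (Subtype.ext h)) hx1 hxu.symm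
  rw [h2] at h1
  rw [Nat.card_eq_fintype_card]
  exact h1

section sl2

variable {F : Type v} [Field F]

/-- the unipotent subgroup of `SL₂` -/
def uu (F : Type v) [Field F] : Multiplicative F →* Matrix.SpecialLinearGroup (Fin 2) F where
  toFun x := ⟨!![1, Multiplicative.toAdd x; 0, 1], by simp [Matrix.det_fin_two]⟩
  map_one' := by
    apply Subtype.ext
    change !![(1 : F), 0; 0, 1] = 1
    exact Matrix.one_fin_two.symm
  map_mul' x y := by
    apply Subtype.ext
    change !![(1 : F), Multiplicative.toAdd x + Multiplicative.toAdd y; 0, 1] =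
      !![1, Multiplicative.toAdd x; 0, 1] * !![1, Multiplicative.toAdd y; 0, 1]
    rw [Matrix.mul_fin_two]
    simp [add_comm]

/-- the torus of `SL₂` -/
def dd (F : Type v) [Field F] : Fˣ →* Matrix.SpecialLinearGroup (Fin 2) F where
  toFun a := ⟨!![(a : F), 0; 0, ((a⁻¹ : Fˣ) : F)], by simp [Matrix.det_fin_two]⟩
  map_one' := by
    apply Subtype.ext
    change !![((1 : Fˣ) : F), 0; 0, ((1⁻¹ : Fˣ) : F)] = 1
    rw [inv_one, Units.val_one]
    exact Matrix.one_fin_two.symm
  map_mul' x y := by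
    apply Subtype.ext
    change !![((x * y : Fˣ) : F), 0; 0, (((x * y)⁻¹ : Fˣ) : F)] =
      !![(x : F), 0; 0, ((x⁻¹ : Fˣ) : F)] * !![(y : F), 0; 0, ((y⁻¹ : Fˣ) : F)]
    rw [Matrix.mul_fin_two]
    simp [mul_comm]

theorem uu_injective : Function.Injective (uu F) := by
  intro x y h
  have h1 := congrFun (congrFun (congrArg Subtype.val h) 0) 1
  exact h1

theorem dd_injective : Function.Injective (dd F) := by
  intro x y h
  have h1 := congrFun (congrFun (congrArg Subtype.val h) 0) 0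
  exact Units.ext h1

theorem mat_conj {a : F} (ha : a ≠ 0) (x : F) :
    !![a, 0; 0, a⁻¹] * !![1, x; 0, 1] = !![1, a ^ 2 * x; 0, 1] * !![a, 0; 0, a⁻¹] := by
  rw [Matrix.mul_fin_two, Matrix.mul_fin_two]
  have h1 : a * x + 0 * 1 = 1 * 0 + a ^ 2 * x * a⁻¹ := by
    field_simp
    ring
  rw [h1]
  simp

theorem dd_val (a : Fˣ) : (dd F a : Matrix (Fin 2) (Fin 2) F) = !![(a : F), 0; 0, (a : F)⁻¹] := by
  change !![(a : F), 0; 0, ((a⁻¹ : Fˣ) : F)] = _
  rw [Units.val_inv_eq_inv_val]

theorem uu_val (x : F) : (uu F (Multiplicative.ofAdd x) : Matrix (Fin 2) (Fin 2) F) = !![1, x; 0, 1] := rfl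

theorem conj_uu (a : Fˣ) (x : F) :
    dd F a * uu F (Multiplicative.ofAdd x) * (dd F a)⁻¹ = uu F (Multiplicative.ofAdd ((a : F) ^ 2 * x)) := by
  rw [mul_inv_eq_iff_eq_mul]
  apply Subtype.ext
  rw [Matrix.SpecialLinearGroup.coe_mul, Matrix.SpecialLinearGroup.coe_mul, dd_val, uu_val, uu_val]
  exact mat_conj a.ne_zero x

theorem center_sq (z : Subgroup.center (Matrix.SpecialLinearGroup (Fin 2) F)) : z ^ 2 = 1 := by
  obtain ⟨c, hc, hz⟩ := Matrix.SpecialLinearGroup.mem_center_iff.1 z.2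
  apply Subtype.ext
  apply Subtype.ext
  change ((z : Matrix.SpecialLinearGroup (Fin 2) F) : Matrix (Fin 2) (Fin 2) F) ^ 2 = 1
  rw [← hz, ← map_pow]
  have h1 : c ^ 2 = 1 := by simpa using hc
  rw [h1, map_one]

theorem center_not_dvd [Finite F] {p : ℕ} (hp : p.Prime) (hp2 : p ≠ 2) :
    ¬ p ∣ Nat.card (Subgroup.center (Matrix.SpecialLinearGroup (Fin 2) F)) := by
  intro h
  have := Fact.mk hp
  have : Finite (Matrix.SpecialLinearGroup (Fin 2) F) := Finite.of_injective _ Subtype.val_injective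
  obtain ⟨z, hz⟩ := exists_prime_orderOf_dvd_card' p h
  have h1 := orderOf_dvd_of_pow_eq_one (center_sq z)
  rw [hz] at h1
  exact hp2 ((Nat.prime_dvd_prime_iff_eq hp Nat.prime_two).1 h1)

theorem mov_l2 [Fintype F] {p : ℕ} [CharP F p] (hp : p.Prime) (hp2 : p ≠ 2) {w : ℕ} (hw : w.Prime) (hw2 : w ≠ 2)
    (h : w ∣ Fintype.card F - 1) : Mov (Matrix.ProjectiveSpecialLinearGroup (Fin 2) F) p w := by
  have : Finite (Matrix.SpecialLinearGroup (Fin 2) F) := Finite.of_injective _ Subtype.val_injective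
  have hfw := Fact.mk hw
  obtain ⟨a, ha⟩ := exists_prime_orderOf_dvd_card' (G := Fˣ) w (by
    rw [Nat.card_units, Nat.card_eq_fintype_card]; exact h)
  have ha2 : (a : F) ^ 2 ≠ 1 := by
    intro h1
    have h2 : a ^ 2 = 1 := Units.ext (by rw [Units.val_pow_eq_pow_val, h1, Units.val_one])
    have h3 := orderOf_dvd_of_pow_eq_one h2
    rw [ha] at h3
    exact hw2 ((Nat.prime_dvd_prime_iff_eq hw Nat.prime_two).1 h3)
  refine Siegel.mov_quot _ (center_not_dvd hp hp2) hp hw ?_
  have hV : ∀ x : F, p • x = 0 := fun x => by rw [nsmul_eq_mul, CharP.cast_eq_zero, zero_mul]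
  have hv : (fun (a : Fˣ) (x : F) => (a : F) ^ 2 * x) a 1 ≠ 1 := by
    change (a : F) ^ 2 * 1 ≠ 1
    rw [mul_one]
    exact ha2
  exact Siegel.mov_of_homs hV (dd F) (uu F) uu_injective (fun a x => (a : F) ^ 2 * x) conj_uu
    (by rw [orderOf_injective _ dd_injective, ha]) hv

theorem ncyc_l2 [Fintype F] {p f : ℕ} [CharP F p] (hp : p.Prime) (hp2 : p ≠ 2) (hf : 2 ≤ f)
    (hF : Fintype.card F = p ^ f) :
    ∃ V : Subgroup (Matrix.ProjectiveSpecialLinearGroup (Fin 2) F), IsPGroup p V ∧ ¬ IsCyclic V := by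
  have hfin : Finite (Matrix.SpecialLinearGroup (Fin 2) F) := Finite.of_injective _ Subtype.val_injective
  let g : Multiplicative F →* Matrix.ProjectiveSpecialLinearGroup (Fin 2) F :=
    (QuotientGroup.mk' (Subgroup.center (Matrix.SpecialLinearGroup (Fin 2) F))).comp (uu F)
  have hg : Function.Injective g := by
    rw [← MonoidHom.ker_eq_bot_iff, eq_bot_iff]
    intro x hx
    have h1 : uu F x ∈ Subgroup.center (Matrix.SpecialLinearGroup (Fin 2) F) := (QuotientGroup.eq_one_iff _).1 hx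
    obtain ⟨c, -, hz⟩ := Matrix.SpecialLinearGroup.mem_center_iff.1 h1
    have h2 := congrFun (congrFun hz 0) 1
    rw [Matrix.scalar_apply, Matrix.diagonal_apply_ne _ (by decide)] at h2
    have h3 : (0 : F) = Multiplicative.toAdd x := h2
    rw [Subgroup.mem_bot]
    exact h3.symm
  have hexp : ∀ x : Multiplicative F, x ^ p = 1 := fun x => by
    change p • (Multiplicative.toAdd x) = (0 : F)
    rw [nsmul_eq_mul, CharP.cast_eq_zero, zero_mul]
  refine ⟨g.range, ?_, ?_⟩
  · rintro ⟨_, x, rfl⟩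
    refine ⟨1, Subtype.ext ?_⟩
    change (g x) ^ p ^ 1 = 1
    rw [pow_one, ← map_pow, hexp, map_one]
  · intro hc
    have h1 : IsCyclic (Multiplicative F) := isCyclic_of_injective g.rangeRestrict (fun a b h => hg (congrArg Subtype.val h))
    obtain ⟨x, hx⟩ := h1.exists_generator
    have h2 : Nat.card (Multiplicative F) = orderOf x := (orderOf_eq_card_of_forall_mem_zpowers hx).symm
    have h3 := Nat.le_of_dvd hp.pos (orderOf_dvd_of_pow_eq_one (hexp x))
    rw [← h2] at h3
    change Nat.card F ≤ p at h3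
    rw [Nat.card_eq_fintype_card, hF] at h3
    have h4 : p ^ 1 < p ^ f := Nat.pow_lt_pow_right hp.one_lt (by omega)
    rw [pow_one] at h4
    omega

end sl2

end Cfsg.Agent.H228.E3
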