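import Cfsg.Agent.H426.LieEx

/-!
# Numbers for the exceptions `Ω⁻_8(2)`, `Ω⁻_10(2)`, `Ω⁺_10(2)` (helper228)

* `prim_mk` : `Prim r e u` by a finite check;
* `Sh.big` : if a prime `u` of class `2 a` divides the order, then so does every prime `≥ 5` dividing `p ^ a + 1`;
* `q2` : there is no classical group of odd characteristic with the prime divisors of the exceptions.
-/

set_option autoImplicit false

namespace Cfsg.Agent.H228.E3

open Cfsg.Agent.H426.LieFam Cfsg.Agent.H414.LieShape Cfsg.Agent.H436

/-- the order of a number modulo a prime by a finite check -/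
theorem prim_mk {r e u : ℕ} (hu : u.Prime) (hr : 1 ≤ r) (hur : ¬ u ∣ r) (he : 0 < e) (h1 : r ^ e % u = 1 % u)
    (h2 : ∀ l < e + 1, 2 ≤ l → l ∣ e → r ^ (e / l) % u ≠ 1 % u) : Prim r e u := by
  have h3 := prim_of_prime hu hur hr
  have key : ∀ m : ℕ, (((r : ℕ) : ZMod u) ^ m = 1 ↔ r ^ m % u = 1 % u) := fun m => by
    have h4 := ZMod.natCast_eq_natCast_iff' (r ^ m) 1 u
    rw [Nat.cast_pow, Nat.cast_one] at h4
    exact h4
  rwa [orderOf_eq_of_pow_and_pow_div_prime he ((key e).2 h1)] at h3
  intro l hl hd h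
  exact h2 l (Nat.lt_succ_of_le (Nat.le_of_dvd he hd)) hl.two_le hd ((key _).1 h)

/-- no triality factor -/
def NoTri (l : List Fac) : Prop := ∀ x ∈ l, x ≠ Fac.tri

/-- a prime of class `2 a` divides the order: then also the primes of `p ^ a + 1` -/
theorem Sh.big {p c f d N : ℕ} {l : List Fac} (h : Sh p c f d N l) (hl : NoTri l) (hp : p.Prime) {a u w : ℕ}
    (hu : Prim p (2 * a) u) (hup : u ≠ p) (huc : u ∣ c) (ha : 0 < a) (hw : w.Prime) (hw5 : 5 ≤ w)
    (hwa : w ∣ p ^ a + 1) : w ∣ c := by
  obtain ⟨x, hx, hd⟩ := Sh.exists_fac h hp hu.prime hup huc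
  refine Sh.dvd_of_fac h hw hw5 hx (hwa.trans ?_)
  have hp1 : 1 ≤ p := hp.pos
  cases x with
  | sub i =>
    change u ∣ (p ^ f) ^ i - 1 at hd
    rw [← pow_mul, hu.dvd_iff] at hd
    change _ ∣ (p ^ f) ^ i - 1
    rw [← pow_mul]
    obtain ⟨k, hk⟩ := hd
    rw [hk, pow_mul]
    refine Dvd.dvd.trans ?_ (Nat.sub_one_dvd_pow_sub_one (p ^ (2 * a)) k)
    obtain ⟨m, hm⟩ : ∃ m, p ^ a = m + 1 := ⟨p ^ a - 1, by
      have := Nat.one_le_pow a p hp1
      omega⟩
    refine ⟨p ^ a - 1, ?_⟩
    rw [mul_comm 2 a, pow_mul, hm, Nat.add_sub_cancel, show (m + 1) ^ 2 = (m + 1 + 1) * m + 1 by ring,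
      Nat.add_sub_cancel]
  | add i =>
    change u ∣ (p ^ f) ^ i + 1 at hd
    change _ ∣ (p ^ f) ^ i + 1
    rw [← pow_mul] at hd ⊢
    have h1 : 2 * a ∣ 2 * (f * i) := by
      rw [← hu.dvd_iff]
      exact dvd_sq_of_add hd
    have h2 : ¬ 2 * a ∣ f * i := by
      intro h2
      have h3 := (hu.dvd_iff _).2 h2
      have h4 : 1 ≤ p ^ (f * i) := Nat.one_le_pow _ _ hp1
      have h5 : u ∣ 2 := by
        have := Nat.dvd_sub hd h3
        rwa [show p ^ (f * i) + 1 - (p ^ (f * i) - 1) = 2 by omega] at this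
      have h6 := (Nat.prime_dvd_prime_iff_eq hu.prime Nat.prime_two).1 h5
      have h7 := Prim_dvd_pred hu
      rw [h6] at h7
      have := Nat.le_of_dvd (by norm_num) h7
      omega
    obtain ⟨k, hk⟩ := (Nat.mul_dvd_mul_iff_left two_pos).1 h1
    rw [hk, pow_mul]
    have hodd : Odd k := by
      rw [← Nat.not_even_iff_odd]
      rintro ⟨j, rfl⟩
      apply h2
      rw [hk]
      exact ⟨j, by ring⟩
    have h8 := hodd.nat_add_dvd_pow_add_pow (p ^ a) 1
    rwa [one_pow] at h8
  | tri => exact absurd rfl (hl _ hx)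

/-- contradiction from a number `M` without prime factors in `P` -/
theorem Sh.num {p c f d N : ℕ} {l : List Fac} (h : Sh p c f d N l) (hl : NoTri l) (hp : p.Prime) {a u : ℕ}
    (hu : Prim p (2 * a) u) (hup : u ≠ p) (huc : u ∣ c) (ha : 0 < a) {P : Finset ℕ}
    (hπ : ∀ r : ℕ, r.Prime → r ∣ c → r ∈ P) (h2 : 2 ∈ P) (h3 : 3 ∈ P) (M : ℕ) (hM : M ≠ 1) (hMa : M ∣ p ^ a + 1)
    (hMP : ∀ r ∈ P, ¬ r ∣ M) : False := by
  have hw := Nat.minFac_prime hM
  have hd := Nat.minFac_dvd M
  have h5 : 5 ≤ M.minFac := by
    have h6 : M.minFac ≠ 2 := fun h6 => hMP 2 h2 (h6 ▸ hd)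
    have h7 : M.minFac ≠ 3 := fun h7 => hMP 3 h3 (h7 ▸ hd)
    have h8 : M.minFac ≠ 4 := fun h8 => by
      rw [h8] at hw
      exact absurd hw (by norm_num)
    have := hw.two_le
    omega
  exact hMP _ (hπ _ hw (Sh.big h hl hp hu hup huc ha hw h5 (hd.trans hMa))) hd

/-- the three exceptions -/
def Q2 (A P T : Finset ℕ) : Prop :=
  (A = {5, 7, 17} ∧ P = {2, 3, 5, 7, 17} ∧ T = {17}) ∨ (A = {7, 11, 17} ∧ P = {2, 3, 5, 7, 11, 17} ∧ T = {11, 17}) ∨
    (A = {7, 17, 31} ∧ P = {2, 3, 5, 7, 17, 31} ∧ T = {17, 31})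

theorem q2 {A P T : Finset ℕ} (hQ : Q2 A P T) {p c f d N : ℕ} {l : List Fac} (h : Sh p c f d N l) (hl : NoTri l)
    (hp : p.Prime) (hp2 : p ≠ 2) (hπ : ∀ r : ℕ, r.Prime → r ∣ c → r ∈ P) (hT : ∀ t ∈ T, t ∣ c)
    (hA : ∀ r ∈ A, ∀ s ∈ A, ¬ r ∣ c → ¬ s ∣ c → r = s) : False := by
  have hpP := hπ p hp h.chr
  rcases hQ with ⟨rfl, rfl, rfl⟩ | ⟨rfl, rfl, rfl⟩ | ⟨rfl, rfl, rfl⟩
  · have h17 := hT 17 (by decide)
    simp only [Finset.mem_insert, Finset.mem_singleton] at hpP
    rcases hpP with rfl | rfl | rfl | rfl | rfl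
    · exact hp2 rfl
    · exact Sh.num h hl hp (a := 8) (u := 17) (prim_mk (by norm_num) (by norm_num) (by norm_num) (by norm_num)
        (by norm_num) (by decide)) (by norm_num) h17 (by norm_num) hπ (by decide) (by decide) 193 (by norm_num)
        (by norm_num) (by decide)
    · exact Sh.num h hl hp (a := 8) (u := 17) (prim_mk (by norm_num) (by norm_num) (by norm_num) (by norm_num)
        (by norm_num) (by decide)) (by norm_num) h17 (by norm_num) hπ (by decide) (by decide) 11489 (by norm_num)
        (by norm_num) (by decide)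
    · exact Sh.num h hl hp (a := 8) (u := 17) (prim_mk (by norm_num) (by norm_num) (by norm_num) (by norm_num)
        (by norm_num) (by decide)) (by norm_num) h17 (by norm_num) hπ (by decide) (by decide) 169553 (by norm_num)
        (by norm_num) (by decide)
    · by_cases h5 : 5 ∣ c
      · exact Sh.num h hl hp (a := 2) (u := 5) (prim_mk (by norm_num) (by norm_num) (by norm_num) (by norm_num)
          (by norm_num) (by decide)) (by norm_num) h5 (by norm_num) hπ (by decide) (by decide) 29 (by norm_num)
          (by norm_num) (by decide)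
      · have h7 : 7 ∣ c := by
          by_contra h7
          exact absurd (hA 5 (by decide) 7 (by decide) h5 h7) (by norm_num)
        exact Sh.num h hl hp (a := 3) (u := 7) (prim_mk (by norm_num) (by norm_num) (by norm_num) (by norm_num)
          (by norm_num) (by decide)) (by norm_num) h7 (by norm_num) hπ (by decide) (by decide) 13 (by norm_num)
          (by norm_num) (by decide)
  · have h17 := hT 17 (by decide)
    have h11 := hT 11 (by decide)
    simp only [Finset.mem_insert, Finset.mem_singleton] at hpP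
    rcases hpP with rfl | rfl | rfl | rfl | rfl | rfl
    · exact hp2 rfl
    · exact Sh.num h hl hp (a := 8) (u := 17) (prim_mk (by norm_num) (by norm_num) (by norm_num) (by norm_num)
        (by norm_num) (by decide)) (by norm_num) h17 (by norm_num) hπ (by decide) (by decide) 193 (by norm_num)
        (by norm_num) (by decide)
    · exact Sh.num h hl hp (a := 8) (u := 17) (prim_mk (by norm_num) (by norm_num) (by norm_num) (by norm_num)
        (by norm_num) (by decide)) (by norm_num) h17 (by norm_num) hπ (by decide) (by decide) 11489 (by norm_num)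
        (by norm_num) (by decide)
    · exact Sh.num h hl hp (a := 8) (u := 17) (prim_mk (by norm_num) (by norm_num) (by norm_num) (by norm_num)
        (by norm_num) (by decide)) (by norm_num) h17 (by norm_num) hπ (by decide) (by decide) 169553 (by norm_num)
        (by norm_num) (by decide)
    · exact Sh.num h hl hp (a := 8) (u := 17) (prim_mk (by norm_num) (by norm_num) (by norm_num) (by norm_num)
        (by norm_num) (by decide)) (by norm_num) h17 (by norm_num) hπ (by decide) (by decide) 6304673 (by norm_num)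
        (by norm_num) (by decide)
    · exact Sh.num h hl hp (a := 5) (u := 11) (prim_mk (by norm_num) (by norm_num) (by norm_num) (by norm_num)
        (by norm_num) (by decide)) (by norm_num) h11 (by norm_num) hπ (by decide) (by decide) 71 (by norm_num)
        (by norm_num) (by decide)
  · have h17 := hT 17 (by decide)
    have h31 := hT 31 (by decide)
    simp only [Finset.mem_insert, Finset.mem_singleton] at hpP
    rcases hpP with rfl | rfl | rfl | rfl | rfl | rfl
    · exact hp2 rfl
    · exact Sh.num h hl hp (a := 8) (u := 17) (prim_mk (by norm_num) (by norm_num) (by norm_num) (by norm_num)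
        (by norm_num) (by decide)) (by norm_num) h17 (by norm_num) hπ (by decide) (by decide) 193 (by norm_num)
        (by norm_num) (by decide)
    · exact Sh.num h hl hp (a := 8) (u := 17) (prim_mk (by norm_num) (by norm_num) (by norm_num) (by norm_num)
        (by norm_num) (by decide)) (by norm_num) h17 (by norm_num) hπ (by decide) (by decide) 11489 (by norm_num)
        (by norm_num) (by decide)
    · exact Sh.num h hl hp (a := 8) (u := 17) (prim_mk (by norm_num) (by norm_num) (by norm_num) (by norm_num)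
        (by norm_num) (by decide)) (by norm_num) h17 (by norm_num) hπ (by decide) (by decide) 169553 (by norm_num)
        (by norm_num) (by decide)
    · exact Sh.num h hl hp (a := 15) (u := 31) (prim_mk (by norm_num) (by norm_num) (by norm_num) (by norm_num)
        (by norm_num) (by decide)) (by norm_num) h31 (by norm_num) hπ (by decide) (by decide) 238212511 (by norm_num)
        (by norm_num) (by decide)
    · exact Sh.num h hl hp (a := 8) (u := 17) (prim_mk (by norm_num) (by norm_num) (by norm_num) (by norm_num)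
        (by norm_num) (by decide)) (by norm_num) h17 (by norm_num) hπ (by decide) (by decide) 25085030513 (by norm_num)
        (by norm_num) (by decide)

end Cfsg.Agent.H228.E3
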