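import Cfsg.Agent.H228.E3Kill
import Cfsg.Agent.H934.OutB
import Cfsg.Agent.S2476
import Cfsg.Agent.S2366

/-!
# The elimination of `PSL₃(q)` and `PSU₃(q)`, `q` odd (helper228)

`sdat_psl_three`, `sdat_psu_three`.
-/

set_option autoImplicit false
set_option linter.unusedSectionVars false

namespace Cfsg.Agent.H228.E3

open Subgroup Cfsg
open Cfsg.Agent.H72.WGr (OCoc)
open Cfsg.Agent.H425.KStep

universe u v

section congr

variable {S : Type u} {T : Type v} [Group S] [Group T]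

theorem Coq5.congr (e : S ≃* T) {C : Finset ℕ} (h : Coq5 S C) : Coq5 T C := ⟨h.1.congr e, h.2⟩

theorem ord_congr (e : S ≃* T) {n : ℕ} : (∃ x : S, orderOf x = n) ↔ ∃ y : T, orderOf y = n :=
  ⟨fun ⟨x, hx⟩ => ⟨e x, by rw [MulEquiv.orderOf_eq, hx]⟩, fun ⟨x, hx⟩ => ⟨e.symm x, by rw [MulEquiv.orderOf_eq, hx]⟩⟩

theorem SDat.congr (e : S ≃* T) {p : ℕ} (h : SDat T p) : SDat S p where
  prime := h.prime
  ne2 := h.ne2
  far D hD h4 := h.far D (hD.congr e) fun a ha hx => h4 a ha ((ord_congr e).2 hx)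
  ncyc := by
    obtain ⟨V, hV, hc⟩ := h.ncyc
    refine ⟨V.map e.symm.toMonoidHom, hV.map _, fun h1 => hc ?_⟩
    exact isCyclic_of_injective (V.equivMapOfInjective e.symm.toMonoidHom e.symm.injective).toMonoidHom
      (V.equivMapOfInjective e.symm.toMonoidHom e.symm.injective).injective
  mov D hD h3 hp := by
    obtain ⟨w, hw, hm⟩ := h.mov D (hD.congr e) h3 hp
    exact ⟨w, hw, (Mov.congr e).2 hm⟩
  out r hr h5 hrS hro := by
    obtain ⟨y, hy⟩ := h.out r hr h5 (by rwa [← Nat.card_congr e.toEquiv])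
      (by rwa [← Cfsg.Agent.H934.OutB.card_out_congr e])
    exact ⟨e.symm y, by rwa [MulEquiv.orderOf_eq]⟩

end congr

section abs

variable {S : Type u} [Group S] {p : ℕ} {P Q : ℕ → Prop} {D : Finset ℕ}

open Classical in
/-- the counting for two classes -/
theorem count (hD : Coq5 S D) (h : ∀ d ∈ D, d = p ∨ P d ∨ Q d)
    (hP : ∀ r ∈ D, ∀ s ∈ D, r ≠ s → P r → P s → ∃ x : S, orderOf x = r * s)
    (hQ : ∀ r ∈ D, ∀ s ∈ D, r ≠ s → Q r → Q s → ∃ x : S, orderOf x = r * s) :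
    D.card ≤ (if p ∈ D then 1 else 0) + 1 + (if ∃ d ∈ D, Q d then 1 else 0) := by
  have h1 : D = D.filter (fun d => d = p) ∪ D.filter P ∪ D.filter Q := by
    ext d
    simp only [Finset.mem_union, Finset.mem_filter]
    constructor
    · intro hd
      rcases h d hd with h1 | h1 | h1
      · exact Or.inl (Or.inl ⟨hd, h1⟩)
      · exact Or.inl (Or.inr ⟨hd, h1⟩)
      · exact Or.inr ⟨hd, h1⟩
    · rintro ((h1 | h1) | h1) <;> exact h1.1
  have h2 : (D.filter fun d => d = p).card ≤ (if p ∈ D then 1 else 0) := by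
    split_ifs with hp
    · rw [Finset.card_le_one]
      intro a ha b hb
      rw [(Finset.mem_filter.1 ha).2, (Finset.mem_filter.1 hb).2]
    · rw [Nat.le_zero, Finset.card_eq_zero, Finset.filter_eq_empty_iff]
      rintro a ha rfl
      exact hp ha
  have h3 : (D.filter P).card ≤ 1 := by
    rw [Finset.card_le_one]
    intro a ha b hb
    rw [Finset.mem_filter] at ha hb
    by_contra hab
    exact hD.1.nadj a ha.1 b hb.1 hab (hP a ha.1 b hb.1 hab ha.2 hb.2)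
  have h4 : (D.filter Q).card ≤ (if ∃ d ∈ D, Q d then 1 else 0) := by
    split_ifs with hq
    · rw [Finset.card_le_one]
      intro a ha b hb
      rw [Finset.mem_filter] at ha hb
      by_contra hab
      exact hD.1.nadj a ha.1 b hb.1 hab (hQ a ha.1 b hb.1 hab ha.2 hb.2)
    · rw [Nat.le_zero, Finset.card_eq_zero, Finset.filter_eq_empty_iff]
      intro a ha hQa
      exact hq ⟨a, ha, hQa⟩
  calc D.card ≤ (D.filter (fun d => d = p) ∪ D.filter P).card + (D.filter Q).card := by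
        conv_lhs => rw [h1]
        exact Finset.card_union_le _ _
    _ ≤ ((D.filter fun d => d = p).card + (D.filter P).card) + (D.filter Q).card :=
        Nat.add_le_add_right (Finset.card_union_le _ _) _
    _ ≤ _ := by omega

end abs

theorem dvd_div {d n m : ℕ} (hd : d ∣ 3) (hdn : d ∣ n) (hm : m ∣ n) (hco : Nat.Coprime m 3) : m ∣ n / d := by
  have h1 : d * m ∣ n := (Nat.Coprime.mul_dvd_of_dvd_of_dvd (Nat.Coprime.coprime_dvd_right hd hco).symm hdn hm)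
  obtain ⟨k, hk⟩ := h1
  have hd0 : 0 < d := Nat.pos_of_dvd_of_pos hd (by norm_num)
  exact ⟨k, by rw [hk, mul_assoc, Nat.mul_div_cancel_left _ hd0]⟩

theorem cop3 {r : ℕ} (hr : r.Prime) (h5 : 5 ≤ r) : Nat.Coprime r 3 :=
  (Nat.coprime_primes hr Nat.prime_three).2 (by omega)

theorem eight_dvd {q : ℕ} (hq : q % 2 = 1) : 8 ∣ q ^ 2 - 1 := by
  obtain ⟨k, rfl⟩ : ∃ k, q = 2 * k + 1 := ⟨q / 2, by omega⟩
  have h1 : (2 * k + 1) ^ 2 - 1 = 4 * (k * (k + 1)) := by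
    rw [show (2 * k + 1) ^ 2 = 4 * (k * (k + 1)) + 1 by ring, Nat.add_sub_cancel]
  rw [h1]
  obtain ⟨j, hj⟩ := (Nat.even_mul_succ_self k)
  exact ⟨j, by rw [hj]; ring⟩

theorem four_mul_dvd {q a : ℕ} (hq : q % 2 = 1) (ha : a.Prime) (h5 : 5 ≤ a) (h : a ∣ q ^ 2 - 1) : 4 * a ∣ q ^ 2 - 1 := by
  refine Nat.Coprime.mul_dvd_of_dvd_of_dvd ?_ ((show 4 ∣ 8 by norm_num).trans (eight_dvd hq)) h
  have : Nat.Coprime 2 a := (Nat.coprime_primes Nat.prime_two ha).2 (by omega)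
  exact Nat.Coprime.pow_left 2 this

theorem cop4 {a : ℕ} (ha : a.Prime) (h5 : 5 ≤ a) : Nat.Coprime (4 * a) 3 :=
  Nat.Coprime.mul_left (by norm_num) (cop3 ha h5)

/-- the size of the field when the prime `r` divides the exponent -/
theorem nine_le {p f r : ℕ} (hp3 : 3 ≤ p) (hf : 1 ≤ f) (hr : r ∣ f) : 9 ^ r ≤ (p ^ f) ^ 2 := by
  have h1 := Nat.le_of_dvd hf hr
  calc 9 ^ r ≤ 9 ^ f := Nat.pow_le_pow_right (by norm_num) h1
    _ = (3 ^ f) ^ 2 := by rw [← pow_mul, mul_comm, pow_mul]; norm_num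
    _ ≤ (p ^ f) ^ 2 := Nat.pow_le_pow_left (Nat.pow_le_pow_left hp3 f) 2

/-- **`PSL₃(q)`** -/
theorem sdat_psl_three {F : Type v} [Field F] [Fintype F] {p f : ℕ} (hp : p.Prime) (hp2 : p ≠ 2) (hf : 1 ≤ f)
    (hF : Fintype.card F = p ^ f) [CharP F p] [IsSimpleGroup (Matrix.ProjectiveSpecialLinearGroup (Fin 3) F)]
    (hna : ∃ a b : Matrix.ProjectiveSpecialLinearGroup (Fin 3) F, a * b ≠ b * a)
    (hL : KFacts.RgdLieCharP.IsLieFilt p (Matrix.ProjectiveSpecialLinearGroup (Fin 3) F)) :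
    SDat (Matrix.ProjectiveSpecialLinearGroup (Fin 3) F) p := by
  have hfp := Fact.mk hp
  have hfin : Finite (Matrix.ProjectiveSpecialLinearGroup (Fin 3) F) := Cfsg.Agent.H163.PG.finite_psl (F := F) 3
  have hspec := S2476.result (F := F) p
  set q := Fintype.card F with hq
  have hq1 : q % 2 = 1 := by
    rw [hF]
    exact Nat.odd_iff.1 ((hp.odd_of_ne_two hp2).pow)
  have hq3 : 3 ≤ q := by
    rw [hF]
    have : 3 ≤ p := by have := hp.two_le; omega
    exact this.trans (Nat.le_self_pow (by omega) p)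
  set d := Nat.gcd 3 (q - 1) with hd
  have hd3 : d ∣ 3 := Nat.gcd_dvd_left _ _
  have hdq : d ∣ q - 1 := Nat.gcd_dvd_right _ _
  have hd0 : 0 < d := Nat.pos_of_dvd_of_pos hd3 (by norm_num)
  have hq21 : q ^ 2 - 1 = (q - 1) * (q + 1) := by
    obtain ⟨k, hk⟩ : ∃ k, q = k + 1 := ⟨q - 1, by omega⟩
    rw [hk, Nat.add_sub_cancel, show (k + 1) ^ 2 = k * (k + 1 + 1) + 1 by ring, Nat.add_sub_cancel]
  have hd1 : d ∣ q ^ 2 + q + 1 := by
    obtain ⟨k, hk⟩ : ∃ k, q = k + 1 := ⟨q - 1, by omega⟩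
    rw [hk, Nat.add_sub_cancel] at hdq
    rw [hk, show (k + 1) ^ 2 + (k + 1) + 1 = k * (k + 3) + 3 by ring]
    exact dvd_add (hdq.mul_right _) hd3
  have hd2 : d ∣ q ^ 2 - 1 := by rw [hq21]; exact hdq.mul_right _
  have mem : ∀ m : ℕ, (∃ x : Matrix.ProjectiveSpecialLinearGroup (Fin 3) F, orderOf x = m) ↔
      (m ∣ (q ^ 2 + q + 1) / d ∨ m ∣ (q ^ 2 - 1) / d ∨ m ∣ q - 1 ∨ m ∣ p * (q - 1) / d ∨ (p = 2 ∧ m ∣ 4)) := fun m => by
    have := Set.ext_iff.1 hspec m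
    exact this
  have hcls : ∀ D : Finset ℕ, Coq5 (Matrix.ProjectiveSpecialLinearGroup (Fin 3) F) D → ∀ r ∈ D,
      r = p ∨ r ∣ q ^ 2 + q + 1 ∨ r ∣ q ^ 2 - 1 := by
    intro D hD r hr
    have hrp := hD.1.prime r hr
    have := Fact.mk hrp
    obtain ⟨x, hx⟩ := exists_prime_orderOf_dvd_card' r (hD.1.dvd r hr)
    rcases (mem r).1 ⟨x, hx⟩ with h | h | h | h | h
    · exact Or.inr (Or.inl (h.trans (Nat.div_dvd_of_dvd hd1)))
    · exact Or.inr (Or.inr (h.trans (Nat.div_dvd_of_dvd hd2)))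
    · exact Or.inr (Or.inr (hq21 ▸ h.mul_right _))
    · have h1 := h.trans (Nat.div_dvd_of_dvd (hdq.mul_left p))
      rcases hrp.dvd_mul.1 h1 with h2 | h2
      · exact Or.inl ((Nat.prime_dvd_prime_iff_eq hrp hp).1 h2)
      · exact Or.inr (Or.inr (hq21 ▸ h2.mul_right _))
    · exact absurd h.1 hp2
  have hcount : ∀ D : Finset ℕ, Coq5 (Matrix.ProjectiveSpecialLinearGroup (Fin 3) F) D →
      D.card ≤ (if p ∈ D then 1 else 0) + 1 + (if ∃ d ∈ D, d ∣ q ^ 2 - 1 then 1 else 0) := by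
    intro D hD
    convert count hD (hcls D hD) ?_ ?_
    · intro r hr s hs hrs h1 h2
      have hrp := hD.1.prime r hr
      have hsp := hD.1.prime s hs
      exact (mem _).2 (Or.inl (dvd_div hd3 hd1 (Nat.Coprime.mul_dvd_of_dvd_of_dvd ((Nat.coprime_primes hrp hsp).2 hrs) h1 h2)
        (Nat.Coprime.mul_left (cop3 hrp (hD.2 r hr)) (cop3 hsp (hD.2 s hs)))))
    · intro r hr s hs hrs h1 h2
      have hrp := hD.1.prime r hr
      have hsp := hD.1.prime s hs
      exact (mem _).2 (Or.inr (Or.inl (dvd_div hd3 hd2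
        (Nat.Coprime.mul_dvd_of_dvd_of_dvd ((Nat.coprime_primes hrp hsp).2 hrs) h1 h2)
        (Nat.Coprime.mul_left (cop3 hrp (hD.2 r hr)) (cop3 hsp (hD.2 s hs))))))
  refine ⟨hp, hp2, ?_, ?_, ?_, ?_⟩
  · intro D hD h4
    have hne : ¬ ∃ d ∈ D, d ∣ q ^ 2 - 1 := by
      rintro ⟨a, ha, haQ⟩
      have hap := hD.1.prime a ha
      exact h4 a ha ((mem _).2 (Or.inr (Or.inl (dvd_div hd3 hd2 (four_mul_dvd hq1 hap (hD.2 a ha) haQ)
        (cop4 hap (hD.2 a ha))))))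
    refine (hcount D hD).trans ?_
    rw [if_neg hne]
    split_ifs <;> omega
  · refine MovAdj.ncyc_of_adj hL hna Nat.prime_two (Ne.symm hp2) ((mem _).2 (Or.inr (Or.inr (Or.inr (Or.inl ?_)))))
    have h1 : 2 ∣ (q - 1) / d := dvd_div hd3 hdq (by omega) (by norm_num)
    rw [Nat.mul_div_assoc _ hdq, mul_comm]
    exact mul_dvd_mul_left p h1
  · intro D hD h3 hpD
    exfalso
    have := hcount D hD
    rw [if_neg hpD] at this
    split_ifs at this <;> omega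
  · intro r hr h5 hrS hro
    rw [Cfsg.Agent.H163.PG.card_out_psl hp hf hF le_rfl (center_bot (fun h => by
      obtain ⟨a, b, hab⟩ := hna
      exact hab (h.1.1 a b)))] at hro
    have hrf : r ∣ f := by
      rcases hr.dvd_mul.1 hro with h | h
      · rcases hr.dvd_mul.1 h with h | h
        · have := Nat.le_of_dvd (by norm_num) h
          omega
        · exact h
      · have := Nat.le_of_dvd (by norm_num) (h.trans (Nat.gcd_dvd_left _ _))
        omega
    obtain ⟨x, hx⟩ := (mem ((q ^ 2 - 1) / d)).2 (Or.inr (Or.inl dvd_rfl))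
    refine ⟨x, ?_⟩
    have h1 : 9 ^ r ≤ q ^ 2 := by
      rw [hF]
      exact nine_le (by have := hp.two_le; omega) hf hrf
    have h2 : (q ^ 2 - 1) / d * d = q ^ 2 - 1 := Nat.div_mul_cancel hd2
    have h3 : d ≤ 3 := Nat.le_of_dvd (by norm_num) hd3
    have h4 : 1 ≤ q ^ 2 := Nat.one_le_pow _ _ (by omega)
    have h6 : (q ^ 2 - 1) / d * d ≤ (q ^ 2 - 1) / d * 3 := Nat.mul_le_mul_left _ h3
    rw [hx]
    have h7 : 0 < (q ^ 2 - 1) / d := by
      rcases Nat.eq_zero_or_pos ((q ^ 2 - 1) / d) with h | h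
      · rw [h] at h2
        have : 9 ≤ q ^ 2 := by nlinarith
        omega
      · exact h
    omega

/-- **`PSU₃(q)`** -/
theorem sdat_psu_three {F : Type v} [Field F] [Fintype F] {p f q : ℕ} (hp : p.Prime) (hp2 : p ≠ 2) (hf : 1 ≤ f)
    (hqf : q = p ^ f) (hF : Fintype.card F = q ^ 2) [CharP F p] [IsSimpleGroup (Cfsg.PSU 3 F q)]
    (hna : ∃ a b : Cfsg.PSU 3 F q, a * b ≠ b * a) (hL : KFacts.RgdLieCharP.IsLieFilt p (Cfsg.PSU 3 F q)) :
    SDat (Cfsg.PSU 3 F q) p := by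
  have hfp := Fact.mk hp
  have hfin : Finite (Cfsg.PSU 3 F q) := inferInstance
  have hspec := S2366.result (F := F) p hp2 q hF
  have hq1 : q % 2 = 1 := by
    rw [hqf]
    exact Nat.odd_iff.1 ((hp.odd_of_ne_two hp2).pow)
  have hq3 : 3 ≤ q := by
    rw [hqf]
    have : 3 ≤ p := by have := hp.two_le; omega
    exact this.trans (Nat.le_self_pow (by omega) p)
  set d := Nat.gcd 3 (q + 1) with hd
  have hd3 : d ∣ 3 := Nat.gcd_dvd_left _ _
  have hdq : d ∣ q + 1 := Nat.gcd_dvd_right _ _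
  have hd0 : 0 < d := Nat.pos_of_dvd_of_pos hd3 (by norm_num)
  have hq21 : q ^ 2 - 1 = (q + 1) * (q - 1) := by
    obtain ⟨k, hk⟩ : ∃ k, q = k + 1 := ⟨q - 1, by omega⟩
    rw [hk, Nat.add_sub_cancel, show (k + 1) ^ 2 = (k + 1 + 1) * k + 1 by ring, Nat.add_sub_cancel]
  have hd1 : d ∣ q ^ 2 - q + 1 := by
    obtain ⟨k, hk⟩ : ∃ k, q = k + 2 := ⟨q - 2, by omega⟩
    rw [hk] at hdq
    have h1 : q ^ 2 - q + 1 = (k + 2 + 1) * k + 3 := by
      rw [hk, show (k + 2) ^ 2 = (k + 2) + ((k + 2 + 1) * k + 2) by ring, Nat.add_sub_cancel_left]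
    rw [h1]
    exact dvd_add (hdq.mul_right _) hd3
  have hd2 : d ∣ q ^ 2 - 1 := by rw [hq21]; exact hdq.mul_right _
  have mem : ∀ m : ℕ, (∃ x : Cfsg.PSU 3 F q, orderOf x = m) ↔
      (((m ∣ q + 1 ∨ m ∣ p * (q + 1) / d) ∨ m ∣ (q ^ 2 - 1) / d) ∨ m ∣ (q ^ 2 - q + 1) / d) := fun m => by
    have := Set.ext_iff.1 hspec m
    exact this
  have hcls : ∀ D : Finset ℕ, Coq5 (Cfsg.PSU 3 F q) D → ∀ r ∈ D,
      r = p ∨ r ∣ q ^ 2 - q + 1 ∨ r ∣ q ^ 2 - 1 := by
    intro D hD r hr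
    have hrp := hD.1.prime r hr
    have := Fact.mk hrp
    obtain ⟨x, hx⟩ := exists_prime_orderOf_dvd_card' r (hD.1.dvd r hr)
    rcases (mem r).1 ⟨x, hx⟩ with ((h | h) | h) | h
    · exact Or.inr (Or.inr (hq21 ▸ h.mul_right _))
    · have h1 := h.trans (Nat.div_dvd_of_dvd (hdq.mul_left p))
      rcases hrp.dvd_mul.1 h1 with h2 | h2
      · exact Or.inl ((Nat.prime_dvd_prime_iff_eq hrp hp).1 h2)
      · exact Or.inr (Or.inr (hq21 ▸ h2.mul_right _))
    · exact Or.inr (Or.inr (h.trans (Nat.div_dvd_of_dvd hd2)))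
    · exact Or.inr (Or.inl (h.trans (Nat.div_dvd_of_dvd hd1)))
  have hcount : ∀ D : Finset ℕ, Coq5 (Cfsg.PSU 3 F q) D →
      D.card ≤ (if p ∈ D then 1 else 0) + 1 + (if ∃ d ∈ D, d ∣ q ^ 2 - 1 then 1 else 0) := by
    intro D hD
    convert count hD (hcls D hD) ?_ ?_
    · intro r hr s hs hrs h1 h2
      have hrp := hD.1.prime r hr
      have hsp := hD.1.prime s hs
      exact (mem _).2 (Or.inr (dvd_div hd3 hd1 (Nat.Coprime.mul_dvd_of_dvd_of_dvd ((Nat.coprime_primes hrp hsp).2 hrs) h1 h2)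
        (Nat.Coprime.mul_left (cop3 hrp (hD.2 r hr)) (cop3 hsp (hD.2 s hs)))))
    · intro r hr s hs hrs h1 h2
      have hrp := hD.1.prime r hr
      have hsp := hD.1.prime s hs
      exact (mem _).2 (Or.inl (Or.inr (dvd_div hd3 hd2
        (Nat.Coprime.mul_dvd_of_dvd_of_dvd ((Nat.coprime_primes hrp hsp).2 hrs) h1 h2)
        (Nat.Coprime.mul_left (cop3 hrp (hD.2 r hr)) (cop3 hsp (hD.2 s hs))))))
  refine ⟨hp, hp2, ?_, ?_, ?_, ?_⟩
  · intro D hD h4
    have hne : ¬ ∃ d ∈ D, d ∣ q ^ 2 - 1 := by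
      rintro ⟨a, ha, haQ⟩
      have hap := hD.1.prime a ha
      exact h4 a ha ((mem _).2 (Or.inl (Or.inr (dvd_div hd3 hd2 (four_mul_dvd hq1 hap (hD.2 a ha) haQ)
        (cop4 hap (hD.2 a ha))))))
    refine (hcount D hD).trans ?_
    rw [if_neg hne]
    split_ifs <;> omega
  · refine MovAdj.ncyc_of_adj hL hna Nat.prime_two (Ne.symm hp2) ((mem _).2 (Or.inl (Or.inl (Or.inr ?_))))
    have h1 : 2 ∣ (q + 1) / d := dvd_div hd3 hdq (by omega) (by norm_num)
    rw [Nat.mul_div_assoc _ hdq, mul_comm]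
    exact mul_dvd_mul_left p h1
  · intro D hD h3 hpD
    exfalso
    have := hcount D hD
    rw [if_neg hpD] at this
    split_ifs at this <;> omega
  · intro r hr h5 hrS hro
    rw [Cfsg.Agent.H163.PG.card_out_psu hp hf hqf hF le_rfl (by omega) (center_bot (fun h => by
      obtain ⟨a, b, hab⟩ := hna
      exact hab (h.1.1 a b)))] at hro
    have hrf : r ∣ f := by
      rcases hr.dvd_mul.1 hro with h | h
      · have := Nat.le_of_dvd (by norm_num) (h.trans (Nat.gcd_dvd_left _ _))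
        omega
      · rcases hr.dvd_mul.1 h with h | h
        · have := Nat.le_of_dvd (by norm_num) h
          omega
        · exact h
    obtain ⟨x, hx⟩ := (mem ((q ^ 2 - 1) / d)).2 (Or.inl (Or.inr dvd_rfl))
    refine ⟨x, ?_⟩
    have h1 : 9 ^ r ≤ q ^ 2 := by
      rw [hqf]
      exact nine_le (by have := hp.two_le; omega) hf hrf
    have h2 : (q ^ 2 - 1) / d * d = q ^ 2 - 1 := Nat.div_mul_cancel hd2
    have h3 : d ≤ 3 := Nat.le_of_dvd (by norm_num) hd3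
    have h4 : 1 ≤ q ^ 2 := Nat.one_le_pow _ _ (by omega)
    have h6 : (q ^ 2 - 1) / d * d ≤ (q ^ 2 - 1) / d * 3 := Nat.mul_le_mul_left _ h3
    rw [hx]
    have h7 : 0 < (q ^ 2 - 1) / d := by
      rcases Nat.eq_zero_or_pos ((q ^ 2 - 1) / d) with h | h
      · rw [h] at h2
        have : 9 ≤ q ^ 2 := by nlinarith
        omega
      · exact h
    omega

end Cfsg.Agent.H228.E3
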