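import Cfsg.Agent.H390.Cocl
import Cfsg.Agent.H403.SpEvenFinal
import Cfsg.Agent.H890.SpParity
import Cfsg.Agent.H160.QFinal
import Cfsg.Agent.H72.AdjCoc

/-!
# Element orders `2 ^ b r` of the symplectic and orthogonal groups in characteristic two (helper228)

* `sp_far` : `2 ^ b r ∈ ω(Sp_2n(q))`: `η(r) + mb b ≤ n`;
* `om_four` : `4 r ∈ ω(Ω^±_2n(q))`: `η(r) + 3 ≤ n` (`n ≥ 3`, `n < 2 η(r)`).
-/

set_option autoImplicit false
set_option linter.unusedSectionVars false

namespace Cfsg.Agent.H228.EvenL

open QuadraticMap Module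
open Cfsg.Agent.LieClassical.OrthCore Cfsg.Agent.LieClassical.OrthFinite Cfsg.Agent.LieClassical.OrthForms
  Cfsg.Agent.LieClassical.OrthTrans
open Cfsg.Agent.H72.AdjOrth Cfsg.Agent.H72.AdjCoc
open Cfsg.Agent.H403 (TL mb)

theorem odd_of_TL {q m L : ℕ} (hq : Even q) (hq1 : 1 ≤ q) (h : TL q m L) : Odd L := by
  induction h with
  | one n => exact odd_one
  | @pos n L k hk h ih =>
    rw [Nat.odd_iff, ← Nat.two_dvd_ne_zero, Nat.Prime.dvd_lcm Nat.prime_two]
    rintro (h1 | h1)
    · have h2 : Even (q ^ k) := hq.pow_of_ne_zero (by omega)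
      obtain ⟨a, ha⟩ := h2
      have := Nat.one_le_pow k q hq1
      omega
    · rw [Nat.odd_iff] at ih
      omega
  | @neg n L k hk h ih =>
    rw [Nat.odd_iff, ← Nat.two_dvd_ne_zero, Nat.Prime.dvd_lcm Nat.prime_two]
    rintro (h1 | h1)
    · have h2 : Even (q ^ k) := hq.pow_of_ne_zero (by omega)
      obtain ⟨a, ha⟩ := h2
      omega
    · rw [Nat.odd_iff] at ih
      omega

theorem eta_of_TL {q m L r : ℕ} (hq : 1 ≤ q) (hr : r.Prime) (h : TL q m L) (hd : r ∣ L) : eta (ee q r) ≤ m := by
  induction h with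
  | one n => exact absurd (Nat.dvd_one.1 hd) hr.one_lt.ne'
  | @pos n L k hk h ih =>
    rcases (Nat.Prime.dvd_lcm hr).1 hd with h1 | h1
    · have := eta_two_mul (q := q) (s := r) (i := k) hq hk (by
        refine h1.trans ?_
        exact Nat.pow_sub_one_dvd_pow_sub_one q (Dvd.intro_left 2 rfl))
      omega
    · have := ih h1
      omega
  | @neg n L k hk h ih =>
    rcases (Nat.Prime.dvd_lcm hr).1 hd with h1 | h1
    · have := eta_two_mul (q := q) (s := r) (i := k) hq hk (by
        refine h1.trans ?_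
        have h2 := Nat.sq_sub_sq (q ^ k) 1
        rw [← pow_mul, one_pow, mul_comm k 2] at h2
        rw [h2]
        exact Dvd.intro _ rfl)
      omega
    · have := ih h1
      omega

/-! ### Symplectic groups -/

section sp

variable {F : Type*} [Field F] [Fintype F] [CharP F 2]

theorem even_card : Even (Fintype.card F) := by
  rw [← Nat.card_eq_fintype_card]
  exact Cfsg.Agent.H403.even_natCard

theorem mb_mono {a b : ℕ} (h : a ≤ b) : mb a ≤ mb b := by
  rcases a with _ | _ | a
  · exact Nat.zero_le _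
  · rcases b with _ | _ | b
    · omega
    · exact le_rfl
    · show 1 ≤ 2 ^ b + 1
      exact Nat.le_add_left 1 _
  · rcases b with _ | _ | b
    · omega
    · omega
    · show 2 ^ a + 1 ≤ 2 ^ b + 1
      have := Nat.pow_le_pow_right (n := 2) two_pos (show a ≤ b by omega)
      omega

/-- **`2 ^ b r ∈ ω(Sp_2n(q))`** -/
theorem sp_far {n b r : ℕ} (hn : 1 ≤ n) (hr : r.Prime) (hr2 : r ≠ 2)
    (h : ∃ x : Cfsg.PSp n F, orderOf x = 2 ^ b * r) : eta (ee (Fintype.card F) r) + mb b ≤ n := by
  obtain ⟨M, hM⟩ := (Cfsg.Agent.H403.mem_range_PSp hn _).1 h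
  obtain ⟨c, L, hc, hL, hML⟩ := Cfsg.Agent.H403.exists_pow_eq_one_of_symplectic M.2
  have hN : 2 ^ b * r ∣ L * 2 ^ c := by
    rw [← hM, ← orderOf_injective (Matrix.symplecticGroup (Fin n) F).subtype Subtype.coe_injective]
    exact orderOf_dvd_of_pow_eq_one hML
  have hLo := odd_of_TL (even_card (F := F)) Fintype.card_pos hL
  have h1 : 2 ^ b ∣ 2 ^ c := by
    refine Nat.Coprime.dvd_of_dvd_mul_left ?_ ((Dvd.intro _ rfl).trans hN)
    exact Nat.Coprime.pow_left _ (Nat.coprime_two_left.2 hLo)
  have hbc : b ≤ c := (Nat.pow_dvd_pow_iff_le_right (by norm_num)).1 h1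
  have h2 : r ∣ L := by
    refine Nat.Coprime.dvd_of_dvd_mul_right ?_ ((Dvd.intro_left _ rfl).trans hN)
    exact Nat.Coprime.pow_right _ ((Nat.coprime_primes hr Nat.prime_two).2 hr2)
  have h3 := eta_of_TL Fintype.card_pos hr hL h2
  have h4 := mb_mono hbc
  omega

end sp

/-! ### Unipotent isometries -/

section unip

variable {F V : Type*} [Field F] [AddCommGroup V] [Module F V] [FiniteDimensional F V]

/-- **A unipotent isometry of a symplectic space with `rank (y - 1) ≤ 2` has `(y - 1) ^ 2 = 0`.** -/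
theorem unip_sq (B : LinearMap.BilinForm F V) (halt : ∀ v, B v v = 0) (hnd : ∀ u, (∀ v, B u v = 0) → u = 0)
    (y : V →ₗ[F] V) (hy : ∀ u v, B (y u) (y v) = B u v) (hnil : IsNilpotent (y - 1))
    (hrk : finrank F (LinearMap.range (y - 1)) ≤ 2) : (y - 1) ^ 2 = 0 := by
  by_contra hne
  set N : V →ₗ[F] V := y - 1 with hN
  obtain ⟨v, hv⟩ : ∃ v, (N ^ 2) v ≠ 0 := by
    by_contra h
    push Not at h
    exact hne (LinearMap.ext h)
  obtain ⟨b, hb⟩ : ∃ b, b = N v := ⟨_, rfl⟩
  have hNb : N b ≠ 0 := by
    rw [hb]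
    rw [pow_two] at hv
    exact hv
  -- `N (N b) = 0`
  have hNNb : N (N b) = 0 := by
    by_contra h3
    -- three independent vectors in the range
    obtain ⟨k, hk⟩ := hnil
    have hli : LinearIndependent F ![b, N b, N (N b)] := by
      rw [Fintype.linearIndependent_iff]
      intro g hg
      rw [Fin.sum_univ_three] at hg
      simp only [Matrix.cons_val_zero, Matrix.cons_val_one, Matrix.cons_val] at hg
      -- the largest power not killing `b`
      have hex : ∃ j, (N ^ j) b = 0 := ⟨k, by rw [hk]; rfl⟩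
      classical
      set j := Nat.find hex with hj
      have hj0 : (N ^ j) b = 0 := Nat.find_spec hex
      have hjm : ∀ i < j, (N ^ i) b ≠ 0 := fun i hi => Nat.find_min hex hi
      have hj3 : 3 ≤ j := by
        by_contra hlt
        have : j = 0 ∨ j = 1 ∨ j = 2 := by omega
        rcases this with h | h | h
        · rw [h, pow_zero, Module.End.one_apply] at hj0
          exact hNb (by rw [hj0, map_zero])
        · rw [h, pow_one] at hj0
          exact hNb hj0
        · rw [h, pow_two, Module.End.mul_apply] at hj0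
          exact h3 hj0
      have hz : ∀ i, j ≤ i → (N ^ i) b = 0 := by
        intro i hi
        obtain ⟨d, rfl⟩ := Nat.exists_eq_add_of_le' hi
        rw [pow_add, Module.End.mul_apply, hj0, map_zero]
      have e0 : N b = (N ^ 1) b := by rw [pow_one]
      have e1 : N (N b) = (N ^ 2) b := by rw [pow_two, Module.End.mul_apply]
      rw [e1, e0] at hg
      have hg' : g 0 • (N ^ 0) b + g 1 • (N ^ 1) b + g 2 • (N ^ 2) b = 0 := by
        rw [pow_zero, Module.End.one_apply]; exact hg
      have app : ∀ i, g 0 • (N ^ (i + 0)) b + g 1 • (N ^ (i + 1)) b + g 2 • (N ^ (i + 2)) b = 0 := by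
        intro i
        have h4 := congrArg (N ^ i) hg'
        rw [map_add, map_add, map_smul, map_smul, map_smul, map_zero, ← Module.End.mul_apply, ← Module.End.mul_apply,
          ← Module.End.mul_apply, ← pow_add, ← pow_add, ← pow_add] at h4
        exact h4
      have a0 : g 0 = 0 := by
        have h4 := app (j - 1)
        rw [hz (j - 1 + 1) (by omega), hz (j - 1 + 2) (by omega), smul_zero, smul_zero, add_zero, add_zero] at h4
        exact (smul_eq_zero.1 h4).resolve_right (hjm _ (by omega))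
      have a1 : g 1 = 0 := by
        have h4 := app (j - 2)
        rw [a0, zero_smul, zero_add, hz (j - 2 + 2) (by omega), smul_zero, add_zero] at h4
        exact (smul_eq_zero.1 h4).resolve_right (hjm _ (by omega))
      have a2 : g 2 = 0 := by
        have h4 := app (j - 3)
        rw [a0, a1, zero_smul, zero_smul, zero_add, zero_add] at h4
        exact (smul_eq_zero.1 h4).resolve_right (hjm _ (by omega))
      intro i
      fin_cases i
      · exact a0
      · exact a1
      · exact a2
    have hspan : Submodule.span F (Set.range ![b, N b, N (N b)]) ≤ LinearMap.range N := by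
      rw [Submodule.span_le]
      rintro _ ⟨i, rfl⟩
      fin_cases i
      · exact ⟨v, hb.symm⟩
      · exact ⟨b, rfl⟩
      · exact ⟨N b, rfl⟩
    have h4 := Submodule.finrank_mono hspan
    rw [finrank_span_eq_card hli, Fintype.card_fin] at h4
    omega
  -- the range is spanned by `b` and `N b`
  have hker : ∀ c : V, N c = 0 → ∀ w, B (N w) c = 0 := by
    intro c hc w
    have h4 : y c = c := by
      have : y c - c = 0 := hc
      exact sub_eq_zero.1 this
    show B (y w - w) c = 0
    rw [map_sub, LinearMap.sub_apply]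
    nth_rewrite 1 [← h4]
    rw [hy, sub_self]
  have hli : LinearIndependent F ![b, N b] := by
    rw [LinearIndependent.pair_iff]
    intro s t hst
    have h4 := congrArg N hst
    rw [map_add, map_smul, map_smul, hNNb, smul_zero, add_zero, map_zero] at h4
    have hs : s = 0 := (smul_eq_zero.1 h4).resolve_right hNb
    rw [hs, zero_smul, zero_add] at hst
    exact ⟨hs, (smul_eq_zero.1 hst).resolve_right hNb⟩
  have hspan : Submodule.span F (Set.range ![b, N b]) = LinearMap.range N := by
    apply Submodule.eq_of_le_of_finrank_le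
    · rw [Submodule.span_le]
      rintro _ ⟨i, rfl⟩
      fin_cases i
      · exact ⟨v, hb.symm⟩
      · exact ⟨b, rfl⟩
    · rw [finrank_span_eq_card hli, Fintype.card_fin]
      exact hrk
  have hperp : ∀ w, B b (N w) = 0 := by
    intro w
    have h5 : N w ∈ Submodule.span F (Set.range ![b, N b]) := by
      rw [hspan]
      exact ⟨w, rfl⟩
    rw [Matrix.range_cons, Matrix.range_cons, Matrix.range_empty, Set.union_empty, Set.singleton_union] at h5
    obtain ⟨s, t, hst⟩ := Submodule.mem_span_pair.1 h5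
    rw [← hst, map_add, map_smul, map_smul, halt, smul_zero, zero_add]
    have h6 : B b (N b) = 0 := by
      nth_rewrite 1 [hb]
      exact hker (N b) hNNb v
    rw [h6, smul_zero]
  -- `b` is fixed
  have hsurj : Function.Surjective y := by
    have hinj : Function.Injective y := by
      rw [← LinearMap.ker_eq_bot, LinearMap.ker_eq_bot']
      intro u hu
      apply hnd
      intro w
      rw [← hy, hu, LinearMap.map_zero, LinearMap.zero_apply]
    exact LinearMap.surjective_of_injective hinj
  have hyb : y b = b := by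
    rw [← sub_eq_zero]
    apply hnd
    intro w
    obtain ⟨z, rfl⟩ := hsurj w
    rw [map_sub, LinearMap.sub_apply, hy]
    have h7 := hperp z
    have h8 : N z = y z - z := rfl
    rw [h8, map_sub] at h7
    rw [← neg_sub, h7, neg_zero]
  apply hNb
  show y b - b = 0
  rw [hyb, sub_self]

end unip

/-! ### Orthogonal groups -/

section om

open Cfsg.Agent.H160.QSplit Cfsg.Agent.H160.QDisc Cfsg.Agent.H160.QFinal

variable {F : Type*} [Field F] [Fintype F] [CharP F 2] {ι : Type} [Fintype ι] [DecidableEq ι]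

theorem om_lin {Q : QuadraticForm F (ι → F)} (hQ : Nondeg Q) (hd : 5 ≤ Fintype.card ι) (g : Cfsg.POmega F ⇑Q) :
    ∃ t : (ι → F) ≃ₗ[F] (ι → F), t ∈ E Q ∧ orderOf t = orderOf g := by
  have hG := good_of_finite hQ (by rw [finrank_fintype_fun_eq_card]; exact hd)
  obtain ⟨w, hw0, hw⟩ := hG.sing
  have h2 : (2 : F) = 0 := CharTwo.two_eq_zero
  have hcen : Subgroup.center (Cfsg.Omega F ⇑Q) = ⊥ :=
    Cfsg.Agent.LieClassical.OrthCenter.center_omega_eq_bot_char_two h2 (nondeg_bilin hQ) (by omega) ⟨w, hw0, hw⟩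
  let e : Cfsg.POmega F ⇑Q ≃* Cfsg.Omega F ⇑Q :=
    (QuotientGroup.quotientMulEquivOfEq hcen).trans QuotientGroup.quotientBot
  refine ⟨lin Q (e g), ?_, ?_⟩
  · rw [← hG.commutator_eq_E]
    exact (omegaEquiv Q (e g)).2
  · rw [orderOf_lin, MulEquiv.orderOf_eq]

theorem isEta (k : ℕ) : Cfsg.Agent.H390.NonAdj.IsEta k (eta k) := by
  rw [eta]
  by_cases h : Even k
  · rw [if_pos h]
    exact Or.inr ⟨h, Nat.mul_div_cancel' h.two_dvd⟩
  · rw [if_neg h]
    exact Or.inl ⟨Nat.not_even_iff_odd.1 h, rfl⟩

/-- **`4 r ∈ ω(Ω^±_2n(q))`, `q` even** -/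
theorem om_four {Q : QuadraticForm F (ι → F)} (hQ : Nondeg Q) {n : ℕ} (hn : Fintype.card ι = 2 * n) (hn3 : 3 ≤ n)
    {r : ℕ} (hr : r.Prime) (hr2 : r ≠ 2) (hη : n < 2 * eta (ee (Fintype.card F) r))
    (h : ∃ x : Cfsg.POmega F ⇑Q, orderOf x = 4 * r) : eta (ee (Fintype.card F) r) + 3 ≤ n := by
  obtain ⟨g, hg⟩ := h
  obtain ⟨t, htE, hto⟩ := om_lin hQ (by omega) g
  rw [hg] at hto
  by_contra hcon
  push Not at hcon
  set η := eta (ee (Fintype.card F) r) with hηd
  have htO : t ∈ O Q := E_le_O htE
  have hfin : finrank F (ι → F) = 2 * n := by rw [finrank_fintype_fun_eq_card, hn]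
  have hrF : ((r : ℕ) : F) ≠ 0 := by
    intro h0
    rw [CharP.cast_eq_zero_iff F 2] at h0
    exact hr2 ((Nat.prime_dvd_prime_iff_eq Nat.prime_two hr).1 h0).symm
  have hco : Nat.Coprime 4 r := by
    have : Nat.Coprime (2 ^ 2) r := Nat.Coprime.pow_left _ ((Nat.coprime_primes Nat.prime_two hr).2 (Ne.symm hr2))
    exact this
  -- the two parts
  have hxr : (en (t ^ 4)) ^ r = 1 := by
    rw [← en_pow, ← pow_mul, ← hto, pow_orderOf_eq_one]
    rfl
  have hx1 : en (t ^ 4) ≠ 1 := by
    intro h
    have h1 : t ^ 4 = 1 := en_inj h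
    have h3 := Nat.le_of_dvd (by norm_num) (hto ▸ orderOf_dvd_of_pow_eq_one h1)
    have := hr.two_le
    omega
  have hy4 : (en (t ^ r)) ^ 4 = 1 := by
    rw [← en_pow, ← pow_mul, mul_comm r 4, ← hto, pow_orderOf_eq_one]
    rfl
  have hQpow : ∀ k : ℕ, ∀ v, Q ((en (t ^ k)) v) = Q v := by
    intro k v
    exact (mem_O.1 ((O Q).pow_mem htO k)) v
  have hcomm : Commute (en (t ^ 4)) (en (t ^ r)) := by
    show en (t ^ 4) * en (t ^ r) = en (t ^ r) * en (t ^ 4)
    rw [← en_mul, ← en_mul, ← pow_add, ← pow_add, add_comm]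
  have hND : Cfsg.Agent.H150.ND Q := fun x hx => hQ x fun y => hx y
  have : Fact (Nat.Prime 2) := ⟨Nat.prime_two⟩
  have hnil : (en (t ^ r) - 1) ^ 4 = 0 := by
    have := Cfsg.Agent.H160.QUpper.sub_one_pow_char (p := 2) (en (t ^ r)) 2
    rw [show 2 ^ 2 = 4 from rfl, hy4, sub_self] at this
    exact this
  have he : orderOf ((Nat.card F : ℕ) : ZMod r) = ee (Fintype.card F) r := by
    rw [Nat.card_eq_fintype_card]
    rfl
  have hrange := Cfsg.Agent.H390.NonAdj.finrank_range_eq Q hND hr hr2 hrF hxr hx1 (hQpow 4) he (isEta _)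
    (by rw [hfin]; omega)
  rw [← hηd] at hrange
  -- `y` is trivial on the range
  have htriv : ∀ v ∈ LinearMap.range (en (t ^ 4) - 1), (en (t ^ r)) v = v := by
    by_contra hne
    push Not at hne
    have := Cfsg.Agent.H390.Dec.unip_range Q hND hr hr2 hrF (en (t ^ 4)) (en (t ^ r)) hcomm hxr ⟨4, hnil⟩ (hQpow 4)
      (hQpow r) hne (m := η) (by omega) hrange (η := η) (by rw [he]; exact isEta _)
    omega
  set N : (ι → F) →ₗ[F] (ι → F) := en (t ^ r) - 1 with hN
  have hsum := LinearMap.finrank_range_add_finrank_ker N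
  rw [hfin] at hsum
  -- parity
  have hpar : Even (finrank F (LinearMap.range N)) := by
    have h1 := Cfsg.Agent.H890.SpParity.even_E hQ (Subgroup.pow_mem _ htE r)
    have h3 : Cfsg.Agent.H890.SpParity.fix (t ^ r) = LinearMap.ker N := rfl
    rw [h3, hfin] at h1
    rw [Nat.even_iff] at h1 ⊢
    omega
  have hle : LinearMap.range (en (t ^ 4) - 1) ≤ LinearMap.ker N := by
    intro v hv
    rw [LinearMap.mem_ker, hN, LinearMap.sub_apply, htriv v hv, Module.End.one_apply, sub_self]
  have hkerle := Submodule.finrank_mono hle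
  rw [hrange] at hkerle
  -- the rank is at most two
  have hrk : finrank F (LinearMap.range N) ≤ 2 := by
    by_contra h3
    push Not at h3
    have h4 : finrank F (LinearMap.range N) = 4 := by
      obtain ⟨k, hk⟩ := hpar
      omega
    have hker : LinearMap.ker N = LinearMap.range (en (t ^ 4) - 1) :=
      (Submodule.eq_of_le_of_finrank_le hle (by rw [hrange]; omega)).symm
    have hcompl := Cfsg.Agent.H150.isCompl_fix hrF (en (t ^ 4)) hxr
    -- the range of `N` lies in the kernel of `x - 1`
    have hNx : ∀ v, N ((en (t ^ 4) - 1) v) = (en (t ^ 4) - 1) (N v) := by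
      have h5 : Commute (en (t ^ 4) - 1) N := by
        rw [hN]
        exact (hcomm.sub_left (Commute.one_left _)).sub_right (Commute.one_right _)
      intro v
      exact (LinearMap.congr_fun h5.eq v).symm
    have hrk' : LinearMap.range N ≤ LinearMap.ker (en (t ^ 4) - 1) := by
      rintro _ ⟨v, rfl⟩
      rw [LinearMap.mem_ker, ← hNx]
      have : (en (t ^ 4) - 1) v ∈ LinearMap.ker N := by
        rw [hker]
        exact ⟨v, rfl⟩
      exact this
    -- `N` is injective on its range
    have hinj : ∀ v, N (N v) = 0 → N v = 0 := by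
      intro v hv
      have h5 : N v ∈ LinearMap.range (en (t ^ 4) - 1) := by
        rw [← hker]
        exact hv
      have h6 : N v ∈ LinearMap.ker (en (t ^ 4) - 1) := hrk' ⟨v, rfl⟩
      have h7 := hcompl.disjoint.le_bot ⟨h6, h5⟩
      exact h7
    have hN0 : N = 0 := by
      apply LinearMap.ext
      intro v
      apply hinj
      apply hinj
      apply hinj
      have h5 := LinearMap.congr_fun hnil v
      exact h5
    rw [hN0, LinearMap.range_zero, finrank_bot] at h4
    omega
  have hsq := unip_sq (polarBilin Q) (fun v => by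
      show polar Q v v = 0
      have h0 : v + v = 0 := by rw [← two_smul F, CharTwo.two_eq_zero, zero_smul]
      rw [polar, h0, map_zero, zero_sub, ← neg_add', CharTwo.add_self_eq_zero, neg_zero])
    (fun u hu => hQ u fun v => hu v) (en (t ^ r)) (fun u v => by
      show polar Q _ _ = polar Q u v
      rw [polar, polar, ← map_add, hQpow, hQpow, hQpow]) ⟨4, hnil⟩ hrk
  have hy2 : (en (t ^ r)) ^ 2 = 1 := by
    have := Cfsg.Agent.H160.QUpper.sub_one_pow_char (p := 2) (en (t ^ r)) 1
    rw [show 2 ^ 1 = 2 from rfl, hsq] at this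
    exact (sub_eq_zero.1 this.symm)
  rw [← en_pow, ← pow_mul] at hy2
  have h1 : t ^ (r * 2) = 1 := en_inj hy2
  have h3 := Nat.le_of_dvd (by have := hr.pos; omega) (hto ▸ orderOf_dvd_of_pow_eq_one h1)
  have := hr.pos
  omega

end om

end Cfsg.Agent.H228.EvenL
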