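import Cfsg.Agent.H228.RedSylow
import Mathlib.GroupTheory.Frattini

/-!
# Existence of members of `𝔐_H` over a given member of `𝓛_H(T)`
-/

set_option autoImplicit false
set_option linter.unusedSectionVars false

namespace Cfsg.Agent.H228

open Subgroup Cfsg Cfsg.Agent.H227.Weak

variable {H : Type*} [Group H]

section fin

variable [Finite H] {p : ℕ} [Fact p.Prime]

/-- In a group of parabolic characteristic `p` all `R ≥ T` with `O_p(R) ≠ 1` lie in `𝓛_H`. -/
theorem mem_charP_of_parabolic (hH : IsOfParabolicCharacteristic p H) (T : Sylow p H)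
    {R : Subgroup H} (hTR : (T : Subgroup H) ≤ R) (hR : pCoreOf p R ≠ ⊥) :
    R ∈ charPSubgroups p H := by
  refine mem_charP.2 ⟨hR, ?_⟩
  set U := pCoreOf p R with hU
  have hRN : R ≤ normalizer (U : Set H) :=
    le_normalizer.trans (normalizer_le_normalizer_pCoreOf p R)
  have h1 := hH U (isPGroup_pCoreOf R) hR ⟨T, hTR.trans hRN⟩
  have h2 : pCoreOf p (normalizer (U : Set H)) ≤ U := pCoreOf_anti T hTR hRN
  intro x hx
  have hxN : x ∈ normalizer (U : Set H) := centralizer_le_normalizer _ hx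
  have h3 : (⟨x, hxN⟩ : normalizer (U : Set H)) ∈
      centralizer (pCore p (normalizer (U : Set H)) : Set (normalizer (U : Set H))) := by
    intro y hy
    exact Subtype.ext (hx _ (h2 ⟨y, hy, rfl⟩))
  exact h2 ⟨_, h1 h3, rfl⟩

/-- product sets -/
theorem subset_mul_iff {L M C : Subgroup H} :
    ((L : Set H) ⊆ {x | ∃ m ∈ M, ∃ c ∈ C, x = m * c}) ↔ ∀ l ∈ L, ∃ m ∈ M, ∃ c ∈ C, l = m * c :=
  Iff.rfl

/-- `L ≪ M`: `Y_L ≤ Y_M` and `L ⊆ M C_H(Y_L)` -/
def Below (p : ℕ) (L M : Subgroup H) : Prop :=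
  largestPReducedOf p L ≤ largestPReducedOf p M ∧
    ∀ l ∈ L, ∃ m ∈ M, ∃ c ∈ centralizer ((largestPReducedOf p L : Subgroup H) : Set H), l = m * c

theorem Below.mono {L M X : Subgroup H} (h : Below p L M) (hMX : M ≤ X)
    (hY : largestPReducedOf p M ≤ largestPReducedOf p X) : Below p L X := by
  refine ⟨h.1.trans hY, fun l hl => ?_⟩
  obtain ⟨m, hm, c, hc, rfl⟩ := h.2 l hl
  exact ⟨m, hMX hm, c, hc, rfl⟩

/-- `Y_X` is `p`-reduced for any `M ≥ Y_X` with `M C_H(Y_X) = X C_H(Y_X)`. -/
theorem Red.of_sup {X M V : Subgroup H} (h : Red p X V) (hVM : V ≤ M)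
    (hM : M ⊔ centralizer (V : Set H) = X ⊔ centralizer (V : Set H)) : Red p M V := by
  have hCn : centralizer (V : Set H) ≤ normalizer (V : Set H) := centralizer_le_normalizer _
  have hMn : M ≤ normalizer (V : Set H) := by
    have : M ≤ X ⊔ centralizer (V : Set H) := by rw [← hM]; exact le_sup_left
    exact this.trans (sup_le h.normal hCn)
  have hNC := normalizer_le_normalizer_centralizer V
  refine ⟨hVM, hMn, h.comm, h.pow, fun D hDM hMD hD => ?_⟩
  -- `E = D C_H(V) ∩ X`
  have hDN : D ≤ normalizer ((centralizer (V : Set H) : Subgroup H) : Set H) :=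
    (hDM.trans hMn).trans hNC
  have hDCn : M ⊔ centralizer (V : Set H) ≤
      normalizer ((D ⊔ centralizer (V : Set H) : Subgroup H) : Set H) := by
    refine sup_le ?_ ?_
    · intro g hg
      rw [← cj_eq_self_iff, cj_sup, cj_eq_self_iff.2 (hMD hg),
        cj_eq_self_iff.2 ((hMn.trans hNC) hg)]
    · exact le_sup_right.trans le_normalizer
  set E := (D ⊔ centralizer (V : Set H)) ⊓ X with hE
  have hEred : E ≤ centralizer (V : Set H) := by
    refine h.red _ inf_le_right ?_ ?_
    · intro g hg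
      have hg' : g ∈ M ⊔ centralizer (V : Set H) := by rw [hM]; exact mem_sup_left hg
      rw [← cj_eq_self_iff, cj_inf, cj_eq_self_iff.2 (hDCn hg'), cj_eq_self_of_mem hg]
    · rintro e ⟨he, -⟩
      obtain ⟨d, hd, c, hc, rfl⟩ := exists_mul_of_mem_sup' hDN he
      obtain ⟨k, hk⟩ := hD d hd
      refine ⟨k, ?_⟩
      -- modulo the normal subgroup `C_H(V)` of `N_H(V)`
      have key : ∀ n : ℕ, ∃ c' ∈ centralizer (V : Set H), (d * c) ^ n = d ^ n * c' := by
        intro n
        induction n with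
        | zero => exact ⟨1, one_mem _, by simp⟩
        | succ n ih =>
          obtain ⟨c', hc', h2⟩ := ih
          refine ⟨(d⁻¹ * c' * d) * c, mul_mem ?_ hc, ?_⟩
          · have := (mem_normalizer_iff.1 (inv_mem (hDN hd)) c').1 hc'
            simpa using this
          · rw [pow_succ, h2, pow_succ]; group
      obtain ⟨c', hc', h2⟩ := key (p ^ k)
      rw [h2]
      exact mul_mem hk hc'
  intro d hd
  have h1 : d ∈ X ⊔ centralizer (V : Set H) := by rw [← hM]; exact mem_sup_left (hDM hd)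
  obtain ⟨x, hx, c, hc, rfl⟩ := exists_mul_of_mem_sup' (h.normal.trans hNC) h1
  have h2 : x ∈ E := by
    refine ⟨?_, hx⟩
    have : x = (x * c) * c⁻¹ := by group
    rw [this]
    exact mul_mem (mem_sup_left hd) (mem_sup_right (inv_mem hc))
  exact mul_mem (hEred h2) hc

/-- `M ≤ X` with `M C_H(Y_X) = X ≥ C_H(Y_X)`: then `Y_M = Y_X` -/
theorem largest_eq_of_sup (T : Sylow p H) {M X : Subgroup H} (hTM : (T : Subgroup H) ≤ M)
    (hMX : M ≤ X) (hX : X ∈ charPSubgroups p H)
    (hM : M ⊔ centralizer ((largestPReducedOf p X : Subgroup H) : Set H) =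
      X ⊔ centralizer ((largestPReducedOf p X : Subgroup H) : Set H)) :
    largestPReducedOf p M = largestPReducedOf p X := by
  refine le_antisymm (largest_mono T hTM hMX (mem_charP.1 hX).2) ?_
  refine le_largest ((red_largest p X).of_sup ?_ hM)
  exact ((red_largest p X).le_oz.trans (oz_le X)).trans
    ((pCoreOf_le_sylow T (hTM.trans hMX)).trans hTM)

theorem sup_centralizer_eq {M C : Subgroup H} {x : H} (hMC : M ≤ normalizer (C : Set H)) :
    x ∈ M ⊔ C ↔ ∃ m ∈ M, ∃ c ∈ C, x = m * c := by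
  constructor
  · exact fun h => by
      obtain ⟨m, hm, c, hc, h⟩ := exists_mul_of_mem_sup' hMC h
      exact ⟨m, hm, c, hc, h⟩
  · rintro ⟨m, hm, c, hc, rfl⟩
    exact mul_mem (mem_sup_left hm) (mem_sup_right hc)

theorem le_normalizer_inf {L A B : Subgroup H} (hA : L ≤ normalizer (A : Set H))
    (hB : L ≤ normalizer (B : Set H)) : L ≤ normalizer ((A ⊓ B : Subgroup H) : Set H) := by
  intro g hg
  rw [← cj_eq_self_iff, cj_inf, cj_eq_self_iff.2 (hA hg), cj_eq_self_iff.2 (hB hg)]

theorem exists_sylow_map_eq {K A : Subgroup H} (hA : IsPGroup p A) (hAK : A ≤ K)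
    (h : ¬ p ∣ A.relIndex K) : ∃ S : Sylow p K, (S : Subgroup K).map K.subtype = A := by
  have h1 : IsPGroup p (A.subgroupOf K) := hA.comap_of_injective _ K.subtype_injective
  have h2 : ¬ p ∣ (A.subgroupOf K).index := h
  exact ⟨h1.toSylow h2, Subgroup.map_subgroupOf_eq_of_le hAK⟩

/-- the Frattini argument -/
theorem frattini_arg (T : Sylow p H) {L K : Subgroup H} (hTL : (T : Subgroup H) ≤ L) (hKL : K ≤ L)
    (hLK : L ≤ normalizer (K : Set H)) {m : H} (hm : m ∈ L) :
    ∃ k ∈ K, k * m ∈ normalizer (((T : Subgroup H) ⊓ K : Subgroup H) : Set H) := by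
  have h1 : ∀ T' : Sylow p H, (T' : Subgroup H) ≤ L →
      ∃ S : Sylow p K, (S : Subgroup K).map K.subtype = (T' : Subgroup H) ⊓ K := by
    intro T' hT'
    refine exists_sylow_map_eq (T'.isPGroup'.to_le inf_le_left) inf_le_right ?_
    rw [inf_relIndex_right]
    exact not_dvd_relIndex T' hT' hKL hLK
  obtain ⟨S, hS⟩ := h1 T hTL
  have hc : ((m • T : Sylow p H) : Subgroup H) = cj m (T : Subgroup H) := rfl
  obtain ⟨S', hS'⟩ := h1 (m • T) (by
    rw [hc, ← cj_eq_self_of_mem hm]
    exact cj_mono m hTL)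
  obtain ⟨k, hk, hk'⟩ := exists_mem_cj_eq S' S
  refine ⟨k, hk, ?_⟩
  rw [hS, hS', hc] at hk'
  rw [← cj_eq_self_iff, ← cj_cj, cj_inf m, cj_eq_self_iff.2 (hLK hm)]
  exact hk'

theorem relIndex_sup_of_le_normalizer {P N : Subgroup H} (h : P ≤ normalizer (N : Set H)) :
    P.relIndex (P ⊔ N) = P.relIndex N := by
  have h2 : P ⊔ N ≤ normalizer (N : Set H) := sup_le h le_normalizer
  have hn : (N.subgroupOf (P ⊔ N)).Normal :=
    (normal_subgroupOf_iff_le_normalizer le_sup_right).2 h2
  have h3 := relIndex_sup_of_normal (P.subgroupOf (P ⊔ N)) (N.subgroupOf (P ⊔ N))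
  rw [relIndex_subgroupOf le_sup_right, ← subgroupOf_sup le_sup_left le_sup_right,
    subgroupOf_self, relIndex_top_right] at h3
  exact h3

/-- a subgroup `N` of `M` of index prime to `p` contains an `M`-conjugate of `T ≤ M` -/
theorem exists_cj_le (T : Sylow p H) {M N : Subgroup H} (hTM : (T : Subgroup H) ≤ M) (hNM : N ≤ M)
    (h : ¬ p ∣ N.relIndex M) : ∃ m ∈ M, (T : Subgroup H) ≤ cj m N := by
  obtain ⟨R, -⟩ := exists_le_sylow_map (p := p) (K := N) (R := ⊥) IsPGroup.of_bot bot_le
  set A := (R : Subgroup N).map N.subtype with hA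
  have hAN : A ≤ N := map_subtype_le _
  have hAp : IsPGroup p A := R.isPGroup'.map _
  have hp : p.Prime := Fact.out
  have h1 : ¬ p ∣ A.relIndex N := by
    have : A.relIndex N = (R : Subgroup N).index := by
      rw [relIndex, hA, subgroupOf, comap_map_eq_self_of_injective N.subtype_injective]
    rw [this]
    exact R.not_dvd_index
  have h2 : ¬ p ∣ A.relIndex M := by
    rw [← relIndex_mul_relIndex A N M hAN hNM]
    intro h3
    rcases hp.dvd_mul.1 h3 with h4 | h4
    · exact h1 h4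
    · exact h h4
  obtain ⟨S, hS⟩ := exists_sylow_map_eq hAp (hAN.trans hNM) h2
  obtain ⟨m, hm, hm'⟩ := exists_mem_cj_eq S (T.subtype hTM)
  refine ⟨m, hm, ?_⟩
  rw [hS, Sylow.coe_subtype, Subgroup.map_subgroupOf_eq_of_le hTM] at hm'
  rw [← hm']
  exact cj_mono m hAN

/-- **Existence of members of `𝔐_H`** -/
theorem exists_frakM (T : Sylow p H)
    (hpc : ∀ R : Subgroup H, (T : Subgroup H) ≤ R → pCoreOf p R ≠ ⊥ → R ∈ charPSubgroups p H)
    (L : Subgroup H) (hTL : (T : Subgroup H) ≤ L) (hL : L ∈ charPSubgroups p H) :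
    ∃ M Ls : Subgroup H, (T : Subgroup H) ≤ M ∧ IsInFrakM p M ∧ (T : Subgroup H) ≤ Ls ∧
      Ls ≤ M ∧ Ls ∈ charPSubgroups p H ∧
      largestPReducedOf p L = largestPReducedOf p Ls ∧
      largestPReducedOf p L ≤ largestPReducedOf p M ∧
      L ⊔ centralizer ((largestPReducedOf p L : Subgroup H) : Set H) =
        Ls ⊔ centralizer ((largestPReducedOf p L : Subgroup H) : Set H) := by
  classical
  -- Step 1: a maximal `X` over `L` with respect to `≪`
  obtain ⟨X, hXmax⟩ : ∃ X : {X : Subgroup H // (T : Subgroup H) ≤ X ∧ pCoreOf p X ≠ ⊥ ∧ Below p L X},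
      ∀ Z : {X : Subgroup H // (T : Subgroup H) ≤ X ∧ pCoreOf p X ≠ ⊥ ∧ Below p L X},
      Nat.card (largestPReducedOf p (Z : Subgroup H)) * (Nat.card H + 1) + Nat.card (Z : Subgroup H)
      ≤ Nat.card (largestPReducedOf p (X : Subgroup H)) * (Nat.card H + 1) +
        Nat.card (X : Subgroup H) := by
    have : Nonempty {X : Subgroup H // (T : Subgroup H) ≤ X ∧ pCoreOf p X ≠ ⊥ ∧ Below p L X} :=
      ⟨⟨L, hTL, (mem_charP.1 hL).1, le_rfl, fun l hl => ⟨l, hl, 1, one_mem _, (mul_one l).symm⟩⟩⟩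
    exact Finite.exists_max
      (fun Z : {X : Subgroup H // (T : Subgroup H) ≤ X ∧ pCoreOf p X ≠ ⊥ ∧ Below p L X} =>
        Nat.card (largestPReducedOf p (Z : Subgroup H)) * (Nat.card H + 1) +
          Nat.card (Z : Subgroup H))
  obtain ⟨X, hTX, hX1, hLX⟩ := X
  have hXc : X ∈ charPSubgroups p H := hpc X hTX hX1
  have claim1 : ∀ Z : Subgroup H, pCoreOf p Z ≠ ⊥ → X ≤ Z → Z = X := by
    intro Z hZ1 hXZ
    have hTZ := hTX.trans hXZ
    have hZc := hpc Z hTZ hZ1
    have hY := largest_mono T hTX hXZ (mem_charP.1 hZc).2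
    have h1 := hXmax ⟨Z, hTZ, hZ1, hLX.mono hXZ hY⟩
    have h2 := Subgroup.card_le_of_le hY
    have h3 := Nat.mul_le_mul_right (Nat.card H + 1) h2
    refine (Subgroup.eq_of_le_of_card_ge hXZ ?_).symm
    simp only at h1
    omega
  have claim2 : ∀ Z : Subgroup H, (T : Subgroup H) ≤ Z → pCoreOf p Z ≠ ⊥ → Below p L Z →
      largestPReducedOf p X ≤ largestPReducedOf p Z →
      largestPReducedOf p X = largestPReducedOf p Z := by
    intro Z hTZ hZ1 hLZ hY
    have h1 := hXmax ⟨Z, hTZ, hZ1, hLZ⟩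
    simp only at h1
    refine Subgroup.eq_of_le_of_card_ge hY ?_
    by_contra hlt
    push Not at hlt
    have h3 := Nat.mul_le_mul_right (Nat.card H + 1) (Nat.succ_le_of_lt hlt)
    have h4 : Nat.card X ≤ Nat.card H := Subgroup.card_le_card_group X
    rw [Nat.succ_mul] at h3
    omega
  have hsup : ∀ Z : Subgroup H, (T : Subgroup H) ≤ Z → Z ∈ charPSubgroups p H →
      pCoreOf p (Z ⊔ centralizer ((largestPReducedOf p Z : Subgroup H) : Set H)) ≠ ⊥ := by
    intro Z hTZ hZ h
    have hR := red_largest p Z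
    refine largest_ne_bot T hTZ hZ (eq_bot_iff.2 ?_)
    rw [← h]
    exact le_pCoreOf hR.isPGroup (hR.le.trans le_sup_left)
      (sup_le hR.normal (centralizer_le_normalizer _))
  set C := centralizer ((largestPReducedOf p X : Subgroup H) : Set H) with hC
  have claim3 : X ⊔ C = X := claim1 _ (hsup X hTX hXc) le_sup_left
  have hCX : C ≤ X := by rw [← claim3]; exact le_sup_right
  have claim4 : X ∈ maxCharPSubgroups p H :=
    ⟨hXc, fun Z hZ hXZ => claim1 Z (mem_charP.1 hZ).1 hXZ⟩
  -- Step 2: a minimal `M` with `M C = X`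
  obtain ⟨M, hMmin⟩ : ∃ M : {M : Subgroup H // (T : Subgroup H) ≤ M ∧ M ≤ X ∧ M ⊔ C = X},
      ∀ Z : {M : Subgroup H // (T : Subgroup H) ≤ M ∧ M ≤ X ∧ M ⊔ C = X},
      Nat.card (M : Subgroup H) ≤ Nat.card (Z : Subgroup H) := by
    have : Nonempty {M : Subgroup H // (T : Subgroup H) ≤ M ∧ M ≤ X ∧ M ⊔ C = X} :=
      ⟨⟨X, hTX, le_rfl, claim3⟩⟩
    exact Finite.exists_min
      (fun Z : {M : Subgroup H // (T : Subgroup H) ≤ M ∧ M ≤ X ∧ M ⊔ C = X} =>
        Nat.card (Z : Subgroup H))
  obtain ⟨M, hTM, hMX, hMC⟩ := M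
  have hmin : ∀ Z : Subgroup H, (T : Subgroup H) ≤ Z → Z ≤ M → M ≤ Z ⊔ C → Z = M := by
    intro Z hTZ hZM hMZ
    have h1 := hMmin ⟨Z, hTZ, hZM.trans hMX, le_antisymm (sup_le (hZM.trans hMX) hCX) (by
      rw [← hMC]
      exact sup_le hMZ le_sup_right)⟩
    exact Subgroup.eq_of_le_of_card_ge hZM h1
  have hYM : largestPReducedOf p M = largestPReducedOf p X :=
    largest_eq_of_sup T hTM hMX hXc (by rw [← hC, hMC, claim3])
  have hM1 : pCoreOf p M ≠ ⊥ := fun h => hX1 (by
    rw [eq_bot_iff, ← h]; exact pCoreOf_anti T hTM hMX)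
  have hMc : M ∈ charPSubgroups p H := hpc M hTM hM1
  have hRX := red_largest p X
  have hXC : X ≤ normalizer (C : Set H) :=
    hRX.normal.trans (normalizer_le_normalizer_centralizer _)
  have hMCn : M ≤ normalizer (C : Set H) := hMX.trans hXC
  have hMK : M ≤ normalizer ((M ⊓ C : Subgroup H) : Set H) := le_normalizer_inf le_normalizer hMCn
  have hTK : (T : Subgroup H) ⊓ (M ⊓ C) = (T : Subgroup H) ⊓ C := by
    rw [← inf_assoc, inf_eq_left.2 hTM]
  -- `T ∩ C` is normal in `M`
  have hMT : M ≤ normalizer (((T : Subgroup H) ⊓ C : Subgroup H) : Set H) := by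
    have h1 : M ⊓ normalizer (((T : Subgroup H) ⊓ C : Subgroup H) : Set H) = M := by
      refine hmin _ (le_inf hTM (le_normalizer_inf le_normalizer (hTM.trans hMCn))) inf_le_left ?_
      intro m hm
      obtain ⟨k, hk, hkm⟩ := frattini_arg T hTM inf_le_left hMK hm
      rw [hTK] at hkm
      have : m = k⁻¹ * (k * m) := by group
      rw [this]
      exact mul_mem (mem_sup_right (inv_mem hk.2)) (mem_sup_left ⟨mul_mem hk.1 hm, hkm⟩)
    rw [← h1]
    exact inf_le_right
  have hTCp : IsPGroup p ((T : Subgroup H) ⊓ C : Subgroup H) := T.isPGroup'.to_le inf_le_left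
  have hTCM : (T : Subgroup H) ⊓ C ≤ pCoreOf p M :=
    le_pCoreOf hTCp (inf_le_left.trans hTM) hMT
  have hidx : ¬ p ∣ ((T : Subgroup H) ⊓ C).relIndex (M ⊓ C) := by
    rw [← hTK, inf_relIndex_right]
    exact not_dvd_relIndex T hTM inf_le_left hMK
  refine ⟨M, M ⊓ (L ⊔ centralizer ((largestPReducedOf p L : Subgroup H) : Set H)) ⊓
    normalizer (((T : Subgroup H) ⊓ centralizer ((largestPReducedOf p L : Subgroup H) : Set H) :
      Subgroup H) : Set H), hTM, ?_, ?_⟩
  · -- `M ∈ 𝔐_H`
    refine ⟨hMc, ?_, ?_, ?_, ?_, ?_⟩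
    · rw [hYM, ← hC, hMC]; exact claim4
    · intro Z hZ hMZ
      rw [hYM, ← hC, hMC]
      have hTZ := hTM.trans hMZ
      have hZ1 := (mem_charP.1 hZ.1).1
      have hYZ : largestPReducedOf p X ≤ largestPReducedOf p Z := by
        rw [← hYM]; exact largest_mono T hTM hMZ (mem_charP.1 hZ.1).2
      have hLZ : Below p L Z := by
        refine ⟨hLX.1.trans hYZ, fun l hl => ?_⟩
        obtain ⟨x, hx, c, hc, rfl⟩ := hLX.2 l hl
        rw [← hMC] at hx
        obtain ⟨m, hm, c', hc', rfl⟩ := exists_mul_of_mem_sup' hMCn hx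
        exact ⟨m, hMZ hm, c' * c, mul_mem (centralizer_le hLX.1 hc') hc, mul_assoc _ _ _⟩
      have h1 := claim2 Z hTZ hZ1 hLZ hYZ
      have h2 := hZ.2 _ (hpc _ (hTZ.trans le_sup_left) (hsup Z hTZ hZ.1)) le_sup_left
      have h3 : X ≤ Z := by
        rw [← hMC, ← h2, hC, h1]
        exact sup_le_sup_right hMZ _
      exact claim1 Z hZ1 h3
    · rw [hYM, ← hC, hMC]
    · rw [hYM, ← hC]
      intro P
      obtain ⟨S, hS⟩ := exists_sylow_map_eq hTCp (le_inf (inf_le_left.trans hTM) inf_le_right) hidx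
      have hSn : (S : Subgroup ↥(M ⊓ C)).Normal := by
        have h1 : (S : Subgroup ↥(M ⊓ C)) = ((T : Subgroup H) ⊓ C).subgroupOf (M ⊓ C) := by
          rw [← hS, subgroupOf, comap_map_eq_self_of_injective (M ⊓ C).subtype_injective]
        rw [h1, normal_subgroupOf_iff_le_normalizer (le_inf (inf_le_left.trans hTM) inf_le_right)]
        exact inf_le_left.trans hMT
      obtain ⟨g, hg⟩ := MulAction.exists_smul_eq ↥(M ⊓ C) S P
      have h2 : P = S := by
        rw [← hg]
        exact Sylow.smul_eq_of_normal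
      rw [h2]
      exact hSn
    · rw [hYM, ← hC]
      have hpn : (pCore p M).Normal := Lib.Cores.pCore_normal p
      rw [frattini, Order.radical]
      refine le_iInf₂ fun K' hK' => ?_
      by_contra hle
      set f := QuotientGroup.mk' (pCore p M) with hf
      have hfs : Function.Surjective f := QuotientGroup.mk'_surjective _
      set N := K'.comap f with hN
      have hker : f.ker ≤ N := fun x hx => by
        rw [hN, mem_comap, MonoidHom.mem_ker.1 hx]; exact one_mem _
      have htop : N ⊔ (M ⊓ C).subgroupOf M = ⊤ := by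
        have h1 : (N ⊔ (M ⊓ C).subgroupOf M).map f = ⊤ := by
          rw [Subgroup.map_sup, hN, Subgroup.map_comap_eq_self_of_surjective hfs]
          refine (IsCoatom.lt_iff hK').1 (lt_of_le_of_ne le_sup_left fun h => hle ?_)
          rw [h]; exact le_sup_right
        have h2 := congrArg (Subgroup.comap f) h1
        rw [Subgroup.comap_map_eq, comap_top] at h2
        rw [← h2]
        exact (sup_eq_left.2 (hker.trans le_sup_left)).symm
      set N₁ := N.map M.subtype with hN₁
      have hN₁M : N₁ ≤ M := map_subtype_le _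
      have hN₁s : N₁ ⊔ (M ⊓ C) = M := by
        have h1 := congrArg (Subgroup.map M.subtype) htop
        rw [Subgroup.map_sup, Subgroup.map_subgroupOf_eq_of_le inf_le_left, ← hN₁] at h1
        rw [h1, ← MonoidHom.range_eq_map, range_subtype]
      have hpN₁ : pCoreOf p M ≤ N₁ := by
        refine Subgroup.map_mono ?_
        rw [← QuotientGroup.ker_mk' (pCore p M)]
        exact hker
      have hN₁i : ¬ p ∣ N₁.relIndex M := by
        have h1 := relIndex_sup_of_le_normalizer (hN₁M.trans hMK)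
        rw [hN₁s] at h1
        rw [h1]
        intro h2
        refine hidx (h2.trans ?_)
        exact relIndex_dvd_of_le_left _ (hTCM.trans hpN₁)
      obtain ⟨m, hm, hTm⟩ := exists_cj_le T hTM hN₁M hN₁i
      have h1 : cj m N₁ = M := by
        refine hmin _ hTm ?_ ?_
        · rw [← cj_eq_self_of_mem hm]; exact cj_mono m hN₁M
        · have h2 : cj m (N₁ ⊔ (M ⊓ C)) = M := by rw [hN₁s]; exact cj_eq_self_of_mem hm
          rw [cj_sup, cj_eq_self_iff.2 (hMK hm)] at h2
          calc M = cj m N₁ ⊔ (M ⊓ C) := h2.symm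
            _ ≤ cj m N₁ ⊔ C := sup_le_sup_left inf_le_right _
      have h2 : N₁ = M := by
        rw [cj_eq_iff, cj_eq_self_of_mem (inv_mem hm)] at h1
        exact h1
      have h3 : N = ⊤ := by
        rw [eq_top_iff]
        intro x _
        have : (x : H) ∈ N₁ := by rw [h2]; exact x.2
        obtain ⟨y, hy, hyx⟩ := this
        have : y = x := Subtype.ext hyx
        rwa [← this]
      refine hK'.1 (eq_top_iff.2 fun z _ => ?_)
      obtain ⟨x, rfl⟩ := hfs z
      have : x ∈ N := by rw [h3]; trivial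
      exact this
  · -- `L*`
    set CL := centralizer ((largestPReducedOf p L : Subgroup H) : Set H) with hCL
    have hRL := red_largest p L
    have hLCL : L ≤ normalizer (CL : Set H) :=
      hRL.normal.trans (normalizer_le_normalizer_centralizer _)
    set Ls := M ⊓ (L ⊔ CL) ⊓ normalizer (((T : Subgroup H) ⊓ CL : Subgroup H) : Set H) with hLs
    have hTLs : (T : Subgroup H) ≤ Ls :=
      le_inf (le_inf hTM (hTL.trans le_sup_left)) (le_normalizer_inf le_normalizer (hTL.trans hLCL))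
    have hLsM : Ls ≤ M := inf_le_left.trans inf_le_left
    have hLs1 : pCoreOf p Ls ≠ ⊥ := fun h => hM1 (by
      rw [eq_bot_iff, ← h]; exact pCoreOf_anti T hTLs hLsM)
    have hsupn : L ⊔ CL ≤ normalizer (CL : Set H) := sup_le hLCL le_normalizer
    have hCX' : C ≤ CL := centralizer_le hLX.1
    have hLsC : Ls ⊔ CL = L ⊔ CL := by
      refine le_antisymm (sup_le (inf_le_left.trans inf_le_right) le_sup_right)
        (sup_le ?_ le_sup_right)
      intro l hl
      obtain ⟨x, hx, c, hc, hlx⟩ := hLX.2 l hl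
      rw [← hMC] at hx
      obtain ⟨m, hm, c', hc', rfl⟩ := exists_mul_of_mem_sup' hMCn hx
      have hmL : m ∈ L ⊔ CL := by
        have : m = l * (c⁻¹ * c'⁻¹) := by rw [hlx]; group
        rw [this]
        exact mul_mem (mem_sup_left hl) (mem_sup_right (mul_mem (inv_mem hc) (inv_mem (hCX' hc'))))
      have hm' : m ∈ Ls ⊔ CL := by
        have hn : M ⊓ (L ⊔ CL) ≤ normalizer ((M ⊓ CL : Subgroup H) : Set H) :=
          le_normalizer_inf (inf_le_left.trans le_normalizer) (inf_le_right.trans hsupn)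
        obtain ⟨k, hk, hkm⟩ := frattini_arg T (le_inf hTM (hTL.trans le_sup_left))
          (le_inf inf_le_left (inf_le_right.trans le_sup_right)) hn ⟨hm, hmL⟩
        rw [← inf_assoc, inf_eq_left.2 hTM] at hkm
        have : m = k⁻¹ * (k * m) := by group
        rw [this]
        exact mul_mem (mem_sup_right (inv_mem hk.2)) (mem_sup_left
          ⟨⟨mul_mem hk.1 hm, mul_mem (mem_sup_right hk.2) hmL⟩, hkm⟩)
      rw [hlx]
      exact mul_mem (mul_mem hm' (mem_sup_right (hCX' hc'))) (mem_sup_right hc)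
    have hTCL : (T : Subgroup H) ⊓ CL ≤ pCoreOf p Ls :=
      le_pCoreOf (T.isPGroup'.to_le inf_le_left) (inf_le_left.trans hTLs) inf_le_right
    have hLT : pCoreOf p L ≤ (T : Subgroup H) := pCoreOf_le_sylow T hTL
    have hYLs : largestPReducedOf p L ≤ largestPReducedOf p Ls :=
      le_largest (hRL.of_sup ((hRL.le_oz.trans (oz_le L)).trans (hLT.trans hTLs)) hLsC)
    have hRLs := red_largest p Ls
    have hPC : pCoreOf p L ≤ CL := by
      rw [hCL, le_centralizer_iff]
      exact fun y hy => (hRL.le_oz hy).2.1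
    refine ⟨hTLs, hLsM, hpc Ls hTLs hLs1, le_antisymm hYLs ?_, ?_, hLsC.symm⟩
    · refine le_largest_of T hTL ?_ ?_
      · intro w hw
        have h1 := hRLs.le_oz hw
        have h2 : w ∈ centralizer ((pCoreOf p L : Subgroup H) : Set H) :=
          centralizer_le ((le_inf hLT hPC).trans hTCL) h1.2.1
        exact ⟨(mem_charP.1 hL).2 h2, h2, h1.2.2⟩
      · intro D hDL hLD hD
        have h1 : D ≤ CL := hRL.red D hDL hLD fun d hd => by
          obtain ⟨k, hk⟩ := hD d hd
          exact ⟨k, centralizer_le (hYLs.trans (le_nc L _)) hk⟩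
        rw [le_centralizer_iff]
        exact fun y hy => centralizer_le ((inf_le_inf_left _ h1).trans hTCL) (hRLs.le_oz hy).2.1
    · rw [hYM]; exact hLX.1

end fin

end Cfsg.Agent.H228
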