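import Cfsg.Agent.H271.ShultGen
import Cfsg.Agent.H718.ConjRep

/-!
# Primes of the solvable radical: the odd Hall–Higman argument (helper228)

* `shult_fix` : `P` a subgroup of odd order, `y` of odd prime order `w`, both acting coprimely on an elementary abelian
  `r`-group `U`; `y` without fixed points: `[y, P]` centralizes `U`;
* `exists_order` : `K` normal in `G`, `S` simple and normal in `G / K`, `r ∣ |K|`, `w ∤ |K|`, `c ∈ S` of odd prime order `w`
  acting non-trivially on a `v`-subgroup `Q` of `S`, `v ≠ r` odd: `G` has an element of order `w r`.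
-/

set_option autoImplicit false
set_option linter.unusedSectionVars false

namespace Cfsg.Agent.H228.GoodK

open Subgroup

universe u

theorem shult_fix {X : Type u} [Group X] [Finite X] {r w : ℕ} (hr : r.Prime) (hw : w.Prime) (hw2 : w ≠ 2)
    (hwr : w ≠ r) (U P : Subgroup X) (y : X) (hUab : ∀ a ∈ U, ∀ b ∈ U, a * b = b * a) (hUexp : ∀ u ∈ U, u ^ r = 1)
    (hPU : ∀ p ∈ P, ∀ u ∈ U, p * u * p⁻¹ ∈ U) (hyU : ∀ u ∈ U, y * u * y⁻¹ ∈ U) (hyP : ∀ p ∈ P, y * p * y⁻¹ ∈ P)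
    (hyw : y ^ w = 1) (hsol : Group.IsSolvable P) (hodd : Odd (Nat.card P)) (hwP : ¬ w ∣ Nat.card P)
    (hrP : ¬ r ∣ Nat.card P) (hfix : ∀ u ∈ U, y * u = u * y → u = 1) :
    ∀ p ∈ P, ∀ u ∈ U, (y * p * y⁻¹ * p⁻¹) * u = u * (y * p * y⁻¹ * p⁻¹) := by
  classical
  have := Fact.mk hr
  -- the stabilizer of `U`
  have hconj : ∀ g : X, (∀ u ∈ U, g * u * g⁻¹ ∈ U) → g ∈ normalizer (U : Set X) := by
    intro g hg
    rw [mem_normalizer_iff]
    have h1 : (U.map (MulAut.conj g).toMonoidHom : Subgroup X) = U := by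
      refine Subgroup.eq_of_le_of_card_ge ?_ ?_
      · rintro _ ⟨u, hu, rfl⟩
        exact hg u hu
      · rw [Subgroup.card_map_of_injective (MulAut.conj g).injective]
    intro u
    constructor
    · exact hg u
    · intro h
      rw [← h1] at h
      obtain ⟨t, ht, ht'⟩ := h
      have : t = u := by
        have h2 : g * t * g⁻¹ = g * u * g⁻¹ := ht'
        simpa using h2
      rwa [← this]
  let H : Subgroup X := normalizer (U : Set X)
  obtain ⟨E, _, _, _, e, ρ, he, hρ⟩ := Cfsg.Agent.H718.exists_conjRep r H U hUab hUexp (fun h hh u hu =>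
    (mem_normalizer_iff.1 hh u).1 hu)
  have hPH : P ≤ H := fun p hp => hconj p (hPU p hp)
  have hyH : y ∈ H := hconj y hyU
  have hcP : Nat.card (P.subgroupOf H) = Nat.card P := Nat.card_congr (Subgroup.subgroupOfEquivOfLe hPH).toEquiv
  have hne : ∀ n : ℕ, ¬ r ∣ n → (n : ZMod r) ≠ 0 := by
    intro n hn h
    exact hn ((ZMod.natCast_eq_zero_iff _ _).1 h)
  have he1 : e 0 = 1 := by
    have := he 0 0
    rw [add_zero] at this
    exact left_eq_mul.1 this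
  have hmain := Cfsg.Agent.H271.ShultGen.comm_gen ρ (P.subgroupOf H) ⟨y, hyH⟩ hw hw2 (Subtype.ext hyw)
    (fun k hk => hyP _ hk) (by
      have := hsol
      exact Group.isSolvable_of_isSolvable_injective (f := (Subgroup.subgroupOfEquivOfLe hPH).toMonoidHom)
        (Subgroup.subgroupOfEquivOfLe hPH).injective)
    (by
      right
      rw [hcP]
      obtain ⟨j, hj⟩ := hw.odd_of_ne_two hw2
      intro hd
      have h2 : 2 ∣ (w - 1) ^ 2 := by
        rw [hj]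
        exact Dvd.dvd.pow ⟨j, by omega⟩ (by norm_num)
      have h3 := h2.trans hd
      obtain ⟨a, ha⟩ := hodd
      omega) (by rw [hcP]; exact hwP) (by rw [hcP]; exact hne _ hrP)
    (hne _ (fun h => hwr ((Nat.prime_dvd_prime_iff_eq hr hw).1 h).symm)) (by
      intro s hs
      have h1 := hρ ⟨y, hyH⟩ s
      rw [hs] at h1
      have h2 : y * ((e s : U) : X) = ((e s : U) : X) * y := by
        have h3 : ((e s : U) : X) = y * (e s : U) * y⁻¹ := h1
        calc y * ((e s : U) : X) = (y * (e s : U) * y⁻¹) * y := by group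
          _ = ((e s : U) : X) * y := by rw [← h3]
      have h3 := hfix _ (e s).2 h2
      apply e.injective
      rw [he1]
      exact Subtype.ext h3)
  intro p hp u hu
  have h1 := hmain ⟨p, hPH hp⟩ hp
  -- the commutator acts trivially
  have hd : y * p * y⁻¹ * p⁻¹ ∈ H := H.mul_mem (H.mul_mem (H.mul_mem hyH (hPH hp)) (H.inv_mem hyH)) (H.inv_mem (hPH hp))
  have h2 : ρ ⟨y * p * y⁻¹ * p⁻¹, hd⟩ = 1 := by
    have e1 : (⟨y * p * y⁻¹ * p⁻¹, hd⟩ : H) = (⟨y, hyH⟩ * ⟨p, hPH hp⟩) * (⟨p, hPH hp⟩ * ⟨y, hyH⟩)⁻¹ := by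
      apply Subtype.ext
      change y * p * y⁻¹ * p⁻¹ = (y * p) * (p * y)⁻¹
      group
    rw [e1, map_mul, h1, ← map_mul, mul_inv_cancel, map_one]
  have h3 := hρ ⟨y * p * y⁻¹ * p⁻¹, hd⟩ (e.symm ⟨u, hu⟩)
  rw [h2, Module.End.one_apply, Equiv.apply_symm_apply] at h3
  have h4 : u = (y * p * y⁻¹ * p⁻¹) * u * (y * p * y⁻¹ * p⁻¹)⁻¹ := h3
  calc (y * p * y⁻¹ * p⁻¹) * u = ((y * p * y⁻¹ * p⁻¹) * u * (y * p * y⁻¹ * p⁻¹)⁻¹) * (y * p * y⁻¹ * p⁻¹) := by group
    _ = u * (y * p * y⁻¹ * p⁻¹) := by rw [← h4]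

/-- two commuting elements of different prime orders -/
theorem order_mul {G : Type*} [Group G] {w r : ℕ} (hw : w.Prime) (hr : r.Prime) (hwr : w ≠ r) {y u : G}
    (hy : y ^ w = 1) (hy1 : y ≠ 1) (hu : u ^ r = 1) (hu1 : u ≠ 1) (h : y * u = u * y) : orderOf (y * u) = w * r := by
  have := Fact.mk hw
  have := Fact.mk hr
  have h1 : orderOf y = w := orderOf_eq_prime hy hy1
  have h2 : orderOf u = r := orderOf_eq_prime hu hu1
  rw [Commute.orderOf_mul_eq_mul_orderOf_of_coprime h, h1, h2]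
  rw [h1, h2]
  exact (Nat.coprime_primes hw hr).2 hwr

/-- the elements of order dividing `r` of the centre of a subgroup -/
def om {G : Type*} [Group G] (r : ℕ) (R : Subgroup G) : Subgroup G where
  carrier := {u | u ∈ R ∧ (∀ x ∈ R, u * x = x * u) ∧ u ^ r = 1}
  one_mem' := ⟨R.one_mem, fun x _ => by rw [one_mul, mul_one], one_pow r⟩
  mul_mem' := by
    rintro a b ⟨ha, ha1, ha2⟩ ⟨hb, hb1, hb2⟩
    refine ⟨R.mul_mem ha hb, fun x hx => ?_, ?_⟩
    · rw [mul_assoc, hb1 x hx, ← mul_assoc, ha1 x hx, mul_assoc]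
    · have h : Commute a b := ha1 b hb
      rw [h.mul_pow, ha2, hb2, one_mul]
  inv_mem' := by
    rintro a ⟨ha, ha1, ha2⟩
    refine ⟨R.inv_mem ha, fun x hx => ?_, by rw [inv_pow, ha2, inv_one]⟩
    have h : Commute a x := ha1 x hx
    exact h.inv_left

theorem om_ne_bot {G : Type*} [Group G] [Finite G] {r : ℕ} (hr : r.Prime) {R : Subgroup G} (hR : IsPGroup r R)
    (hR1 : R ≠ ⊥) : ∃ u ∈ om r R, u ≠ 1 := by
  have := Fact.mk hr
  have hnt : Nontrivial R := (Subgroup.nontrivial_iff_ne_bot R).2 hR1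
  have h1 := hR.center_nontrivial
  have h2 : IsPGroup r (center R) := hR.to_subgroup _
  obtain ⟨n, hn, hn'⟩ := (IsPGroup.nontrivial_iff_card h2).1 h1
  obtain ⟨z, hz⟩ := exists_prime_orderOf_dvd_card' (G := center R) r (by rw [hn']; exact dvd_pow_self _ hn.ne')
  refine ⟨((z : R) : G), ⟨(z : R).2, fun x hx => ?_, ?_⟩, ?_⟩
  · have h3 := Subgroup.mem_center_iff.1 z.2 ⟨x, hx⟩
    exact (congrArg Subtype.val h3).symm
  · have h4 : z ^ r = 1 := by rw [← hz]; exact pow_orderOf_eq_one z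
    have h5 := congrArg (fun t : center R => ((t : R) : G)) h4
    simpa using h5
  · intro h
    have h3 : z = 1 := Subtype.ext (Subtype.ext h)
    rw [h3, orderOf_one] at hz
    exact hr.one_lt.ne hz

theorem exists_order {G : Type u} [Group G] [Finite G] {K : Subgroup G} [K.Normal] {S : Subgroup (G ⧸ K)}
    [hSn : S.Normal] (hS : IsSimpleGroup S) {r w v : ℕ} (hr : r.Prime) (hw : w.Prime) (hv : v.Prime) (hw2 : w ≠ 2)
    (hv2 : v ≠ 2) (hvw : v ≠ w) (hvr : v ≠ r) (hwr : w ≠ r) (hrK : r ∣ Nat.card K) (hwK : ¬ w ∣ Nat.card K)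
    (hwS : w ∣ Nat.card S) {Q : Subgroup (G ⧸ K)} (hQS : Q ≤ S) (hQ : IsPGroup v Q) {c : G ⧸ K} (hc : c ^ w = 1)
    (hcQ : ∀ y ∈ Q, c * y * c⁻¹ ∈ Q) (hnc : ∃ y ∈ Q, c * y ≠ y * c) : ∃ x : G, orderOf x = w * r := by
  classical
  have := Fact.mk hr
  have := Fact.mk hw
  have := Fact.mk hv
  set π : G →* G ⧸ K := QuotientGroup.mk' K with hπ
  have hπs : Function.Surjective π := QuotientGroup.mk'_surjective K
  have hπk : ∀ x : G, π x = 1 ↔ x ∈ K := fun x => QuotientGroup.eq_one_iff x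
  -- the Sylow subgroup of `K` and its normalizer
  obtain ⟨R₀⟩ : Nonempty (Sylow r K) := inferInstance
  set R : Subgroup G := (R₀ : Subgroup K).map K.subtype with hRdef
  set N : Subgroup G := normalizer (R : Set G) with hNdef
  have hNK : N ⊔ K = ⊤ := Sylow.normalizer_sup_eq_top R₀
  have hRp : IsPGroup r R := R₀.isPGroup'.map _
  have hR1 : R ≠ ⊥ := by
    intro h
    have h1 : (R₀ : Subgroup K) = ⊥ := by
      rw [hRdef, Subgroup.map_eq_bot_iff_of_injective _ K.subtype_injective] at h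
      exact h
    have h2 := Sylow.card_eq_multiplicity R₀
    rw [h1, Subgroup.card_bot] at h2
    have h3 : 1 ≤ (Nat.card K).factorization r := by
      exact (hr.dvd_iff_one_le_factorization Nat.card_pos.ne').1 hrK
    have h4 : r ∣ 1 := by
      rw [h2]
      exact dvd_pow_self _ (by omega)
    exact hr.one_lt.ne' (Nat.dvd_one.1 h4)
  have hNs : ∀ g : G ⧸ K, ∃ n ∈ N, π n = g := by
    intro g
    obtain ⟨x, rfl⟩ := hπs g
    have hx : x ∈ N ⊔ K := hNK ▸ mem_top x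
    obtain ⟨n, hn, k, hk, rfl⟩ := Subgroup.mem_sup_of_normal_right.1 hx
    refine ⟨n, hn, ?_⟩
    rw [map_mul, (hπk k).2 hk, mul_one]
  have hNR : ∀ n ∈ N, ∀ x ∈ R, n * x * n⁻¹ ∈ R := fun n hn x hx => (mem_normalizer_iff.1 hn x).1 hx
  have hNR' : ∀ n ∈ N, ∀ x ∈ R, n⁻¹ * x * n ∈ R := fun n hn x hx => by
    have := hNR n⁻¹ (N.inv_mem hn) x hx
    rwa [inv_inv] at this
  obtain ⟨u₀, hu₀, hu₁⟩ := om_ne_bot hr hRp hR1
  have hUN : ∀ n ∈ N, ∀ u ∈ om r R, n * u * n⁻¹ ∈ om r R := by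
    rintro n hn u ⟨hu1, hu2, hu3⟩
    refine ⟨hNR n hn u hu1, fun x hx => ?_, ?_⟩
    · have h1 := hu2 _ (hNR' n hn x hx)
      calc n * u * n⁻¹ * x = n * (u * (n⁻¹ * x * n)) * n⁻¹ := by group
        _ = n * ((n⁻¹ * x * n) * u) * n⁻¹ := by rw [h1]
        _ = x * (n * u * n⁻¹) := by group
    · rw [conj_pow, hu3, mul_one, mul_inv_cancel]
  -- the preimage of `Q` in `N`
  set M : Subgroup G := N ⊓ Q.comap π with hM
  have hcQ' : ∀ y ∈ Q, c⁻¹ * y * c ∈ Q := by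
    intro y hy
    have h1 : (Q.map (MulAut.conj c).toMonoidHom : Subgroup (G ⧸ K)) = Q := by
      refine Subgroup.eq_of_le_of_card_ge ?_ ?_
      · rintro _ ⟨u, hu, rfl⟩
        exact hcQ u hu
      · rw [Subgroup.card_map_of_injective (MulAut.conj c).injective]
    rw [← h1] at hy
    obtain ⟨t, ht, rfl⟩ := hy
    have h2 : c⁻¹ * ((MulAut.conj c).toMonoidHom t) * c = t := by
      change c⁻¹ * (c * t * c⁻¹) * c = t
      group
    rw [h2]
    exact ht
  obtain ⟨x, hxN, hxc⟩ := hNs c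
  have hxM : ∀ m ∈ M, x * m * x⁻¹ ∈ M := by
    rintro m ⟨hm1, hm2⟩
    refine ⟨N.mul_mem (N.mul_mem hxN hm1) (N.inv_mem hxN), ?_⟩
    change π (x * m * x⁻¹) ∈ Q
    rw [map_mul, map_mul, map_inv, hxc]
    exact hcQ _ hm2
  have hxM' : ∀ m ∈ M, x⁻¹ * m * x ∈ M := by
    rintro m ⟨hm1, hm2⟩
    refine ⟨N.mul_mem (N.mul_mem (N.inv_mem hxN) hm1) hxN, ?_⟩
    change π (x⁻¹ * m * x) ∈ Q
    rw [map_mul, map_mul, map_inv, hxc]
    exact hcQ' _ hm2
  let σ : MulAut M :=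
    { toFun := fun m => ⟨x * m * x⁻¹, hxM m m.2⟩
      invFun := fun m => ⟨x⁻¹ * m * x, hxM' m m.2⟩
      left_inv := fun m => Subtype.ext (by change x⁻¹ * (x * (m : G) * x⁻¹) * x = m; group)
      right_inv := fun m => Subtype.ext (by change x * (x⁻¹ * (m : G) * x) * x⁻¹ = m; group)
      map_mul' := fun a b => Subtype.ext (by
        change x * ((a : G) * b) * x⁻¹ = (x * a * x⁻¹) * (x * b * x⁻¹); group) }
  obtain ⟨P₁⟩ : Nonempty (Sylow v M) := inferInstance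
  obtain ⟨m, hm⟩ := MulAction.exists_smul_eq M (σ • P₁) P₁
  set P : Subgroup G := (P₁ : Subgroup M).map M.subtype with hP
  have hPp : IsPGroup v P := P₁.isPGroup'.map _
  have hPM : P ≤ M := Subgroup.map_subtype_le _
  -- `m x` normalizes `P`
  have hmx : ∀ p ∈ P, ((m : G) * x) * p * ((m : G) * x)⁻¹ ∈ P := by
    rintro _ ⟨p, hp, rfl⟩
    have h1 : σ p ∈ (σ • P₁ : Sylow v M) := ⟨p, hp, rfl⟩
    have h2 : MulAut.conj m (σ p) ∈ (m • (σ • P₁) : Sylow v M) := ⟨σ p, h1, rfl⟩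
    rw [hm] at h2
    refine ⟨_, h2, ?_⟩
    change (m : G) * (x * (p : G) * x⁻¹) * (m : G)⁻¹ = (m : G) * x * p * ((m : G) * x)⁻¹
    group
  -- `P` covers `Q`
  have hPQ : ∀ g ∈ Q, ∃ p ∈ P, π p = g := by
    intro g hg
    let πM : M →* Q := (π.comp M.subtype).codRestrict Q (fun m => m.2.2)
    have hsur : Function.Surjective πM := by
      rintro ⟨g, hg⟩
      obtain ⟨n, hn, hn'⟩ := hNs g
      exact ⟨⟨n, hn, by change π n ∈ Q; rw [hn']; exact hg⟩, Subtype.ext hn'⟩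
    have h1 : ((P₁.mapSurjective hsur : Sylow v Q) : Subgroup Q) = ⊤ := by
      have h3 : IsPGroup v (⊤ : Subgroup Q) := IsPGroup.of_equiv hQ Subgroup.topEquiv.symm
      exact (P₁.mapSurjective hsur).is_maximal' h3 le_top |>.symm
    have h2 : (⟨g, hg⟩ : Q) ∈ ((P₁.mapSurjective hsur : Sylow v Q) : Subgroup Q) := h1 ▸ mem_top _
    obtain ⟨p, hp, hp'⟩ := h2
    exact ⟨p, ⟨p, hp, rfl⟩, congrArg Subtype.val hp'⟩
  have hmQ : π m ∈ Q := m.2.2
  obtain ⟨p₁, hp₁, hp₁'⟩ := hPQ _ hmQ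
  -- the corrected element
  obtain ⟨x₂, hx₂⟩ : ∃ x₂ : G, x₂ = p₁⁻¹ * ((m : G) * x) := ⟨_, rfl⟩
  have hx₂N : x₂ ∈ N := by
    rw [hx₂]
    exact N.mul_mem (N.inv_mem (hPM hp₁).1) (N.mul_mem m.2.1 hxN)
  have hx₂c : π x₂ = c := by
    rw [hx₂, map_mul, map_inv, hp₁', map_mul, hxc]
    group
  have hx₂P : ∀ p ∈ P, x₂ * p * x₂⁻¹ ∈ P := by
    intro p hp
    rw [hx₂]
    have h1 : p₁⁻¹ * ((m : G) * x) * p * (p₁⁻¹ * ((m : G) * x))⁻¹ = p₁⁻¹ * (((m : G) * x) * p * ((m : G) * x)⁻¹) * p₁ := by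
      group
    rw [h1]
    exact P.mul_mem (P.mul_mem (P.inv_mem hp₁) (hmx p hp)) hp₁
  -- the element of order `w`
  obtain ⟨y, hyN, hyc, hyP, hyw⟩ : ∃ y ∈ N, π y = c ∧ (∀ p ∈ P, y * p * y⁻¹ ∈ P) ∧ y ^ w = 1 := by
    have h1 : x₂ ^ w ∈ K := by
      rw [← hπk, map_pow, hx₂c, hc]
    have h2 : orderOf (x₂ ^ w) ∣ Nat.card K := by
      have := orderOf_dvd_natCard (⟨x₂ ^ w, h1⟩ : K)
      rwa [Subgroup.orderOf_mk] at this
    have h3 : Nat.Coprime (orderOf (x₂ ^ w)) w :=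
      ((Nat.Prime.coprime_iff_not_dvd hw).2 fun h => hwK (h.trans h2)).symm
    obtain ⟨b, hb⟩ := Nat.exists_mul_mod_eq_one_of_coprime h3 hw.one_lt
    have hpow : ∀ k : ℕ, ∀ p ∈ P, x₂ ^ k * p * (x₂ ^ k)⁻¹ ∈ P := by
      intro k
      induction k with
      | zero => intro p hp; simpa using hp
      | succ k ih =>
        intro p hp
        have h4 := hx₂P _ (ih p hp)
        have h5 : x₂ ^ (k + 1) * p * (x₂ ^ (k + 1))⁻¹ = x₂ * (x₂ ^ k * p * (x₂ ^ k)⁻¹) * x₂⁻¹ := by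
          rw [pow_succ']
          group
        rwa [h5]
    refine ⟨x₂ ^ (orderOf (x₂ ^ w) * b), N.pow_mem hx₂N _, ?_, hpow _, ?_⟩
    · rw [map_pow, hx₂c]
      conv_rhs => rw [← pow_one c]
      rw [pow_eq_pow_iff_modEq]
      have h4 : orderOf c ∣ w := orderOf_dvd_of_pow_eq_one hc
      refine Nat.ModEq.of_dvd h4 ?_
      rw [Nat.ModEq, hb.2, Nat.mod_eq_of_lt hw.one_lt]
    · rw [← pow_mul, mul_comm, pow_mul, pow_mul, pow_orderOf_eq_one, one_pow]
  have hy1 : y ≠ 1 := by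
    rintro rfl
    rw [map_one] at hyc
    obtain ⟨q₀, -, h⟩ := hnc
    rw [← hyc, one_mul, mul_one] at h
    exact h rfl
  by_cases hfix : ∀ u ∈ om r R, y * u = u * y → u = 1
  · -- the commutators centralize `U`
    have hcardP : ∃ k : ℕ, Nat.card P = v ^ k := IsPGroup.iff_card.1 hPp
    obtain ⟨k, hk⟩ := hcardP
    have hPU : ∀ p ∈ P, ∀ u ∈ om r R, p * u * p⁻¹ ∈ om r R := fun p hp => hUN p (hPM hp).1
    have hsolP : Group.IsSolvable P := by
      have := hPp.isNilpotent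
      infer_instance
    have hcomm := shult_fix hr hw hw2 hwr (om r R) P y
      (fun a ha b hb => ha.2.1 b hb.1) (fun u hu => hu.2.2) hPU (hUN y hyN) hyP hyw hsolP
      (by rw [hk]; exact (hv.odd_of_ne_two hv2).pow)
      (by rw [hk]; exact fun h => hvw ((Nat.prime_dvd_prime_iff_eq hw hv).1 (hw.dvd_of_dvd_pow h)).symm)
      (by rw [hk]; exact fun h => hvr ((Nat.prime_dvd_prime_iff_eq hr hv).1 (hr.dvd_of_dvd_pow h)).symm) hfix
    obtain ⟨q₀, hq₀, hq₀'⟩ := hnc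
    obtain ⟨p₀, hp₀, hp₀'⟩ := hPQ q₀ hq₀
    -- the centralizer of `U` in `N`
    set C : Subgroup G := N ⊓ centralizer (om r R : Set G) with hC
    have hdC : y * p₀ * y⁻¹ * p₀⁻¹ ∈ C := by
      refine Subgroup.mem_inf.2
        ⟨N.mul_mem (N.mul_mem (N.mul_mem hyN (hPM hp₀).1) (N.inv_mem hyN)) (N.inv_mem (hPM hp₀).1), ?_⟩
      rw [mem_centralizer_iff]
      intro u hu
      exact (hcomm p₀ hp₀ u hu).symm
    have hCn : ∀ n ∈ N, ∀ z ∈ C, n * z * n⁻¹ ∈ C := by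
      intro n hn z hz
      obtain ⟨hz1, hz2⟩ := Subgroup.mem_inf.1 hz
      refine Subgroup.mem_inf.2 ⟨N.mul_mem (N.mul_mem hn hz1) (N.inv_mem hn), ?_⟩
      rw [mem_centralizer_iff] at hz2 ⊢
      intro u hu
      have h1 := hz2 _ (hUN n⁻¹ (N.inv_mem hn) u hu)
      rw [inv_inv] at h1
      calc u * (n * z * n⁻¹) = n * ((n⁻¹ * u * n) * z) * n⁻¹ := by group
        _ = n * (z * (n⁻¹ * u * n)) * n⁻¹ := by rw [h1]
        _ = n * z * n⁻¹ * u := by group
    have hTn : (C.map π).Normal := by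
      constructor
      rintro _ ⟨z, hz, rfl⟩ g
      obtain ⟨n, hn, rfl⟩ := hNs g
      exact ⟨n * z * n⁻¹, hCn n hn z hz, by rw [map_mul, map_mul, map_inv]⟩
    have hST : S ≤ C.map π := by
      have h1 : ((C.map π).subgroupOf S).Normal := inferInstance
      rcases hS.eq_bot_or_eq_top_of_normal _ h1 with h2 | h2
      · exfalso
        have hdS : π (y * p₀ * y⁻¹ * p₀⁻¹) ∈ S := by
          rw [map_mul, map_mul, map_mul, map_inv, map_inv, hyc, hp₀']
          exact S.mul_mem (hSn.conj_mem _ (hQS hq₀) _) (S.inv_mem (hQS hq₀))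
        have h3 : (⟨π (y * p₀ * y⁻¹ * p₀⁻¹), hdS⟩ : S) ∈ (C.map π).subgroupOf S := ⟨_, hdC, rfl⟩
        rw [h2, mem_bot] at h3
        have h4 : π (y * p₀ * y⁻¹ * p₀⁻¹) = 1 := congrArg Subtype.val h3
        rw [map_mul, map_mul, map_mul, map_inv, map_inv, hyc, hp₀', mul_inv_eq_one, mul_inv_eq_iff_eq_mul] at h4
        exact hq₀' h4
      · exact Subgroup.subgroupOf_eq_top.1 h2
    have hwC : w ∣ Nat.card C := by
      refine hwS.trans ((Subgroup.card_dvd_of_le hST).trans ?_)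
      exact Subgroup.card_map_dvd _ _
    obtain ⟨z, hz⟩ := exists_prime_orderOf_dvd_card' (G := C) w hwC
    have hz' : orderOf (z : G) = w := by rw [Subgroup.orderOf_coe, hz]
    refine ⟨(z : G) * u₀, order_mul hw hr hwr ?_ ?_ hu₀.2.2 hu₁ ?_⟩
    · rw [← hz']; exact pow_orderOf_eq_one _
    · intro h
      rw [h, orderOf_one] at hz'
      exact hw.one_lt.ne hz'
    · have h1 := (Subgroup.mem_inf.1 z.2).2
      rw [mem_centralizer_iff] at h1
      exact (h1 u₀ hu₀).symm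
  · push Not at hfix
    obtain ⟨u, hu, huy, hu1⟩ := hfix
    exact ⟨y * u, order_mul hw hr hwr hyw hy1 hu.2.2 hu1 huy⟩

end Cfsg.Agent.H228.GoodK
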