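import Cfsg.Agent.H227.WeakChar

/-!
# `p`-reduced normal subgroups in an ambient group

`Red p L V`: `V` is a `p`-reduced normal subgroup of the subgroup `L` of `H`, stated in the ambient group.
`Y_L = largestPReducedOf p L` is the largest one.  The basic criterion `red_of_sylow` gives new ones.
-/

set_option autoImplicit false
set_option linter.unusedSectionVars false

namespace Cfsg.Agent.H228

open Subgroup Cfsg Cfsg.Agent.H227.Weak

variable {H : Type*} [Group H]

/-- `V` is a `p`-reduced normal subgroup of `L` (ambient form) -/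
structure Red (p : ℕ) (L V : Subgroup H) : Prop where
  le : V ≤ L
  normal : L ≤ normalizer (V : Set H)
  comm : V ≤ centralizer (V : Set H)
  pow : ∀ v ∈ V, v ^ p = 1
  red : ∀ D : Subgroup H, D ≤ L → L ≤ normalizer (D : Set H) →
    (∀ d ∈ D, ∃ k : ℕ, d ^ p ^ k ∈ centralizer (V : Set H)) → D ≤ centralizer (V : Set H)

theorem Red.isPGroup {p : ℕ} {L V : Subgroup H} (h : Red p L V) : IsPGroup p V := fun v =>
  ⟨1, Subtype.ext (by simpa using h.pow v v.2)⟩

theorem mem_centralizer_map {L : Subgroup H} {V : Subgroup L} {x : L} :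
    (x : H) ∈ centralizer ((V.map L.subtype : Subgroup H) : Set H) ↔ x ∈ centralizer (V : Set L) := by
  rw [mem_centralizer_iff, mem_centralizer_iff]
  constructor
  · intro h y hy
    exact Subtype.ext (h y ⟨y, hy, rfl⟩)
  · rintro h _ ⟨y, hy, rfl⟩
    exact congrArg Subtype.val (h y hy)

theorem red_of_isPReducedNormal {p : ℕ} {L : Subgroup H} {V : Subgroup L}
    (h : IsPReducedNormal p V) : Red p L (V.map L.subtype) := by
  obtain ⟨hn, ⟨hc, hp⟩, hcn, hcore⟩ := h
  refine ⟨map_subtype_le V, ?_, ?_, ?_, ?_⟩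
  · rw [← normal_subgroupOf_iff_le_normalizer (map_subtype_le V)]
    rwa [subgroupOf, comap_map_eq_self_of_injective L.subtype_injective V]
  · rintro _ ⟨x, hx, rfl⟩
    refine mem_centralizer_map.2 ?_
    intro y hy
    have h2 := hc.is_comm.comm (⟨y, hy⟩ : V) ⟨x, hx⟩
    exact congrArg Subtype.val h2
  · rintro _ ⟨x, hx, rfl⟩
    have := hp x hx
    simpa using congrArg Subtype.val this
  · intro D hDL hLD hD x hx
    have hDn : (D.subgroupOf L).Normal := (normal_subgroupOf_iff_le_normalizer hDL).2 hLD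
    have h1 : ((D.subgroupOf L).map (QuotientGroup.mk' (centralizer (V : Set L)))).Normal :=
      hDn.map _ (QuotientGroup.mk'_surjective _)
    have h2 : IsPGroup p ((D.subgroupOf L).map (QuotientGroup.mk' (centralizer (V : Set L)))) := by
      rintro ⟨_, ⟨d, hd, rfl⟩⟩
      obtain ⟨k, hk⟩ := hD d (mem_subgroupOf.1 hd)
      refine ⟨k, Subtype.ext ?_⟩
      have h3 : d ^ p ^ k ∈ centralizer (V : Set L) := by
        rw [← mem_centralizer_map]
        simpa using hk
      have h4 : (QuotientGroup.mk' (centralizer (V : Set L))) (d ^ p ^ k) = 1 := by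
        rw [QuotientGroup.mk'_apply, QuotientGroup.eq_one_iff]
        exact h3
      rw [map_pow] at h4
      exact h4
    have h3 := Lib.Cores.le_pCore h1 h2
    rw [hcore] at h3
    have h4 : (QuotientGroup.mk' (centralizer (V : Set L))) ⟨x, hDL hx⟩ = 1 :=
      (mem_bot).1 (h3 ⟨⟨x, hDL hx⟩, hx, rfl⟩)
    rw [QuotientGroup.mk'_apply, QuotientGroup.eq_one_iff] at h4
    exact mem_centralizer_map.2 h4

theorem isPReducedNormal_of_red {p : ℕ} {L V : Subgroup H} (h : Red p L V) :
    IsPReducedNormal p (V.subgroupOf L) := by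
  have hmap : (V.subgroupOf L).map L.subtype = V := Subgroup.map_subgroupOf_eq_of_le h.le
  have hVn : (V.subgroupOf L).Normal := (normal_subgroupOf_iff_le_normalizer h.le).2 h.normal
  have hmem : ∀ x : L, x ∈ centralizer ((V.subgroupOf L : Subgroup L) : Set L) ↔
      (x : H) ∈ centralizer (V : Set H) := by
    intro x
    rw [← mem_centralizer_map, hmap]
  refine ⟨hVn, ⟨⟨⟨fun x y => ?_⟩⟩, fun a ha => ?_⟩, inferInstance, ?_⟩
  · apply Subtype.ext
    apply Subtype.ext
    exact (h.comm (mem_subgroupOf.1 y.2) _ (mem_subgroupOf.1 x.2))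
  · exact Subtype.ext (by simpa using h.pow _ (mem_subgroupOf.1 ha))
  · set C := centralizer ((V.subgroupOf L : Subgroup L) : Set L) with hC
    rw [eq_bot_iff]
    intro z hz
    obtain ⟨x, rfl⟩ := QuotientGroup.mk'_surjective C z
    set K : Subgroup L := (pCore p (L ⧸ C)).comap (QuotientGroup.mk' C) with hK
    have hcn : (pCore p (L ⧸ C)).Normal := Lib.Cores.pCore_normal p
    have hKn : K.Normal := hcn.comap _
    have hKs : (K.map L.subtype).subgroupOf L = K := comap_map_eq_self_of_injective L.subtype_injective K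
    have h1 : K.map L.subtype ≤ centralizer (V : Set H) := by
      refine h.red _ (map_subtype_le K) ?_ ?_
      · rw [← normal_subgroupOf_iff_le_normalizer (map_subtype_le K), hKs]
        exact hKn
      · rintro _ ⟨d, hd, rfl⟩
        obtain ⟨k, hk⟩ := Lib.Cores.pCore_isPGroup p ⟨_, hd⟩
        refine ⟨k, ?_⟩
        have h2 : (QuotientGroup.mk' C) (d ^ p ^ k) = 1 := by
          rw [map_pow]
          simpa using congrArg Subtype.val hk
        rw [QuotientGroup.mk'_apply, QuotientGroup.eq_one_iff, hmem] at h2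
        simpa using h2
    have h2 : x ∈ C := by
      rw [hmem]
      exact h1 ⟨x, hz, rfl⟩
    rw [mem_bot, QuotientGroup.mk'_apply, QuotientGroup.eq_one_iff]
    exact h2

/-- the join of `p`-reduced normal subgroups is one -/
theorem red_iSup {p : ℕ} {L : Subgroup H} {ι : Type*} (V : ι → Subgroup H)
    (hV : ∀ i, Red p L (V i)) : Red p L (⨆ i, V i) := by
  have hc : (⨆ i, V i) ≤ centralizer ((⨆ i, V i : Subgroup H) : Set H) := by
    have h1 : ∀ i j, V i ≤ centralizer (V j : Set H) := fun i j =>
      (hV j).red _ (hV i).le (hV i).normal fun d hd => ⟨1, by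
        rw [pow_one, (hV i).pow d hd]; exact one_mem _⟩
    refine iSup_le fun i => ?_
    rw [le_centralizer_iff]
    exact iSup_le fun j => h1 j i
  refine ⟨iSup_le fun i => (hV i).le, ?_, hc, ?_, ?_⟩
  · intro g hg
    rw [← cj_eq_self_iff]
    have : cj g (⨆ i, V i) = ⨆ i, cj g (V i) := Subgroup.map_iSup _ _
    rw [this]
    exact iSup_congr fun i => cj_eq_self_iff.2 ((hV i).normal hg)
  · let A : Subgroup H :=
      { carrier := {v | v ∈ (⨆ i, V i) ∧ v ^ p = 1}
        one_mem' := ⟨one_mem _, one_pow _⟩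
        mul_mem' := by
          rintro x y ⟨hx, hx'⟩ ⟨hy, hy'⟩
          refine ⟨mul_mem hx hy, ?_⟩
          have h1 : Commute x y := (hc hy) x hx
          rw [h1.mul_pow, hx', hy', one_mul]
        inv_mem' := by
          rintro x ⟨hx, hx'⟩
          exact ⟨inv_mem hx, by rw [inv_pow, hx', inv_one]⟩ }
    have hA : (⨆ i, V i) ≤ A := iSup_le fun i v hv => ⟨mem_iSup_of_mem i hv, (hV i).pow v hv⟩
    exact fun v hv => (hA hv).2
  · intro D hDL hLD hD
    rw [le_centralizer_iff]
    refine iSup_le fun i => ?_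
    rw [le_centralizer_iff]
    refine (hV i).red D hDL hLD fun d hd => ?_
    obtain ⟨k, hk⟩ := hD d hd
    exact ⟨k, centralizer_le (le_iSup V i) hk⟩

theorem largestPReducedOf_eq (p : ℕ) (L : Subgroup H) :
    largestPReducedOf p L = ⨆ V : {V : Subgroup H // Red p L V}, (V : Subgroup H) := by
  apply le_antisymm
  · rw [largestPReducedOf, largestPReduced, sSup_eq_iSup', Subgroup.map_iSup]
    refine iSup_le fun V => ?_
    exact le_iSup (fun V : {V : Subgroup H // Red p L V} => (V : Subgroup H))
      ⟨_, red_of_isPReducedNormal V.2⟩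
  · refine iSup_le fun V => ?_
    have h1 := isPReducedNormal_of_red V.2
    have h2 : (V : Subgroup H).subgroupOf L ≤ largestPReduced p L := le_sSup h1
    rw [← Subgroup.map_subgroupOf_eq_of_le V.2.le]
    exact Subgroup.map_mono h2

/-- `Y_L` is `p`-reduced -/
theorem red_largest (p : ℕ) (L : Subgroup H) : Red p L (largestPReducedOf p L) := by
  rw [largestPReducedOf_eq]
  exact red_iSup _ fun V => V.2

theorem le_largest {p : ℕ} {L V : Subgroup H} (h : Red p L V) : V ≤ largestPReducedOf p L := by
  rw [largestPReducedOf_eq]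
  exact le_iSup (fun V : {V : Subgroup H // Red p L V} => (V : Subgroup H)) ⟨V, h⟩

end Cfsg.Agent.H228
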