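import Cfsg.Agent.H228.Red

/-!
# `p`-reduced normal subgroups of overgroups of a Sylow subgroup

`T` is a Sylow `p`-subgroup of `H`.  Main results (`L, M ≥ T`, `O_p ≠ 1`, `C_H(O_p(L)) ≤ O_p(L)`):
* `le_largest_of` : the criterion for `W ≤ Y_M`;
* `largest_mono` : `Y_L ≤ Y_M` if `L ≤ M`;
* `largest_ne_bot` : `Y_L ≠ 1`.
-/

set_option autoImplicit false
set_option linter.unusedSectionVars false

namespace Cfsg.Agent.H228

open Subgroup Cfsg Cfsg.Agent.H227.Weak

variable {H : Type*} [Group H]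

section fin

variable [Finite H] {p : ℕ} [Fact p.Prime]

theorem card_mul_relIndex {A B : Subgroup H} (h : A ≤ B) : Nat.card A * A.relIndex B = Nat.card B := by
  have := relIndex_mul_relIndex ⊥ A B bot_le h
  rwa [relIndex_bot_left, relIndex_bot_left] at this

theorem relIndex_sup_of_normal (P N : Subgroup H) [N.Normal] :
    P.relIndex (P ⊔ N) = P.relIndex N := by
  have h1 : Nat.card (P ⊔ N : Subgroup H) = Nat.card N * N.relIndex P := by
    rw [← relIndex_sup_right]
    exact (card_mul_relIndex le_sup_right).symm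
  have h2 : Nat.card P = Nat.card (N ⊓ P : Subgroup H) * N.relIndex P := by
    rw [← inf_relIndex_right]
    exact (card_mul_relIndex inf_le_right).symm
  have h3 : Nat.card N = Nat.card (N ⊓ P : Subgroup H) * P.relIndex N := by
    rw [← inf_relIndex_right, inf_comm P N]
    exact (card_mul_relIndex inf_le_left).symm
  have h4 : Nat.card (P ⊔ N : Subgroup H) = Nat.card P * P.relIndex (P ⊔ N) := by
    exact (card_mul_relIndex le_sup_left).symm
  have hP : 0 < Nat.card P := Nat.card_pos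
  have : Nat.card P * P.relIndex (P ⊔ N) = Nat.card P * P.relIndex N := by
    rw [← h4, h1, h3, h2]; ring
  exact Nat.eq_of_mul_eq_mul_left hP this

/-- the index of `T ∩ D` in a normal subgroup `D` of an overgroup of the Sylow subgroup `T` -/
theorem not_dvd_relIndex (T : Sylow p H) {L D : Subgroup H} (hTL : (T : Subgroup H) ≤ L)
    (hDL : D ≤ L) (hLD : L ≤ normalizer (D : Set H)) : ¬ p ∣ (T : Subgroup H).relIndex D := by
  have hn : (D.subgroupOf L).Normal := (normal_subgroupOf_iff_le_normalizer hDL).2 hLD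
  intro hp
  refine T.not_dvd_index ?_
  refine hp.trans ?_
  rw [← relIndex_subgroupOf (H := (T : Subgroup H)) hDL, ← relIndex_sup_of_normal]
  refine (relIndex_dvd_index_of_le le_sup_left).trans ?_
  exact relIndex_dvd_index_of_le hTL

/-- `D = C (T ∩ D)` if `D / C` is a `p`-group -/
theorem le_of_pow_mem (T : Sylow p H) {L D C E : Subgroup H} (hTL : (T : Subgroup H) ≤ L)
    (hDL : D ≤ L) (hLD : L ≤ normalizer (D : Set H)) (hCD : D ≤ normalizer (C : Set H))
    (hpow : ∀ d ∈ D, ∃ k : ℕ, d ^ p ^ k ∈ C) (hCE : C ⊓ D ≤ E) (hTE : (T : Subgroup H) ⊓ D ≤ E) :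
    D ≤ E := by
  have h1 : ¬ p ∣ E.relIndex D := by
    intro h
    refine not_dvd_relIndex T hTL hDL hLD (h.trans ?_)
    rw [← inf_relIndex_right (T : Subgroup H)]
    exact relIndex_dvd_of_le_left _ hTE
  have h2 : E.relIndex D ∣ C.relIndex D := by
    rw [← inf_relIndex_right C]
    exact relIndex_dvd_of_le_left _ hCE
  have hn : (C.subgroupOf D).Normal := by
    refine ⟨fun x hx g => ?_⟩
    rw [mem_subgroupOf] at hx ⊢
    exact (mem_normalizer_iff.1 (hCD g.2) _).1 hx
  have h3 : IsPGroup p (D ⧸ C.subgroupOf D) := by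
    intro z
    obtain ⟨x, rfl⟩ := QuotientGroup.mk'_surjective _ z
    obtain ⟨k, hk⟩ := hpow x x.2
    refine ⟨k, ?_⟩
    rw [← map_pow, QuotientGroup.mk'_apply, QuotientGroup.eq_one_iff, mem_subgroupOf]
    simpa using hk
  obtain ⟨n, hn'⟩ := IsPGroup.iff_card.1 h3
  have h4 : C.relIndex D = p ^ n := hn'
  rw [h4] at h2
  obtain ⟨m, -, hm⟩ := (Nat.dvd_prime_pow Fact.out).1 h2
  rcases Nat.eq_zero_or_pos m with rfl | hpos
  · rw [pow_zero] at hm
    exact relIndex_eq_one.1 hm
  · exact absurd (by rw [hm]; exact dvd_pow_self p hpos.ne') h1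

/-- the normal closure of `W` under `M` -/
def nc (M W : Subgroup H) : Subgroup H := ⨆ g : M, cj (g : H) W

theorem le_nc (M W : Subgroup H) : W ≤ nc M W := by
  have := le_iSup (fun g : M => cj (g : H) W) 1
  simpa [nc, cj_one] using this

theorem nc_le {M W V : Subgroup H} (h : W ≤ V) (hMV : M ≤ normalizer (V : Set H)) : nc M W ≤ V := by
  refine iSup_le fun g => ?_
  rw [← cj_eq_self_iff.2 (hMV g.2)]
  exact cj_mono _ h

theorem le_normalizer_nc (M W : Subgroup H) : M ≤ normalizer ((nc M W : Subgroup H) : Set H) := by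
  intro g hg
  rw [← cj_eq_self_iff]
  have key : ∀ g ∈ M, cj g (nc M W) ≤ nc M W := by
    intro g hg
    have : cj g (nc M W) = ⨆ x : M, cj g (cj (x : H) W) := Subgroup.map_iSup _ _
    rw [this]
    refine iSup_le fun x => ?_
    rw [cj_cj]
    exact le_iSup (fun g : M => cj (g : H) W) ⟨g * x, M.mul_mem hg x.2⟩
  refine le_antisymm (key g hg) ?_
  have := cj_mono g (key g⁻¹ (M.inv_mem hg))
  rwa [cj_cj_inv] at this

/-- `Ω₁(Z(O_p(M)))` -/
def oz (p : ℕ) (M : Subgroup H) : Subgroup H where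
  carrier := {z | z ∈ pCoreOf p M ∧ z ∈ centralizer ((pCoreOf p M : Subgroup H) : Set H) ∧ z ^ p = 1}
  one_mem' := ⟨one_mem _, one_mem _, one_pow _⟩
  mul_mem' := by
    rintro x y ⟨hx, hxc, hx'⟩ ⟨hy, hyc, hy'⟩
    refine ⟨mul_mem hx hy, mul_mem hxc hyc, ?_⟩
    have h1 : Commute x y := hyc x hx
    rw [h1.mul_pow, hx', hy', one_mul]
  inv_mem' := by
    rintro x ⟨hx, hxc, hx'⟩
    exact ⟨inv_mem hx, inv_mem hxc, by rw [inv_pow, hx', inv_one]⟩

theorem mem_oz {M : Subgroup H} {z : H} : z ∈ oz p M ↔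
    z ∈ pCoreOf p M ∧ z ∈ centralizer ((pCoreOf p M : Subgroup H) : Set H) ∧ z ^ p = 1 := Iff.rfl

theorem oz_le (M : Subgroup H) : oz p M ≤ pCoreOf p M := fun _ h => h.1

theorem normalizer_le_normalizer_oz (M : Subgroup H) :
    normalizer (M : Set H) ≤ normalizer ((oz p M : Subgroup H) : Set H) := by
  have key : ∀ g ∈ normalizer (M : Set H), ∀ z ∈ oz p M, g * z * g⁻¹ ∈ oz p M := by
    intro g hg z hz
    have h1 := normalizer_le_normalizer_pCoreOf p M hg
    have h2 := normalizer_le_normalizer_centralizer _ h1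
    refine ⟨(mem_normalizer_iff.1 h1 _).1 hz.1, (mem_normalizer_iff.1 h2 _).1 hz.2.1, ?_⟩
    rw [conj_pow, hz.2.2]; group
  intro g hg
  rw [mem_normalizer_iff]
  intro z
  refine ⟨key g hg z, fun h => ?_⟩
  have := key g⁻¹ (inv_mem hg) _ h
  simpa [mul_assoc] using this

theorem le_normalizer_oz (M : Subgroup H) : M ≤ normalizer ((oz p M : Subgroup H) : Set H) :=
  le_normalizer.trans (normalizer_le_normalizer_oz M)

/-- `p`-reduced normal subgroups of `M` lie in `Ω₁(Z(O_p(M)))` -/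
theorem Red.le_oz {M V : Subgroup H} (h : Red p M V) : V ≤ oz p M := by
  have h1 : V ≤ pCoreOf p M := le_pCoreOf h.isPGroup h.le h.normal
  have h2 : pCoreOf p M ≤ centralizer (V : Set H) := by
    refine h.red _ (pCoreOf_le p M)
      (le_normalizer.trans (normalizer_le_normalizer_pCoreOf p M)) fun d hd => ?_
    obtain ⟨k, hk⟩ := isPGroup_pCoreOf (p := p) M ⟨d, hd⟩
    refine ⟨k, ?_⟩
    have : d ^ p ^ k = 1 := by simpa using congrArg Subtype.val hk
    rw [this]
    exact one_mem _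
  rw [le_centralizer_iff] at h2
  exact fun v hv => ⟨h1 hv, h2 hv, h.pow v hv⟩

/-- **The criterion**: `W ≤ Ω₁(Z(O_p(M)))` lies in `Y_M` if `T ∩ D` centralizes `W` whenever `D` is
normal in `M` and a `p`-group modulo the centralizer of `⟨W^M⟩`. -/
theorem red_nc (T : Sylow p H) {M W : Subgroup H} (hTM : (T : Subgroup H) ≤ M) (hW : W ≤ oz p M)
    (h : ∀ D : Subgroup H, D ≤ M → M ≤ normalizer (D : Set H) →
      (∀ d ∈ D, ∃ k : ℕ, d ^ p ^ k ∈ centralizer ((nc M W : Subgroup H) : Set H)) →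
      (T : Subgroup H) ⊓ D ≤ centralizer (W : Set H)) : Red p M (nc M W) := by
  have hV : nc M W ≤ oz p M := nc_le hW (le_normalizer_oz M)
  refine ⟨hV.trans ((oz_le M).trans (pCoreOf_le p M)), le_normalizer_nc M W, ?_, ?_, ?_⟩
  · intro v hv
    exact centralizer_le (hV.trans (oz_le M)) (hV hv).2.1
  · exact fun v hv => (hV hv).2.2
  · intro D hDM hMD hD
    have hT := h D hDM hMD hD
    have hVn := le_normalizer_nc M W
    have hCn := hVn.trans (normalizer_le_normalizer_centralizer (nc M W))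
    have h1 : D ≤ centralizer (W : Set H) :=
      le_of_pow_mem T hTM hDM hMD (hDM.trans hCn) hD
        (inf_le_left.trans (centralizer_le (le_nc M W))) hT
    rw [le_centralizer_iff]
    refine nc_le ?_ ?_
    · rwa [le_centralizer_iff]
    · exact hMD.trans (normalizer_le_normalizer_centralizer D)

theorem le_largest_of (T : Sylow p H) {M W : Subgroup H} (hTM : (T : Subgroup H) ≤ M)
    (hW : W ≤ oz p M)
    (h : ∀ D : Subgroup H, D ≤ M → M ≤ normalizer (D : Set H) →
      (∀ d ∈ D, ∃ k : ℕ, d ^ p ^ k ∈ centralizer ((nc M W : Subgroup H) : Set H)) →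
      (T : Subgroup H) ⊓ D ≤ centralizer (W : Set H)) : W ≤ largestPReducedOf p M :=
  (le_nc M W).trans (le_largest (red_nc T hTM hW h))

theorem pCoreOf_le_sylow (T : Sylow p H) {M : Subgroup H} (hTM : (T : Subgroup H) ≤ M) :
    pCoreOf p M ≤ (T : Subgroup H) := by
  have h1 := Lib.Cores.pCore_le_sylow (T.subtype hTM)
  have h2 := Subgroup.map_mono (f := M.subtype) h1
  refine h2.trans ?_
  rw [Sylow.coe_subtype, Subgroup.map_subgroupOf_eq_of_le hTM]

/-- `O_p(M) ≤ O_p(L)` for `T ≤ L ≤ M` -/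
theorem pCoreOf_anti (T : Sylow p H) {L M : Subgroup H} (hTL : (T : Subgroup H) ≤ L)
    (hLM : L ≤ M) : pCoreOf p M ≤ pCoreOf p L :=
  le_pCoreOf (isPGroup_pCoreOf M) ((pCoreOf_le_sylow T (hTL.trans hLM)).trans hTL)
    (hLM.trans (le_normalizer.trans (normalizer_le_normalizer_pCoreOf p M)))

theorem mem_charP {L : Subgroup H} : L ∈ charPSubgroups p H ↔ pCoreOf p L ≠ ⊥ ∧
    centralizer ((pCoreOf p L : Subgroup H) : Set H) ≤ pCoreOf p L := by
  unfold charPSubgroups pCoreOf
  rw [Set.mem_ofPred_eq, Ne, Ne, Subgroup.map_eq_bot_iff_of_injective _ L.subtype_injective]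

/-- **Monotonicity** of `Y_L` -/
theorem largest_mono (T : Sylow p H) {L M : Subgroup H} (hTL : (T : Subgroup H) ≤ L)
    (hLM : L ≤ M) (hM : centralizer ((pCoreOf p M : Subgroup H) : Set H) ≤ pCoreOf p M) :
    largestPReducedOf p L ≤ largestPReducedOf p M := by
  have hR := red_largest p L
  set W := largestPReducedOf p L with hWdef
  refine le_largest_of T (hTL.trans hLM) ?_ ?_
  · intro w hw
    have h1 := hR.le_oz hw
    have h2 : w ∈ centralizer ((pCoreOf p M : Subgroup H) : Set H) :=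
      centralizer_le (pCoreOf_anti T hTL hLM) h1.2.1
    exact ⟨hM h2, h2, h1.2.2⟩
  · intro D hDM hMD hD
    have h1 : D ⊓ L ≤ centralizer (W : Set H) := by
      refine hR.red _ inf_le_right ?_ ?_
      · intro g hg
        rw [← cj_eq_self_iff, cj_inf, cj_eq_self_of_mem hg, cj_eq_self_iff.2 (hMD (hLM hg))]
      · rintro d ⟨hd, -⟩
        obtain ⟨k, hk⟩ := hD d hd
        exact ⟨k, centralizer_le (le_nc M W) hk⟩
    rintro x ⟨hxT, hxD⟩
    exact h1 ⟨hxD, hTL hxT⟩

/-- `Ω₁(Z(T)) ≤ Y_L` -/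
theorem center_le_largest (T : Sylow p H) {L : Subgroup H} (hTL : (T : Subgroup H) ≤ L)
    (hL : centralizer ((pCoreOf p L : Subgroup H) : Set H) ≤ pCoreOf p L) {z : H}
    (hz : z ∈ centralizer ((T : Subgroup H) : Set H)) (hzp : z ^ p = 1) :
    z ∈ largestPReducedOf p L := by
  have h1 : zpowers z ≤ largestPReducedOf p L := by
    have h2 : z ∈ centralizer ((pCoreOf p L : Subgroup H) : Set H) :=
      centralizer_le (pCoreOf_le_sylow T hTL) hz
    refine le_largest_of T hTL ?_ ?_
    · rw [zpowers_le]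
      exact ⟨hL h2, h2, hzp⟩
    · intro D _ _ _
      rw [le_centralizer_iff, zpowers_le]
      exact centralizer_le inf_le_left hz
  exact h1 (mem_zpowers z)

theorem largest_ne_bot (T : Sylow p H) {L : Subgroup H} (hTL : (T : Subgroup H) ≤ L)
    (hL : L ∈ charPSubgroups p H) : largestPReducedOf p L ≠ ⊥ := by
  rw [mem_charP] at hL
  have hT : (T : Subgroup H) ≠ ⊥ := fun h => hL.1 (by
    rw [eq_bot_iff, ← h]
    exact pCoreOf_le_sylow T hTL)
  have : Nontrivial (T : Subgroup H) := (Subgroup.nontrivial_iff_ne_bot _).2 hT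
  have h1 : Nontrivial (center (T : Subgroup H)) := T.isPGroup'.center_nontrivial
  have hcp : IsPGroup p (center (T : Subgroup H)) := T.isPGroup'.to_subgroup _
  obtain ⟨n, hn, hcard⟩ := hcp.nontrivial_iff_card.1 h1
  have hdvd : p ∣ Nat.card (center (T : Subgroup H)) := by
    rw [hcard]; exact dvd_pow_self p hn.ne'
  obtain ⟨x, hx⟩ := exists_prime_orderOf_dvd_card' p hdvd
  intro hbot
  have h2 : ((x : (T : Subgroup H)) : H) ∈ largestPReducedOf p L := by
    refine center_le_largest T hTL hL.2 ?_ ?_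
    · intro t ht
      exact congrArg Subtype.val (mem_center_iff.1 x.2 ⟨t, ht⟩)
    · have := pow_orderOf_eq_one x
      rw [hx] at this
      simpa using congrArg (fun y : center (T : Subgroup H) => ((y : (T : Subgroup H)) : H)) this
  rw [hbot, mem_bot] at h2
  have h3 : x = 1 := Subtype.ext (Subtype.ext h2)
  rw [h3, orderOf_one] at hx
  exact (Fact.out : p.Prime).one_lt.ne hx

end fin

end Cfsg.Agent.H228
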